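import Groth.Agent.SchLocX.Dominated
import Groth.Agent.CDiv6.Normal
import Mathlib.RingTheory.Valuation.Discrete.IsDiscreteValuationRing
import Mathlib.Order.Filter.AtTopBot.Basic

/-!
# Weak approximation at finitely many points of codimension one
-/

universe u

set_option linter.style.haveILetI false
set_option backward.isDefEq.respectTransparency false
set_option backward.isDefEq.respectTransparency.types false

open CategoryTheory AlgebraicGeometry WithZero Filter

namespace Groth.Agent.ArSurfX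

open Groth.Agent

section Valuations

variable {K : Type u} [Field K] {ι : Type*} (v : ι → Valuation K (WithZero (Multiplicative ℤ)))

theorem eventually_lt_pow {a : WithZero (Multiplicative ℤ)} (ha : 1 < a)
    (b : WithZero (Multiplicative ℤ)) : ∀ᶠ N : ℕ in atTop, b < a ^ N := by
  have ha0 : a ≠ 0 := (zero_lt_one.trans ha).ne'
  rw [← exp_log ha0, ← exp_zero, exp_lt_exp] at ha
  rcases eq_or_ne b 0 with rfl | hb
  · exact Eventually.of_forall fun N => zero_lt_iff.mpr (pow_ne_zero _ ha0)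
  · refine eventually_atTop.mpr ⟨(log b + 1).toNat, fun N hN => ?_⟩
    rw [← exp_log hb, ← exp_log ha0, ← exp_nsmul, exp_lt_exp, nsmul_eq_mul]
    have : (log b + 1) ≤ N := by omega
    nlinarith

theorem eventually_pow_le {a : WithZero (Multiplicative ℤ)} (ha : a < 1)
    {b : WithZero (Multiplicative ℤ)} (hb : b ≠ 0) : ∀ᶠ N : ℕ in atTop, a ^ N ≤ b := by
  rcases eq_or_ne a 0 with rfl | ha0
  · exact eventually_atTop.mpr ⟨1, fun N hN => by simp [zero_pow (by omega : N ≠ 0)]⟩
  · have : 1 < a⁻¹ := (one_lt_inv₀ (zero_lt_iff.mpr ha0)).mpr ha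
    filter_upwards [eventually_lt_pow this b⁻¹] with N hN
    rw [inv_pow] at hN
    exact ((inv_lt_inv₀ (zero_lt_iff.mpr hb) (zero_lt_iff.mpr (pow_ne_zero _ ha0))).mp hN).le

variable (hs : ∀ i, Function.Surjective (v i)) (hd : ∀ i j, i ≠ j → ∃ a, v i a ≤ 1 ∧ 1 < v j a)
include hs hd

theorem exists_sep_two {i j : ι} (h : i ≠ j) : ∃ z : K, v i z < 1 ∧ 1 < v j z := by
  obtain ⟨a, hai, haj⟩ := hd i j h
  obtain ⟨b, hb⟩ := hs i (exp (-1))
  have hb0 : b ≠ 0 := fun e => by rw [e, map_zero] at hb; exact exp_ne_zero hb.symm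
  obtain ⟨N, hN⟩ := (eventually_lt_pow haj (v j b)⁻¹).exists
  refine ⟨a ^ N * b, ?_, ?_⟩
  · rw [map_mul, map_pow]
    refine (mul_le_mul_left (pow_le_one₀ zero_le hai) _).trans_lt ?_
    rw [one_mul, hb, ← exp_zero, exp_lt_exp]; omega
  · rw [map_mul, map_pow]
    rwa [← inv_lt_iff_one_lt_mul₀ (zero_lt_iff.mpr ((v j).ne_zero_iff.2 hb0))]

theorem exists_sep (S : Finset ι) {i : ι} (hi : i ∉ S) :
    ∃ z : K, v i z < 1 ∧ ∀ j ∈ S, 1 < v j z := by
  classical
  induction S using Finset.induction_on with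
  | empty => exact ⟨0, by simp, by simp⟩
  | insert k S hk ih =>
    simp only [Finset.mem_insert, not_or] at hi
    obtain ⟨z, hzi, hzS⟩ := ih hi.2
    obtain ⟨w, hwi, hwk⟩ := exists_sep_two v hs hd hi.1
    rcases lt_trichotomy 1 (v k z) with h | h | h
    · exact ⟨z, hzi, Finset.forall_mem_insert .. |>.mpr ⟨h, hzS⟩⟩
    · have hw0 : w ≠ 0 := by rintro rfl; simp at hwk
      have hev : ∀ᶠ N : ℕ in atTop, ∀ j ∈ S, (v j w)⁻¹ < v j z ^ N :=
        (eventually_all_finset S).mpr fun j hj => eventually_lt_pow (hzS j hj) _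
      obtain ⟨N, hN⟩ := hev.exists
      refine ⟨z ^ N * w, ?_, Finset.forall_mem_insert .. |>.mpr ⟨?_, fun j hj => ?_⟩⟩
      · rw [map_mul, map_pow]
        exact (mul_le_mul_left (pow_le_one₀ zero_le hzi.le) _).trans_lt (by rwa [one_mul])
      · rw [map_mul, map_pow, ← h, one_pow, one_mul]; exact hwk
      · rw [map_mul, map_pow, ← inv_lt_iff_one_lt_mul₀ (zero_lt_iff.mpr ((v j).ne_zero_iff.2 hw0))]
        exact hN j hj
    · have hev : ∀ᶠ N : ℕ in atTop, ∀ j ∈ S, max 1 (v j w) < v j z ^ N :=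
        (eventually_all_finset S).mpr fun j hj => eventually_lt_pow (hzS j hj) _
      obtain ⟨N, hN, hN0⟩ := (hev.and (eventually_ge_atTop 1)).exists
      refine ⟨z ^ N + w, ?_, Finset.forall_mem_insert .. |>.mpr ⟨?_, fun j hj => ?_⟩⟩
      · refine ((v i).map_add _ _).trans_lt (max_lt ?_ hwi)
        rw [map_pow]; exact pow_lt_one₀ zero_le hzi (by omega)
      · rw [Valuation.map_add_eq_of_lt_right]
        · exact hwk
        · rw [map_pow]; exact (pow_lt_one₀ zero_le h (by omega)).trans hwk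
      · rw [Valuation.map_add_eq_of_lt_left]
        · rw [map_pow]; exact (le_max_left _ _).trans_lt (hN j hj)
        · rw [map_pow]; exact (le_max_right _ _).trans_lt (hN j hj)

theorem exists_one (S : Finset ι) {i : ι} (hi : i ∉ S) (m : ℤ) :
    ∃ e : K, v i (e - 1) ≤ exp (-m) ∧ ∀ j ∈ S, v j e ≤ exp (-m) := by
  obtain ⟨z, hzi, hzS⟩ := exists_sep v hs hd S hi
  have h1 : ∀ᶠ N : ℕ in atTop, v i z ^ N ≤ exp (-m) := eventually_pow_le hzi exp_ne_zero
  have h2 : ∀ᶠ N : ℕ in atTop, ∀ j ∈ S, max 1 (exp m) < v j z ^ N :=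
    (eventually_all_finset S).mpr fun j hj => eventually_lt_pow (hzS j hj) _
  obtain ⟨N, ⟨hN1, hN2⟩, hN0⟩ := ((h1.and h2).and (eventually_ge_atTop 1)).exists
  have hP1 : v i (1 + z ^ N) = 1 :=
    (v i).map_one_add_of_lt (by rw [map_pow]; exact pow_lt_one₀ zero_le hzi (by omega))
  have hne : 1 + z ^ N ≠ 0 := fun h => by simp [h] at hP1
  refine ⟨(1 + z ^ N)⁻¹, ?_, fun j hj => ?_⟩
  · have : (1 + z ^ N)⁻¹ - 1 = -(z ^ N) * (1 + z ^ N)⁻¹ := by field_simp; ring
    rw [this, map_mul, Valuation.map_neg, map_inv₀, hP1, map_pow, inv_one, mul_one]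
    exact hN1
  · have h := hN2 j hj
    rw [max_lt_iff] at h
    have hQ1 : v j (1 + z ^ N) = v j z ^ N := by
      rw [Valuation.map_add_eq_of_lt_right (v j) (by simpa using h.1), map_pow]
    rw [map_inv₀, hQ1, exp_neg]
    exact inv_anti₀ (zero_lt_iff.mpr exp_ne_zero) h.2.le

/-- Finitely many pairwise incomparable discrete valuations take independent values. -/
theorem exists_prescribed [Fintype ι] (n : ι → ℤ) : ∃ y : K, ∀ i, v i y = exp (n i) := by
  classical
  choose x hx using fun i => hs i (exp (n i))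
  have hx0 : ∀ i, x i ≠ 0 := fun i e => by
    have := hx i; rw [e, map_zero] at this; exact exp_ne_zero this.symm
  let M : ℕ := (Finset.univ : Finset (ι × ι)).sup fun p => (log (v p.2 (x p.1)) - n p.2 + 1).toNat
  choose e he1 he2 using fun i => exists_one v hs hd (Finset.univ.erase i) (Finset.notMem_erase i _) (M : ℤ)
  have hM : ∀ i j (a : K), v j a ≤ exp (-(M : ℤ)) → v j (x i * a) < exp (n j) := by
    intro i j a ha
    have : (log (v j (x i)) - n j + 1).toNat ≤ M :=
      Finset.le_sup (f := fun p : ι × ι => (log (v p.2 (x p.1)) - n p.2 + 1).toNat) (Finset.mem_univ (i, j))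
    rw [map_mul]
    refine (mul_le_mul_right ha _).trans_lt ?_
    rw [← exp_log ((v j).ne_zero_iff.2 (hx0 i)), ← exp_add, exp_lt_exp]
    omega
  refine ⟨∑ i, x i * e i, fun j => ?_⟩
  have hj : ∑ i, x i * e i = x j + (x j * (e j - 1) + ∑ i ∈ Finset.univ.erase j, x i * e i) := by
    rw [← Finset.add_sum_erase _ _ (Finset.mem_univ j)]; ring
  rw [hj, Valuation.map_add_eq_of_lt_left]
  · exact hx j
  · rw [hx j]
    refine ((v j).map_add _ _).trans_lt (max_lt (hM j j _ (he1 j)) ?_)
    refine Valuation.map_sum_lt _ exp_ne_zero fun i hi => ?_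
    exact hM i j _ (he2 i j (Finset.mem_erase.mpr ⟨(Finset.mem_erase.1 hi).1.symm, Finset.mem_univ _⟩))

end Valuations

section DVR

variable {K : Type u} [Field K] (A : Type u) [CommRing A] [IsDomain A] [IsDiscreteValuationRing A]
  [Algebra A K] [IsFractionRing A K]

theorem eq_unit_mul_zpow {y : K} {n : ℤ}
    (hy : (IsDiscreteValuationRing.maximalIdeal A).valuation K y = exp (-n)) :
    ∃ (ϖ : A) (_ : Irreducible ϖ) (w : Aˣ), y = algebraMap A K w * algebraMap A K ϖ ^ n := by
  obtain ⟨ϖ, hϖ⟩ := IsDiscreteValuationRing.exists_irreducible A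
  set v := (IsDiscreteValuationRing.maximalIdeal A).valuation K
  have hv : v (algebraMap A K ϖ) = exp (-1) := by
    show (IsDiscreteValuationRing.maximalIdeal A).valuation K (algebraMap A K ϖ) = _
    rw [IsDedekindDomain.HeightOneSpectrum.valuation_of_algebraMap,
      IsDedekindDomain.HeightOneSpectrum.intValuation_singleton _ hϖ.ne_zero]
    exact hϖ.maximalIdeal_eq
  have h : v (algebraMap A K ϖ ^ n) = v y := by
    rw [map_zpow₀, hv, hy, ← exp_zsmul]
    congr 1
    ring
  obtain ⟨w, hw⟩ := IsDiscreteValuationRing.associated_of_valuation_eq _ _ h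
  exact ⟨ϖ, hϖ, w, by rw [← hw, Units.smul_def, Algebra.smul_def]⟩

end DVR

/-- Prescribed orders at finitely many points of codimension one of a normal separated scheme. -/
theorem exists_functionField_orders (X : Scheme.{u}) [IsIntegral X] [IsNoetherian X] [X.IsSeparated]
    (hnor : ∀ x : X, IsIntegrallyClosed (X.presheaf.stalk x))
    {r : ℕ} (ξ : Fin r → X) (hξ : Function.Injective ξ)
    (hcodim : ∀ i, ringKrullDim (X.presheaf.stalk (ξ i)) = 1) (n : Fin r → ℤ) :
    ∃ f : X.functionField, f ≠ 0 ∧ ∀ i : Fin r,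
      ∃ (ϖ : X.presheaf.stalk (ξ i)) (_ : Irreducible ϖ) (w : (X.presheaf.stalk (ξ i))ˣ),
        f = algebraMap (X.presheaf.stalk (ξ i)) X.functionField (w : X.presheaf.stalk (ξ i)) *
          algebraMap (X.presheaf.stalk (ξ i)) X.functionField ϖ ^ (n i) := by
  rcases Nat.eq_zero_or_pos r with rfl | hr
  · exact ⟨1, one_ne_zero, fun i => i.elim0⟩
  haveI : ∀ i, IsIntegrallyClosed (X.presheaf.stalk (ξ i)) := fun i => hnor _
  haveI : ∀ i, IsDiscreteValuationRing (X.presheaf.stalk (ξ i)) := fun i =>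
    CDiv6.isDVR_of_dim_eq_one _ (hcodim i)
  let v : Fin r → Valuation X.functionField (WithZero (Multiplicative ℤ)) := fun i =>
    (IsDiscreteValuationRing.maximalIdeal (X.presheaf.stalk (ξ i))).valuation X.functionField
  have hs : ∀ i, Function.Surjective (v i) := fun i =>
    IsDedekindDomain.HeightOneSpectrum.valuation_surjective _ _
  have hd : ∀ i j, i ≠ j → ∃ a, v i a ≤ 1 ∧ 1 < v j a := by
    intro i j hij
    by_contra hall
    push Not at hall
    have hle : (algebraMap (X.presheaf.stalk (ξ i)) X.functionField).range ≤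
        (algebraMap (X.presheaf.stalk (ξ j)) X.functionField).range := by
      rintro _ ⟨a, rfl⟩
      obtain ⟨b, hb⟩ := IsDiscreteValuationRing.exists_lift_of_le_one
        (hall _ (IsDedekindDomain.HeightOneSpectrum.valuation_le_one _ a))
      exact ⟨b, hb⟩
    have hsp : ξ j ⤳ ξ i := (SchLocX.specializes_iff_range_le (ξ i) (ξ j)).2 hle
    have h1 : Order.coheight (ξ i) = 1 := by
      have := hcodim i; rw [ringKrullDim_stalk_eq_coheight] at this; exact_mod_cast this
    have h2 : Order.coheight (ξ j) = 1 := by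
      have := hcodim j; rw [ringKrullDim_stalk_eq_coheight] at this; exact_mod_cast this
    refine hij (hξ ?_)
    by_contra hne
    have hlt : ξ i < ξ j := lt_iff_le_not_ge.2 ⟨hsp, fun h => hne ((Specializes.antisymm h hsp).eq)⟩
    have h3 := Order.coheight_add_one_le hlt
    rw [h1, h2] at h3
    norm_num at h3
  obtain ⟨y, hy⟩ := exists_prescribed v hs hd fun i => -n i
  refine ⟨y, fun e => ?_, fun i => eq_unit_mul_zpow _ (hy i)⟩
  have := hy ⟨0, hr⟩
  rw [e, map_zero] at this
  exact exp_ne_zero this.symm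

end Groth.Agent.ArSurfX
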