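import Groth.Agent.ArSurfX.Surf
import Groth.Agent.PnCoh.Chow.Proper

/-!
# Arithmetic surfaces are regular proper surfaces
-/

universe u

open CategoryTheory CategoryTheory.Limits AlgebraicGeometry

namespace Groth.Agent.ArSurfX

open Groth.Agent

theorem isProper_toBase (n : ℕ) (S : Scheme.{u}) : IsProper (CohB1.ProjSpaceOver.toBase n S) := by
  haveI := PnCoh.Chow.isProper_toSpec n (ULift.{u} ℤ)
  exact inferInstanceAs (IsProper (pullback.snd _ _))

theorem isProper_of_projective {R : Type u} [CommRing R] {X : Over (Spec (CommRingCat.of R))}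
    (h : ∃ (n : ℕ) (i : X.left ⟶ CohB1.ProjSpaceOver n (Spec (CommRingCat.of R))),
      IsClosedImmersion i ∧ i ≫ CohB1.ProjSpaceOver.toBase n (Spec (CommRingCat.of R)) = X.hom) :
    IsProper X.hom := by
  obtain ⟨n, i, hi, e⟩ := h
  haveI := isProper_toBase n (Spec (CommRingCat.of R))
  rw [← e]
  infer_instance

theorem IsSurf.of_isArithSurface {R : Type u} [CommRing R] [IsDomain R] [IsDiscreteValuationRing R]
    {X : Over (Spec (CommRingCat.of R))} (h : ArSurf.IsArithSurface R X) : IsSurf X :=
  ⟨h.2.1, isProper_of_projective h.2.2.2.2, h.2.2.2.1, h.1, h.2.2.1⟩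

end Groth.Agent.ArSurfX
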