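import Groth.Agent.ArSurfX.BlowPoint
import Groth.Agent.DimFormula.DedekindFlat

/-!
# Stalks of a birational morphism of regular integral schemes
-/

universe u

set_option linter.style.haveILetI false
set_option backward.isDefEq.respectTransparency false
set_option backward.isDefEq.respectTransparency.types false

open CategoryTheory AlgebraicGeometry IsLocalRing TopologicalSpace Order

namespace Groth.Agent.ArSurfX

open Groth.Agent

variable {X Y : Scheme.{u}} [IsIntegral X] [IsIntegral Y]

/-- Stalk maps of a birational morphism are injective and induce isomorphisms of fraction fields. -/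
theorem stalkMap_injective_and_frac (f : X ⟶ Y) (hgen : f (genericPoint X) = genericPoint Y)
    (hbir : IsIso (f.stalkMap (genericPoint X))) (x : X) :
    Function.Injective (f.stalkMap x).hom ∧
      ∀ k : X.functionField, ∃ a b : Y.presheaf.stalk (f x), b ≠ 0 ∧
        k * algebraMap (X.presheaf.stalk x) X.functionField ((f.stalkMap x).hom b) =
          algebraMap (X.presheaf.stalk x) X.functionField ((f.stalkMap x).hom a) := by
  set A := Y.presheaf.stalk (f x)
  set φ := (f.stalkMap x).hom
  let ψ : X.presheaf.stalk x →+* X.functionField := algebraMap _ X.functionField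
  have hs : f (genericPoint X) ⤳ f x := (genericPoint_specializes x).map f.continuous
  let η : A →+* Y.presheaf.stalk (f (genericPoint X)) := (Y.presheaf.stalkSpecializes hs).hom
  have hcomm : ∀ a : A, ψ (φ a) = f.stalkMap (genericPoint X) (η a) := fun a =>
    (ConcreteCategory.congr_hom (f.stalkSpecializes_stalkMap (genericPoint X) x (genericPoint_specializes x)) a).symm
  have key : ∀ q : Y, q = genericPoint Y → ∀ h : q ⤳ f x,
      Function.Injective (Y.presheaf.stalkSpecializes h).hom ∧
      ∀ k : Y.presheaf.stalk q, ∃ a b : A, b ≠ 0 ∧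
        k * (Y.presheaf.stalkSpecializes h).hom b = (Y.presheaf.stalkSpecializes h).hom a := by
    rintro q rfl h
    refine ⟨IsFractionRing.injective A Y.functionField, fun k => ?_⟩
    obtain ⟨⟨a, b⟩, hab⟩ := IsLocalization.surj (nonZeroDivisors A) (show Y.functionField from k)
    exact ⟨a, b, nonZeroDivisors.ne_zero b.2, hab⟩
  obtain ⟨hinj, hfrac⟩ := key _ hgen hs
  haveI := hbir
  have hb := ConcreteCategory.bijective_of_isIso (f.stalkMap (genericPoint X))
  refine ⟨fun a b hab => hinj (hb.1 ?_), fun k => ?_⟩
  · rw [← hcomm, ← hcomm, hab]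
  · obtain ⟨k₀, rfl⟩ := hb.2 k
    obtain ⟨a, b, hb0, hab⟩ := hfrac k₀
    exact ⟨a, b, hb0, by
      show f.stalkMap (genericPoint X) k₀ * ψ (φ b) = ψ (φ a)
      rw [hcomm, hcomm, ← map_mul]
      exact congrArg _ hab⟩

/-- Over a point with a principal ideal stalk a birational morphism does not increase the dimension. -/
theorem ringKrullDim_stalk_le (f : X ⟶ Y) (hgen : f (genericPoint X) = genericPoint Y)
    (hbir : IsIso (f.stalkMap (genericPoint X))) (x : X) [IsPrincipalIdealRing (Y.presheaf.stalk (f x))]
    (hX : IsDomain (X.presheaf.stalk x)) :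
    ringKrullDim (X.presheaf.stalk x) ≤ ringKrullDim (Y.presheaf.stalk (f x)) := by
  obtain ⟨hinj, hfrac⟩ := stalkMap_injective_and_frac f hgen hbir x
  set φ := (f.stalkMap x).hom
  haveI : IsDomain (Y.presheaf.stalk (f x)) := Function.Injective.isDomain φ hinj
  haveI : IsLocalHom φ := inferInstanceAs (IsLocalHom (f.stalkMap x).hom)
  refine ringKrullDim_le_of_surjective φ fun k => ?_
  obtain ⟨a, b, hb0, hab⟩ := hfrac (algebraMap _ X.functionField k)
  rw [← map_mul] at hab
  have hk : k * φ b = φ a := IsFractionRing.injective (X.presheaf.stalk x) X.functionField hab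
  have hb' : φ b ≠ 0 := fun e => hb0 (hinj (e.trans (map_zero φ).symm))
  obtain ⟨c, hc⟩ := ValuationRing.cond a b
  rcases hc with hc | hc
  · have h1 : k * φ c = 1 := by
      have ha' : φ a ≠ 0 := fun e => by
        rw [← hc, map_mul, e, zero_mul] at hb'
        exact hb' rfl
      refine mul_left_cancel₀ ha' ?_
      rw [← hc, map_mul] at hk
      linear_combination hk
    obtain ⟨u, hu⟩ := isUnit_of_map_unit φ c (IsUnit.of_mul_eq_one_right k h1)
    refine ⟨↑u⁻¹, ?_⟩
    calc φ ↑u⁻¹ = k * φ c * φ ↑u⁻¹ := by rw [h1, one_mul]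
      _ = k := by rw [mul_assoc, ← map_mul, ← hu, Units.mul_inv, map_one, mul_one]
  · refine ⟨c, mul_left_cancel₀ hb' ?_⟩
    rw [← map_mul, hc, ← hk, mul_comm]

end Groth.Agent.ArSurfX
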