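import Groth.Agent.ArSurfX.ProjLine

/-!
# Vertical projective lines over a point of the closed fibre
-/

universe u

set_option linter.style.haveILetI false
set_option backward.isDefEq.respectTransparency false
set_option backward.isDefEq.respectTransparency.types false

open CategoryTheory CategoryTheory.Limits AlgebraicGeometry IsLocalRing

namespace Groth.Agent.ArSurfX

open Groth.Agent

variable {R : Type u} [CommRing R] [IsDomain R] [IsDiscreteValuationRing R]
  {X : Over (Spec (CommRingCat.of R))}

/-- A vertical component isomorphic to a projective line over a point of the closed fibre has `h¹ = 0`. -/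
theorem h1_eq_zero_of_projLine_over (E : ArSurf.VertComp R X) {κ : Type u} [Field κ]
    (g : Spec (CommRingCat.of κ) ⟶ Spec (CommRingCat.of R)) (hg : g.base (closedPoint κ) = closedPoint R)
    (e : CohB1.ProjSpace 1 κ ≅ E.curve.left)
    (he : e.hom ≫ E.ι ≫ X.hom = CohB1.ProjSpace.toSpec 1 κ ≫ g) : Models.h1 R X E = 0 := by
  letI : Algebra R κ := (Spec.preimage g).hom.toAlgebra
  have hg' : g = Spec.map (CommRingCat.ofHom (algebraMap R κ)) := (Spec.map_preimage g).symm
  have hm : ∀ r ∈ maximalIdeal R, algebraMap R κ r = 0 := by
    intro r hr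
    rw [hg'] at hg
    have h2 : (closedPoint κ).asIdeal.comap (algebraMap R κ) = maximalIdeal R :=
      congrArg PrimeSpectrum.asIdeal hg
    have h3 : algebraMap R κ r ∈ maximalIdeal κ := by
      rw [← Ideal.mem_comap]
      exact h2.symm ▸ hr
    rwa [(IsLocalRing.isField_iff_maximalIdeal_eq).1 (Field.toIsField _), Ideal.mem_bot] at h3
  letI : Algebra (ResidueField R) κ := (Ideal.Quotient.lift (maximalIdeal R) (algebraMap R κ) hm).toAlgebra
  have hek : e.hom ≫ E.curve.hom = CohB1.ProjSpace.toSpec 1 κ ≫
      Spec.map (CommRingCat.ofHom (algebraMap (ResidueField R) κ)) := by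
    haveI : IsClosedImmersion (Spec.map (CommRingCat.ofHom (residue R))) :=
      IsClosedImmersion.spec_of_surjective _ residue_surjective
    rw [← cancel_mono (Spec.map (CommRingCat.ofHom (residue R))), Category.assoc, ← E.w, he, Category.assoc,
      ← Spec.map_comp, ← CommRingCat.ofHom_comp, hg']
    rfl
  exact (wdeg_h1_of_projLine E e hek).2

end Groth.Agent.ArSurfX
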