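import Groth.Agent.ArSurfX.Surf
import Groth.Agent.H23.RedSub
import Groth.Agent.H23.StalkPrimes
import Groth.Agent.H23.P1Graph
import Groth.Agent.DivX.CodimOne
import Groth.Agent.Triage.SchDense
import Groth.Agent.MorLib.ReducedKer

/-!
# Vertical prime divisors of a regular surface over a discrete valuation ring

They correspond to the components of the special fibre, are effective Cartier, and only depend on their support.
-/

universe u

set_option linter.style.haveILetI false
set_option backward.isDefEq.respectTransparency false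
set_option backward.isDefEq.respectTransparency.types false

open CategoryTheory CategoryTheory.Limits AlgebraicGeometry IsLocalRing Order

namespace Groth.Agent.ArSurfX

open Groth.Agent

variable {R : Type u} [CommRing R] [IsDomain R] [IsDiscreteValuationRing R]
  {X : Over (Spec (CommRingCat.of R))}

theorem base_residue (q : Spec (CommRingCat.of (ResidueField R))) :
    (Spec.map (CommRingCat.ofHom (residue R))).base q = closedPoint R := by
  refine PrimeSpectrum.ext ?_
  show Ideal.comap (residue R) q.asIdeal = maximalIdeal R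
  rw [show q.asIdeal = ⊥ from (Ideal.eq_bot_or_top q.asIdeal).resolve_right q.2.ne_top]
  exact IsLocalRing.ker_residue

theorem comp_apply_eq_closedPoint (Γ : ArSurf.VertComp R X) (z : Γ.curve.left) :
    X.hom.base (Γ.ι.base z) = closedPoint R := by
  rw [← Scheme.Hom.comp_apply, Γ.w, Scheme.Hom.comp_apply]
  exact base_residue _

theorem range_subset_specialFibreSet (Γ : ArSurf.VertComp R X) :
    Set.range Γ.ι.base ⊆ Models.specialFibreSet R X := by
  rintro _ ⟨z, rfl⟩
  exact comp_apply_eq_closedPoint Γ z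

theorem closure_genPtOf (Γ : ArSurf.VertComp R X) :
    closure {Models.genPtOf R X Γ} = Set.range Γ.ι.base := by
  have h := ((genericPoint_spec Γ.curve.left).image Γ.ι.continuous).def
  rw [show Models.genPtOf R X Γ = Γ.ι (genericPoint Γ.curve.left) from rfl, h, Set.image_univ,
    Γ.ι.isClosedEmbedding.isClosed_range.closure_eq]

theorem isClosed_range (Γ : ArSurf.VertComp R X) : IsClosed (Set.range Γ.ι.base) :=
  Γ.ι.isClosedEmbedding.isClosed_range

theorem genPtOf_mem_range (Γ : ArSurf.VertComp R X) : Models.genPtOf R X Γ ∈ Set.range Γ.ι.base :=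
  Set.mem_range_self _

theorem not_isClosed_genPtOf (Γ : ArSurf.VertComp R X) :
    ¬ IsClosed ({Models.genPtOf R X Γ} : Set X.left) := by
  intro h
  have hr : Set.range Γ.ι.base = {Models.genPtOf R X Γ} := by rw [← closure_genPtOf, h.closure_eq]
  have hs : Subsingleton Γ.curve.left := ⟨fun a b => Γ.ι.isClosedEmbedding.injective (by
    have ha := hr ▸ Set.mem_range_self (f := Γ.ι.base) a
    have hb := hr ▸ Set.mem_range_self (f := Γ.ι.base) b
    rw [Set.mem_singleton_iff] at ha hb
    exact ha.trans hb.symm)⟩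
  have hd := Γ.dim_eq
  rw [topologicalKrullDim, Order.krullDim_eq_of_orderIso (irreducibleSetEquivPoints (α := Γ.curve.left))] at hd
  have := Order.krullDim_nonpos_of_subsingleton (α := Γ.curve.left)
  rw [hd] at this
  norm_num at this

theorem ker_eq_vanishingIdeal (Γ : ArSurf.VertComp R X) :
    Γ.ι.ker = Scheme.IdealSheafData.vanishingIdeal ⟨Set.range Γ.ι.base, isClosed_range Γ⟩ := by
  refine le_antisymm ?_ ?_
  · refine Scheme.IdealSheafData.le_support_iff_le_vanishingIdeal.1 fun x hx => ?_
    rw [← SetLike.mem_coe, MorLib.support_ker_eq_closure_range_of_isReduced]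
    exact subset_closure hx
  · have h := Triage.SchDense.vanishingIdeal_le_ker Γ.ι
    exact le_trans (Scheme.IdealSheafData.vanishingIdeal_antimono (closure_minimal subset_rfl (isClosed_range Γ))) h

theorem ker_congr (Γ Δ : ArSurf.VertComp R X) (h : Set.range Γ.ι.base = Set.range Δ.ι.base) :
    Γ.ι.ker = Δ.ι.ker := by
  simp only [ker_eq_vanishingIdeal, h]

theorem support_ker (Γ : ArSurf.VertComp R X) : (Γ.ι.ker.support : Set X.left) = Set.range Γ.ι.base := by
  rw [ker_eq_vanishingIdeal]
  exact Scheme.IdealSheafData.coe_support_vanishingIdeal _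

namespace IsSurf

variable (hX : IsSurf X)
include hX

theorem coheight_genPtOf (Γ : ArSurf.VertComp R X) :
    coheight (Models.genPtOf R X Γ) = 1 ∧ height (Models.genPtOf R X Γ) = 1 :=
  hX.coheight_eq_one (comp_apply_eq_closedPoint Γ _) (not_isClosed_genPtOf Γ)

theorem dim_stalk_genPtOf (Γ : ArSurf.VertComp R X) :
    ringKrullDim (X.left.presheaf.stalk (Models.genPtOf R X Γ)) = 1 := by
  rw [ringKrullDim_stalk_eq_coheight, (hX.coheight_genPtOf Γ).1]
  rfl

theorem isEffCartier_ker (Γ : ArSurf.VertComp R X) : BlowUp.IsEffCartierIdeal Γ.ι.ker := by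
  haveI := hX.isLocallyNoetherian
  obtain ⟨hint, he⟩ := H23.P1Graph.image_integral Γ.ι
  refine DivX.isEffCartier_of_codim_one _ ?_ fun x _ => hX.ufd_stalk x
  rw [he]
  exact hX.dim_stalk_genPtOf Γ

theorem eq_of_specializes_genPtOf (Γ : ArSurf.VertComp R X) {z : X.left}
    (hz : X.hom.base z = closedPoint R) (h : z ⤳ Models.genPtOf R X Γ) : z = Models.genPtOf R X Γ := by
  by_contra hne
  have hlt : Models.genPtOf R X Γ < z :=
    lt_iff_le_not_ge.2 ⟨h, fun h' => hne (h.antisymm h').eq⟩
  have h1 := Order.coheight_add_one_le hlt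
  have h2 := hX.coheight_pos hz
  rw [(hX.coheight_genPtOf Γ).1] at h1
  have := (add_le_add h2 le_rfl).trans h1
  norm_num at this

theorem range_mem_fibreComponents (Γ : ArSurf.VertComp R X) :
    Set.range Γ.ι.base ∈ Models.fibreComponents R X := by
  refine ⟨⟨?_, range_subset_specialFibreSet Γ⟩, fun S hS hle => ?_⟩
  · rw [← closure_genPtOf]; exact isIrreducible_singleton.closure
  obtain ⟨hirr, hsub⟩ := hS
  have hg := hirr.isGenericPoint_genericPoint_closure
  set z := hirr.genericPoint
  have hzs : X.hom.base z = closedPoint R :=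
    (closure_minimal hsub (Models.isClosed_specialFibreSet R X)) hg.mem
  have hzξ : z ⤳ Models.genPtOf R X Γ := hg.specializes (subset_closure (hle (genPtOf_mem_range Γ)))
  have he := hX.eq_of_specializes_genPtOf Γ hzs hzξ
  show S ⊆ Set.range Γ.ι.base
  rw [← closure_genPtOf, ← he, hg.def]
  exact subset_closure

theorem mem_fibreComponents_elim {Z : Set X.left} (hZ : Z ∈ Models.fibreComponents R X) :
    ∃ z : X.left, Z = closure {z} ∧ X.hom.base z = closedPoint R ∧ ¬ IsClosed ({z} : Set X.left) := by
  letI := hX.isIntegral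
  haveI := hX.isLocallyNoetherian
  obtain ⟨⟨hirr, hsub⟩, hmax⟩ := hZ
  have hZc : closure Z = Z := Set.Subset.antisymm (hmax ⟨hirr.closure,
    closure_minimal hsub (Models.isClosed_specialFibreSet R X)⟩ subset_closure) subset_closure
  have hg := hirr.isGenericPoint_genericPoint_closure
  rw [hZc] at hg
  set z := hirr.genericPoint
  have hzs : X.hom.base z = closedPoint R := hsub hg.mem
  refine ⟨z, hg.def.symm, hzs, fun hc => ?_⟩
  haveI := hX.isDomain_stalk z
  obtain ⟨ϖ, hϖ⟩ := IsDiscreteValuationRing.exists_irreducible R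
  set t : X.left.presheaf.stalk z := Models.stalkHom R X z ϖ with ht
  have htm : ∀ (y : X.left) (hy : y ⤳ z),
      t ∈ (CDiv6.primeOf hy).asIdeal ↔ ϖ ∈ (X.hom.base y).asIdeal := fun y hy => by
    rw [CDiv6.mem_primeOf, ht]
    show ¬ IsUnit (X.left.presheaf.stalkSpecializes hy (X.left.presheaf.germ ⊤ z trivial (Coh.toGlobal X.hom ϖ))) ↔ _
    erw [TopCat.Presheaf.germ_stalkSpecializes_apply, ← Scheme.mem_basicOpen]
    show y ∉ X.left.basicOpen (X.hom.app ⊤ ((Scheme.ΓSpecIso (CommRingCat.of R)).inv ϖ)) ↔ _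
    rw [← Scheme.preimage_basicOpen, basicOpen_eq_of_affine']
    simp only [Iso.inv_hom_id_apply]
    exact not_not
  have hϖm : ϖ ∈ maximalIdeal R := (IsLocalRing.mem_maximalIdeal _).2 hϖ.not_isUnit
  have htmax : Ideal.span {t} ≤ maximalIdeal (X.left.presheaf.stalk z) := by
    rw [Ideal.span_singleton_le_iff_mem]
    have h1 := (htm z specializes_rfl).2 (by rw [hzs]; exact hϖm)
    rw [CDiv6.mem_primeOf, TopCat.Presheaf.stalkSpecializes_refl] at h1
    exact h1
  obtain ⟨Q, hQ, -⟩ := Ideal.exists_minimalPrimes_le htmax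
  haveI := hQ.1.1
  have hQ1 := Ideal.height_le_one_of_isPrincipal_of_mem_minimalPrimes (Ideal.span {t}) Q hQ
  obtain ⟨y, hyz, hyQ⟩ := H23.StalkPrimes.exists_point Q
  have hys : X.hom.base y = closedPoint R := by
    have h1 := (htm y hyz).1 (hyQ ▸ hQ.1.2 (Ideal.mem_span_singleton_self t))
    refine PrimeSpectrum.ext (IsLocalRing.eq_maximalIdeal ((X.hom.base y).2.isMaximal fun e => ?_))
    rw [e] at h1
    exact hϖ.ne_zero (Ideal.mem_bot.1 h1)
  have hy1 : coheight y ≤ 1 := by rw [← CDiv6.height_primeOf hyz, hyQ]; exact hQ1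
  have hyz' : closure {y} ⊆ Z := hmax ⟨isIrreducible_singleton.closure,
      closure_minimal (Set.singleton_subset_iff.2 hys) (Models.isClosed_specialFibreSet R X)⟩
    (by rw [← hg.def]; exact closure_minimal (Set.singleton_subset_iff.2 hyz.mem_closure) isClosed_closure)
  have hyeq : y = z := by
    have : y ∈ closure ({z} : Set X.left) := by rw [hg.def]; exact hyz' (subset_closure rfl)
    rwa [hc.closure_eq] at this
  rw [hyeq, hX.coheight_of_isClosed hc] at hy1
  norm_num at hy1

/-- Every component of the special fibre carries a vertical prime divisor. -/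
theorem exists_vertComp {Z : Set X.left} (hZ : Z ∈ Models.fibreComponents R X) :
    ∃ Γ : ArSurf.VertComp R X, Set.range Γ.ι.base = Z := by
  obtain ⟨z, rfl, hzs, hzc⟩ := hX.mem_fibreComponents_elim hZ
  let C : TopologicalSpace.Closeds X.left := ⟨closure {z}, isClosed_closure⟩
  let J := Scheme.IdealSheafData.vanishingIdeal C
  have hr : Set.range J.subschemeι = closure {z} := H23.RedSub.range_vanishingIdeal _
  obtain ⟨w, hw⟩ : z ∈ Set.range J.subschemeι := hr ▸ subset_closure rfl
  have hd : closure {w} = (Set.univ : Set J.subscheme) := by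
    rw [J.subschemeι.isClosedEmbedding.isInducing.closure_eq_preimage_closure_image,
      Set.image_singleton, hw, ← hr, Set.preimage_range]
  haveI : IrreducibleSpace J.subscheme :=
    (irreducibleSpace_def _).2 (show IsIrreducible (Set.univ : Set J.subscheme) from
      hd ▸ isIrreducible_singleton.closure)
  haveI : IsIntegral J.subscheme := isIntegral_of_irreducibleSpace_of_isReduced _
  haveI : IsClosedImmersion (Spec.map (CommRingCat.ofHom (residue R))) :=
    IsClosedImmersion.spec_of_surjective _ residue_surjective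
  obtain ⟨g, hg⟩ := H23.RedSub.exists_lift_closed (J.subschemeι ≫ X.hom)
    (Spec.map (CommRingCat.ofHom (residue R))) (by
      rintro _ ⟨a, rfl⟩
      obtain ⟨b⟩ : Nonempty (Spec (CommRingCat.of (ResidueField R))) :=
        inferInstanceAs (Nonempty (PrimeSpectrum (ResidueField R)))
      refine ⟨b, (base_residue b).trans (Eq.symm ?_)⟩
      exact closure_minimal (Set.singleton_subset_iff.2 (show z ∈ Models.specialFibreSet R X from hzs))
        (Models.isClosed_specialFibreSet R X) (hr ▸ Set.mem_range_self a))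
  have hdim : topologicalKrullDim J.subscheme = 1 := by
    rw [topologicalKrullDim, Order.krullDim_eq_of_orderIso (irreducibleSetEquivPoints (α := J.subscheme)),
      Order.krullDim_eq_iSup_height_of_nonempty]
    have hmono : StrictMono (fun a : J.subscheme => J.subschemeι a) := fun a b hab => by
      rw [lt_iff_le_not_ge] at hab ⊢
      exact ⟨hab.1.map J.subschemeι.continuous,
        fun h => hab.2 (J.subschemeι.isClosedEmbedding.isInducing.specializes_iff.1 h)⟩
    have hh : ∀ a : J.subscheme, height a = height (J.subschemeι a) := fun a =>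
      Order.height_eq_of_strictMono _ hmono (fun a b hb => by
        obtain ⟨a', rfl⟩ : b ∈ Set.range J.subschemeι :=
          hr ▸ hb.le.mem_closed isClosed_closure (hr ▸ Set.mem_range_self a)
        refine ⟨a', ?_, rfl⟩
        rw [lt_iff_le_not_ge] at hb ⊢
        exact ⟨J.subschemeι.isClosedEmbedding.isInducing.specializes_iff.1 hb.1,
          fun h => hb.2 (h.map J.subschemeι.continuous)⟩) a
    refine congrArg WithBot.some (le_antisymm (iSup_le fun a => ?_) (le_iSup_of_le w ?_))
    · rw [hh, ← (hX.coheight_eq_one hzs hzc).2]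
      exact Order.height_mono (specializes_iff_mem_closure.2 (hr ▸ Set.mem_range_self a))
    · rw [hh, hw, (hX.coheight_eq_one hzs hzc).2]
  exact ⟨⟨Over.mk g, J.subschemeι, inferInstance, ‹IsIntegral J.subscheme›, hdim, hg.symm⟩, hr⟩

theorem finite_fibreComponents : (Models.fibreComponents R X).Finite := by
  haveI := hX.isNoetherian
  obtain ⟨S, hS, hSc, hSi, hSU⟩ := TopologicalSpace.NoetherianSpace.exists_finite_set_isClosed_irreducible
    (Models.isClosed_specialFibreSet R X)
  refine hS.subset fun Z hZ => ?_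
  lift S to Finset (Set X.left) using hS
  obtain ⟨t, ht, hZt⟩ := isIrreducible_iff_sUnion_isClosed.1 hZ.1.1 S hSc (hSU ▸ hZ.1.2)
  rwa [hZt.antisymm (hZ.2 ⟨hSi _ ht, hSU ▸ Set.subset_sUnion_of_mem ht⟩ hZt)]

/-- The components of the special fibre can be listed. -/
theorem exists_componentList : ∃ (n : ℕ) (Γ : Fin n → ArSurf.VertComp R X), Models.IsComponentList R X Γ := by
  have hfin := hX.finite_fibreComponents
  haveI := hfin.fintype
  let e := (Fintype.equivFin (Models.fibreComponents R X)).symm
  choose Γ hΓ using fun i => hX.exists_vertComp (e i).2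
  refine ⟨_, Γ, fun i j h => e.injective (Subtype.ext ?_), ?_⟩
  · rw [← hΓ i, ← hΓ j]; exact h
  · ext Z
    constructor
    · rintro ⟨i, rfl⟩
      exact hX.range_mem_fibreComponents _
    · intro hZ
      exact ⟨e.symm ⟨Z, hZ⟩, (hΓ _).trans (by rw [Equiv.apply_symm_apply])⟩

theorem exists_mem_range {n : ℕ} {Γ : Fin n → ArSurf.VertComp R X} (hΓ : Models.IsComponentList R X Γ)
    {x : X.left} (hx : X.hom.base x = closedPoint R) : ∃ i, x ∈ Set.range (Γ i).ι.base := by
  obtain ⟨Z, hxZ, hZ⟩ : ∃ Z, x ∈ Z ∧ Z ∈ Models.fibreComponents R X := by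
    obtain ⟨t, hxt, htm⟩ := zorn_subset_nonempty
      {S : Set X.left | IsIrreducible S ∧ S ⊆ Models.specialFibreSet R X} (fun c hc hch hne => by
        refine ⟨⋃₀ c, ⟨⟨?_, fun u v hu hv => ?_⟩, Set.sUnion_subset fun s hs => (hc hs).2⟩,
          fun s hs => Set.subset_sUnion_of_mem hs⟩
        · obtain ⟨s, hs⟩ := hne
          exact (hc hs).1.1.mono (Set.subset_sUnion_of_mem hs)
        · rintro ⟨a, ⟨s, hs, has⟩, hau⟩ ⟨b, ⟨t, ht, hbt⟩, hbv⟩
          obtain ⟨w, hw, hsw, htw⟩ := hch.directedOn s hs t ht
          obtain ⟨y, hy, hyuv⟩ := (hc hw).1.2 u v hu hv ⟨a, hsw has, hau⟩ ⟨b, htw hbt, hbv⟩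
          exact ⟨y, ⟨w, hw, hy⟩, hyuv⟩)
      {x} ⟨isIrreducible_singleton, Set.singleton_subset_iff.2 hx⟩
    exact ⟨t, hxt rfl, htm⟩
  rw [← hΓ.2] at hZ
  obtain ⟨i, rfl⟩ := hZ
  exact ⟨i, hxZ⟩

end IsSurf

end Groth.Agent.ArSurfX
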