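import Groth.Agent.ArSurfX.IdealFrame
import Groth.Agent.HTopCov.AlmostBlowUp
import Groth.Agent.BlowUpX.Basic

/-!
# Inverse images of ideal modules
-/

universe u

open CategoryTheory AlgebraicGeometry TopologicalSpace Opposite

namespace Groth.Agent.ArSurfX

open Groth.Agent Groth.Agent.AModX Groth.Agent.InvX

variable {X Y : Scheme.{u}}

theorem mem_nonZeroDivisors_of_span_eq {A : Type*} [CommRing A] {a h : A}
    (hh : h ∈ nonZeroDivisors A) (e : Ideal.span {a} = Ideal.span {h}) : a ∈ nonZeroDivisors A := by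
  obtain ⟨u, hu⟩ := Ideal.mem_span_singleton'.1 (e ▸ Ideal.mem_span_singleton_self a)
  obtain ⟨v, hv⟩ := Ideal.mem_span_singleton'.1 (e.symm ▸ Ideal.mem_span_singleton_self h)
  have h1 : v * u = 1 := (mul_cancel_right_mem_nonZeroDivisors hh).1 (by rw [one_mul, mul_assoc, hu, hv])
  rw [← hu]
  exact mul_mem (IsUnit.mem_nonZeroDivisors (IsUnit.of_mul_eq_one v (by rw [mul_comm, h1]))) hh

theorem exists_isGen_comap {D : X.IdealSheafData} (hD : BlowUp.IsEffCartierIdeal D) (f : Y ⟶ X)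
    (hDf : BlowUp.IsEffCartierIdeal (D.comap f)) (y : Y) :
    ∃ (U : X.affineOpens) (g : Γ(X, U.1)) (V : Y.affineOpens) (hV : V.1 ≤ f ⁻¹ᵁ U.1),
      y ∈ V.1 ∧ IsGen D U g ∧ IsGen (D.comap f) V ((f.appLE U.1 V.1 hV).hom g) := by
  obtain ⟨U, hU, g, hg⟩ := exists_isGen hD (f y)
  obtain ⟨V', hV', h, hh⟩ := exists_isGen hDf y
  obtain ⟨_, ⟨V, hV, rfl⟩, hyV, hle⟩ :=
    Y.isBasis_affineOpens.exists_subset_of_mem_open (show y ∈ (f ⁻¹ᵁ U.1 ⊓ V'.1 : Y.Opens) from ⟨hU, hV'⟩)
      (f ⁻¹ᵁ U.1 ⊓ V'.1).isOpen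
  have hVU : V ≤ f ⁻¹ᵁ U.1 := fun z hz => (hle hz).1
  have hh' := hh.res (V := ⟨V, hV⟩) (fun z hz => (hle hz).2)
  have hs : (D.comap f).ideal ⟨V, hV⟩ = Ideal.span {(f.appLE U.1 V hVU).hom g} := by
    rw [HTopCov.ideal_comap_appLE f D U ⟨V, hV⟩ hVU, hg.2, Ideal.map_span, Set.image_singleton]
  exact ⟨U, g, ⟨V, hV⟩, hVU, hyV, hg, mem_nonZeroDivisors_of_span_eq hh'.1 (hs.symm.trans hh'.2), hs⟩

/-- The inverse image of the module of an effective Cartier divisor met properly. -/
theorem nonempty_pullback_idealMod {D : X.IdealSheafData} (hD : BlowUp.IsEffCartierIdeal D) (f : Y ⟶ X)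
    (hDf : BlowUp.IsEffCartierIdeal (D.comap f)) :
    Nonempty ((Scheme.Modules.pullback f).obj (ClSub.idealMod D) ≅ ClSub.idealMod (D.comap f)) := by
  choose U g V hV hyV hg hgV using exists_isGen_comap hD f hDf
  choose k hk hk' using fun y => exists_frame_of_isGen (hg y)
  refine nonempty_iso_idealMod V (fun y => ⟨y, hyV y⟩) _ hgV
    (fun y => res _ (hV y) (pullElt f (k y))) (fun y => (isFrame_pullElt f (hk' y)).res (hV y))
    fun a b W ha hb c h => ?_
  let O : X.Opens := (U a).1 ⊓ (U b).1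
  have hWO : W ≤ f ⁻¹ᵁ O := fun z hz => ⟨hV a (ha hz), hV b (hb hz)⟩
  obtain ⟨p, hp⟩ := (hk' a).exists_coord (inf_le_left : O ≤ (U a).1) (res _ inf_le_right (k b))
  have hp' := congrArg (OmegaSh.idealSect D O) hp
  rw [OmegaLib.idealSect_smul, show OmegaSh.idealSect D O (res _ inf_le_right (k b)) = _ from
    OmegaLib.idealSect_map D inf_le_right (k b), show OmegaSh.idealSect D O (res _ inf_le_left (k a)) = _ from
    OmegaLib.idealSect_map D inf_le_left (k a), hk, hk] at hp'
  have hc : c = resR hWO (f.app O p) := by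
    refine (isFrame_pullElt f (hk' a)).coord_unique (ha.trans (hV a)) ?_
    have h' := h
    simp only [res_res] at h'
    rw [← h']
    have h2 := congrArg (pullElt f) hp
    rw [pullElt_smul, ← res_pullElt, ← res_pullElt] at h2
    have h3 := congrArg (res _ hWO) h2
    rw [res_smul, res_res, res_res] at h3
    exact h3
  have key : ∀ (y : Y) (hy : O ≤ (U y).1) (hWy : W ≤ (V y).1) (s : Γ(X, (U y).1)),
      resR hWy ((f.appLE (U y).1 (V y).1 (hV y)).hom s) = resR hWO (f.app O (resR hy s)) := by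
    intro y hy hWy s
    show ((f.appLE (U y).1 (V y).1 (hV y)) ≫ Y.presheaf.map (homOfLE hWy).op) s =
      ((X.presheaf.map (homOfLE hy).op ≫ f.app O) ≫ Y.presheaf.map (homOfLE hWO).op) s
    rw [Scheme.Hom.appLE_map, Category.assoc, Scheme.Hom.app_eq_appLE, Scheme.Hom.appLE_map,
      Scheme.Hom.map_appLE]
  rw [key b inf_le_right hb, key a inf_le_left ha, show resR (inf_le_right : O ≤ (U b).1) (g b) = _ from hp',
    map_mul, map_mul, hc]
  rfl

/-- An effective Cartier divisor restricts to one on a reduced scheme none of whose generic points it contains. -/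
theorem isEffCartier_comap_of_reduced [IsReduced Y] {D : X.IdealSheafData}
    (hD : BlowUp.IsEffCartierIdeal D) (f : Y ⟶ X)
    (h : ∀ y : Y, (∀ z : Y, z ⤳ y → z = y) → f y ∉ (D.support : Set X)) :
    BlowUp.IsEffCartierIdeal (D.comap f) := by
  refine BlowUpX.isEffCartier_of_reduced (HTopCov.isLocPrincipal_comap f D fun x => ?_) fun y hy => ?_
  · obtain ⟨U, hU, g, -, hg⟩ := hD x
    exact ⟨U, hU, g, hg⟩
  · rw [Scheme.IdealSheafData.support_comap]
    exact h y hy

theorem isEffCartier_comap_of_integral [IsIntegral Y] {D : X.IdealSheafData}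
    (hD : BlowUp.IsEffCartierIdeal D) (f : Y ⟶ X) (h : f (genericPoint Y) ∉ (D.support : Set X)) :
    BlowUp.IsEffCartierIdeal (D.comap f) :=
  isEffCartier_comap_of_reduced hD f fun y hy => by rwa [← hy _ (genericPoint_specializes y)]

end Groth.Agent.ArSurfX
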