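import Groth.Agent.ArSurfX.BlowLineExc
import Groth.Agent.ArSurfX.PullIdeal
import Groth.Agent.ArSurfX.Comp

/-!
# The exceptional divisor of the blow-up of a closed point with two-dimensional regular stalk
-/

universe u

set_option linter.style.haveILetI false
set_option backward.isDefEq.respectTransparency false
set_option backward.isDefEq.respectTransparency.types false

open CategoryTheory CategoryTheory.Limits AlgebraicGeometry IsLocalRing TopologicalSpace

namespace Groth.Agent.ArSurfX.BlowPoint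

open Groth.Agent

/-- The ideal of a closed immersion of a reduced scheme is that of its range. -/
theorem ker_eq_vanishingIdeal_range {Z X : Scheme.{u}} [IsReduced Z] (i : Z ⟶ X) [IsClosedImmersion i]
    (C : Closeds X) (hC : (C : Set X) = Set.range i.base) : i.ker = Scheme.IdealSheafData.vanishingIdeal C := by
  refine le_antisymm (Scheme.IdealSheafData.le_support_iff_le_vanishingIdeal.1 fun x hx => ?_) ?_
  · rw [← SetLike.mem_coe, MorLib.support_ker_eq_closure_range_of_isReduced]
    rw [← SetLike.mem_coe, hC] at hx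
    exact subset_closure hx
  · refine le_trans (Scheme.IdealSheafData.vanishingIdeal_antimono ?_) (Triage.SchDense.vanishingIdeal_le_ker i)
    show closure (Set.range i.base) ≤ (C : Set X)
    rw [hC, i.isClosedEmbedding.isClosed_range.closure_eq]

variable {X Y : Scheme.{u}} {y : Y} (hy : IsClosed ({y} : Set Y)) {f : X ⟶ Y}
  (hb : BlowUp.IsBlowUp f (Scheme.IdealSheafData.vanishingIdeal ⟨{y}, hy⟩))
  (hreg : IsRegularLocalRing (Y.presheaf.stalk y)) (hdim : ringKrullDim (Y.presheaf.stalk y) = 2)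
include hb hreg hdim

theorem exists_iso_exceptional :
    ∃ e : CohB1.ProjSpace 1 (Y.residueField y) ≅ ((Scheme.IdealSheafData.vanishingIdeal ⟨{y}, hy⟩).comap f).subscheme,
      e.hom ≫ ((Scheme.IdealSheafData.vanishingIdeal ⟨{y}, hy⟩).comap f).subschemeι ≫ f =
        CohB1.ProjSpace.toSpec 1 (Y.residueField y) ≫ Y.fromSpecResidueField y ∧
      Nonempty ((Scheme.Modules.pullback
          (e.hom ≫ ((Scheme.IdealSheafData.vanishingIdeal ⟨{y}, hy⟩).comap f).subschemeι)).obj
        (ClSub.idealMod ((Scheme.IdealSheafData.vanishingIdeal ⟨{y}, hy⟩).comap f)) ≅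
          Twist.twistProjSpace 1 (Y.residueField y) 1) := by
  haveI := hreg
  haveI : IsDomain (Y.presheaf.stalk y) := (RegUFD.ufd _).1
  haveI := GrpSchLib.flat_fromSpecStalk y
  set I := Scheme.IdealSheafData.vanishingIdeal ⟨{y}, hy⟩
  set D := I.comap f
  set p := pullback.snd (Y.fromSpecStalk y) f
  set fl := pullback.fst (Y.fromSpecStalk y) f
  have hloc := S1680.result (Y.fromSpecStalk y) _ f hb
  rw [comap_fromSpecStalk hy] at hloc
  set Dl := (BlowUpLib.centre (maximalIdeal (Y.presheaf.stalk y))).comap fl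
  obtain ⟨e₁, he₁, ⟨τ⟩⟩ : ∃ e₁ : CohB1.ProjSpace 1 (Y.residueField y) ≅ Dl.subscheme,
      e₁.hom ≫ Dl.subschemeι ≫ fl = CohB1.ProjSpace.toSpec 1 (Y.residueField y) ≫ Spec.map (Y.residue y) ∧
      Nonempty ((Scheme.Modules.pullback (e₁.hom ≫ Dl.subschemeι)).obj (ClSub.idealMod Dl) ≅
        Twist.twistProjSpace 1 (Y.residueField y) 1) := BlowLine.exists_iso_exceptional hdim fl hloc
  have hDl : Dl = D.comap p := by
    show (BlowUpLib.centre _).comap fl = (I.comap f).comap p
    refine (congrArg (fun J : (Spec (Y.presheaf.stalk y)).IdealSheafData => J.comap fl) (comap_fromSpecStalk hy)).symm.trans ?_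
    show (I.comap (Y.fromSpecStalk y)).comap fl = _
    rw [← Scheme.IdealSheafData.comap_comp, ← Scheme.IdealSheafData.comap_comp, pullback.condition]
  -- the exceptional divisor lives over the stalk
  haveI : IsClosedImmersion (Y.fromSpecResidueField y) := isClosed_singleton_iff_isClosedImmersion.1 hy
  have hker : (Y.fromSpecResidueField y).ker = I :=
    ker_eq_vanishingIdeal_range _ _ (Scheme.range_fromSpecResidueField y).symm
  have hle : (Y.fromSpecResidueField y).ker ≤ (D.subschemeι ≫ f).ker := by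
    rw [hker]
    exact Scheme.IdealSheafData.le_map_iff_comap_le.2 le_rfl
  let h : D.subscheme ⟶ Spec (Y.presheaf.stalk y) :=
    IsClosedImmersion.lift (Y.fromSpecResidueField y) (D.subschemeι ≫ f) hle ≫ Spec.map (Y.residue y)
  have hh : h ≫ Y.fromSpecStalk y = D.subschemeι ≫ f := by
    show (_ ≫ Spec.map (Y.residue y)) ≫ Y.fromSpecStalk y = _
    rw [Category.assoc]
    exact IsClosedImmersion.lift_fac _ _ _
  haveI : IsIso (pullback.snd p D.subschemeι) := by
    haveI : Mono p := inferInstance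
    haveI : IsSplitEpi (pullback.snd p D.subschemeι) :=
      ⟨⟨pullback.lift (pullback.lift h D.subschemeι hh) (𝟙 _) (by rw [pullback.lift_snd, Category.id_comp]),
        pullback.lift_snd _ _ _⟩⟩
    exact isIso_of_mono_of_isSplitEpi _
  obtain ⟨e₂, he₂⟩ : ∃ e₂ : Dl.subscheme ≅ D.subscheme, e₂.hom ≫ D.subschemeι = Dl.subschemeι ≫ p := by
    have key : ∀ J, J = D.comap p → ∃ e₂ : J.subscheme ≅ D.subscheme, e₂.hom ≫ D.subschemeι = J.subschemeι ≫ p := by
      rintro _ rfl
      refine ⟨D.comapIso p ≪≫ asIso (pullback.snd p D.subschemeι), ?_⟩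
      rw [Iso.trans_hom, asIso_hom, Category.assoc, ← pullback.condition, Scheme.IdealSheafData.comapIso_hom_fst_assoc]
    exact key Dl hDl
  refine ⟨e₁ ≪≫ e₂, ?_, ?_⟩
  · have he₁' : e₁.hom ≫ Dl.subschemeι ≫ fl =
        CohB1.ProjSpace.toSpec 1 (Y.residueField y) ≫ Spec.map (Y.residue y) := he₁
    rw [Iso.trans_hom, Category.assoc, reassoc_of% he₂, ← pullback.condition]
    show e₁.hom ≫ Dl.subschemeι ≫ fl ≫ Y.fromSpecStalk y =
      CohB1.ProjSpace.toSpec 1 (Y.residueField y) ≫ Spec.map (Y.residue y) ≫ Y.fromSpecStalk y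
    rw [← Category.assoc Dl.subschemeι, ← Category.assoc e₁.hom, ← Category.assoc (CohB1.ProjSpace.toSpec 1 _)]
    exact congrArg (· ≫ Y.fromSpecStalk y) he₁'
  · obtain ⟨φ⟩ := nonempty_pullback_idealMod hb.1 p (by rw [← hDl]; exact hloc.1)
    have hcomp : (e₁ ≪≫ e₂).hom ≫ D.subschemeι = (e₁.hom ≫ Dl.subschemeι) ≫ p := by
      rw [Iso.trans_hom, Category.assoc, he₂, Category.assoc]
    exact ⟨(Scheme.Modules.pullbackCongr hcomp).app _ ≪≫
      ((Scheme.Modules.pullbackComp (e₁.hom ≫ Dl.subschemeι) p).app _).symm ≪≫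
      (Scheme.Modules.pullback (e₁.hom ≫ Dl.subschemeι)).mapIso (φ ≪≫ eqToIso (congrArg ClSub.idealMod hDl.symm)) ≪≫ τ⟩

end Groth.Agent.ArSurfX.BlowPoint
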