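import Groth.Agent.ArSurfX.Frames
import Groth.Agent.InvX.Tensor
import Groth.Agent.OmegaLib.IdealMod
import Groth.Agent.CDivEq.Basic
import Groth.Agent.MeroX.Basic
import Groth.Prelude.Def_BlowUp2
import Groth.Prelude.Def_FGA

/-!
# Frames of the module of an ideal sheaf generated by a regular section

`idealMod` turns products into tensor products, commutes with inverse images meeting the divisor properly,
and is trivial for a principal ideal.
-/

universe u

open CategoryTheory AlgebraicGeometry TopologicalSpace Opposite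

namespace Groth.Agent.ArSurfX

open Groth.Agent Groth.Agent.AModX Groth.Agent.InvX

variable {X Y : Scheme.{u}}

/-- `g` is a regular generator of `D` on the affine open `U`. -/
def IsGen (D : X.IdealSheafData) (U : X.affineOpens) (g : Γ(X, U.1)) : Prop :=
  g ∈ nonZeroDivisors Γ(X, U.1) ∧ D.ideal U = Ideal.span {g}

theorem IsGen.res {D : X.IdealSheafData} {U : X.affineOpens} {g : Γ(X, U.1)} (h : IsGen D U g)
    {V : X.affineOpens} (hV : V.1 ≤ U.1) : IsGen D V (resR hV g) := by
  refine ⟨?_, ?_⟩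
  · rw [← MeroX.regSub_eq_nonZeroDivisors V.2]
    intro x
    have := CDivEq.germ_mem_nonZeroDivisors U (hV x.2) h.1
    rwa [← InvX.germ_resR' hV x.2 g] at this
  · rw [← D.map_ideal (U := V) (V := U) hV, h.2, Ideal.map_span, Set.image_singleton]
    rfl

theorem IsGen.germ_nzd {D : X.IdealSheafData} {U : X.affineOpens} {g : Γ(X, U.1)} (h : IsGen D U g)
    {x : X} (hx : x ∈ U.1) : X.presheaf.germ U.1 x hx g ∈ nonZeroDivisors (X.presheaf.stalk x) :=
  CDivEq.germ_mem_nonZeroDivisors U hx h.1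

theorem IsGen.mul {D E : X.IdealSheafData} {U : X.affineOpens} {a b : Γ(X, U.1)} (ha : IsGen D U a)
    (hb : IsGen E U b) : IsGen (D * E) U (a * b) :=
  ⟨mul_mem ha.1 hb.1, by rw [Scheme.IdealSheafData.ideal_mul, Pi.mul_apply, ha.2, hb.2,
    Ideal.span_singleton_mul_span_singleton]⟩

/-- Multiplication by a generator is injective on every smaller open. -/
theorem IsGen.mul_left_inj {D : X.IdealSheafData} {U : X.affineOpens} {g : Γ(X, U.1)} (h : IsGen D U g)
    {V : X.Opens} (hV : V ≤ U.1) {a b : Γ(X, V)} (hab : a * resR hV g = b * resR hV g) : a = b := by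
  refine TopCat.Presheaf.section_ext X.sheaf V a b fun x hx => ?_
  have h1 := congrArg (X.presheaf.germ V x hx) hab
  rw [map_mul, map_mul, InvX.germ_resR' hV hx g] at h1
  exact (mul_cancel_right_mem_nonZeroDivisors (h.germ_nzd (hV hx))).1 h1

theorem exists_frame_of_isGen {D : X.IdealSheafData} {U : X.affineOpens} {g : Γ(X, U.1)}
    (h : IsGen D U g) :
    ∃ k : Γ(ClSub.idealMod D, U.1), OmegaSh.idealSect D U.1 k = g ∧ IsFrame k := by
  obtain ⟨k, hk⟩ := OmegaLib.exists_of_mem D U g (h.2 ▸ Ideal.mem_span_singleton_self g)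
  have key : ∀ (V : X.Opens) (hV : V ≤ U.1) (r : Γ(X, V)),
      OmegaSh.idealSect D V (r • res (ClSub.idealMod D) hV k) = r * resR hV g := by
    intro V hV r
    rw [OmegaLib.idealSect_smul]
    congr 1
    rw [← hk]
    exact OmegaLib.idealSect_map D hV k
  refine ⟨k, hk, fun V hV => ⟨fun a b hab => h.mul_left_inj hV ?_, fun z => ?_⟩⟩
  · rw [← key, ← key]
    exact congrArg _ hab
  have hloc : ∀ p : V, ∃ W : X.affineOpens, p.1 ∈ W.1 ∧ W.1 ≤ V := fun p => by
    obtain ⟨_, ⟨W, hW, rfl⟩, hpW, hWV⟩ :=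
      X.isBasis_affineOpens.exists_subset_of_mem_open (show p.1 ∈ (V : Set X) from p.2) V.isOpen
    exact ⟨⟨W, hW⟩, hpW, hWV⟩
  choose W hpW hWV using hloc
  have hr : ∀ p : V, ∃ r : Γ(X, (W p).1),
      r * resR ((hWV p).trans hV) g = resR (hWV p) (OmegaSh.idealSect D V z) := fun p => by
    have hm := OmegaLib.idealSect_mem D (W p) (res (ClSub.idealMod D) (hWV p) z)
    rw [(h.res ((hWV p).trans hV)).2, Ideal.mem_span_singleton'] at hm
    obtain ⟨r, hr⟩ := hm
    exact ⟨r, hr.trans (OmegaLib.idealSect_map D (hWV p) z)⟩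
  choose r hr using hr
  obtain ⟨R, hR, -⟩ := TopCat.Sheaf.existsUnique_gluing' X.sheaf (fun p => (W p).1) V
    (fun p => homOfLE (hWV p)) (fun p hp => Opens.mem_iSup.2 ⟨⟨p, hp⟩, hpW ⟨p, hp⟩⟩) r fun p q => by
      apply h.mul_left_inj (inf_le_left.trans ((hWV p).trans hV))
      have h1 := congrArg (resR (inf_le_left : (W p).1 ⊓ (W q).1 ≤ (W p).1)) (hr p)
      have h2 := congrArg (resR (inf_le_right : (W p).1 ⊓ (W q).1 ≤ (W q).1)) (hr q)
      simp only [map_mul, resR_resR] at h1 h2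
      exact h1.trans h2.symm
  obtain ⟨R', rfl⟩ : ∃ R' : Γ(X, V), R' = R := ⟨R, rfl⟩
  refine ⟨R', OmegaLib.idealSect_injective D V ?_⟩
  refine (key V hV R').trans ?_
  refine TopCat.Presheaf.section_ext X.sheaf V _ _ fun x hx => ?_
  have h1 := congrArg (X.presheaf.germ (W ⟨x, hx⟩).1 x (hpW ⟨x, hx⟩)) (hr ⟨x, hx⟩)
  rw [map_mul, InvX.germ_resR', InvX.germ_resR', ← show resR (hWV ⟨x, hx⟩) R' = r ⟨x, hx⟩ from hR ⟨x, hx⟩,
    InvX.germ_resR'] at h1
  show X.presheaf.germ V x hx (R' * resR hV g) = X.presheaf.germ V x hx (OmegaSh.idealSect D V z)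
  rw [map_mul, InvX.germ_resR']
  exact h1

theorem exists_isGen {D : X.IdealSheafData} (hD : BlowUp.IsEffCartierIdeal D) (x : X) :
    ∃ (U : X.affineOpens) (_ : x ∈ U.1) (g : Γ(X, U.1)), IsGen D U g := by
  obtain ⟨U, hx, g, hg, hD'⟩ := hD x
  exact ⟨U, hx, g, hg, hD'⟩

theorem exists_isGen₂ {D E : X.IdealSheafData} (hD : BlowUp.IsEffCartierIdeal D)
    (hE : BlowUp.IsEffCartierIdeal E) (x : X) :
    ∃ (U : X.affineOpens) (_ : x ∈ U.1) (a b : Γ(X, U.1)), IsGen D U a ∧ IsGen E U b := by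
  obtain ⟨U, hx, a, ha⟩ := exists_isGen hD x
  obtain ⟨V, hy, b, hb⟩ := exists_isGen hE x
  obtain ⟨_, ⟨W, hW, rfl⟩, hxW, hWle⟩ :=
    X.isBasis_affineOpens.exists_subset_of_mem_open (show x ∈ (U.1 ⊓ V.1 : X.Opens) from ⟨hx, hy⟩)
      (U.1 ⊓ V.1).isOpen
  exact ⟨⟨W, hW⟩, hxW, _, _, ha.res (V := ⟨W, hW⟩) (fun z hz => (hWle hz).1),
    hb.res (V := ⟨W, hW⟩) (fun z hz => (hWle hz).2)⟩

theorem isEffCartier_mul {D E : X.IdealSheafData} (hD : BlowUp.IsEffCartierIdeal D)
    (hE : BlowUp.IsEffCartierIdeal E) : BlowUp.IsEffCartierIdeal (D * E) := fun x => by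
  obtain ⟨U, hx, a, b, ha, hb⟩ := exists_isGen₂ hD hE x
  exact ⟨U, hx, _, (ha.mul hb).1, (ha.mul hb).2⟩

theorem isEffCartier_one : BlowUp.IsEffCartierIdeal (1 : X.IdealSheafData) := fun x => by
  obtain ⟨_, ⟨U, hU, rfl⟩, hxU, -⟩ :=
    X.isBasis_affineOpens.exists_subset_of_mem_open (Set.mem_univ x) isOpen_univ
  refine ⟨⟨U, hU⟩, hxU, 1, one_mem _, ?_⟩
  rw [Ideal.span_singleton_one]
  rfl

theorem isEffCartier_prod {ι : Type*} (s : Finset ι) (D : ι → X.IdealSheafData)
    (hD : ∀ i ∈ s, BlowUp.IsEffCartierIdeal (D i)) : BlowUp.IsEffCartierIdeal (∏ i ∈ s, D i) :=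
  Finset.prod_induction _ _ (fun _ _ => isEffCartier_mul) isEffCartier_one hD

theorem isEffCartier_pow {D : X.IdealSheafData} (hD : BlowUp.IsEffCartierIdeal D) :
    ∀ n : ℕ, BlowUp.IsEffCartierIdeal (D ^ n)
  | 0 => by rw [pow_zero]; exact isEffCartier_one
  | n + 1 => by rw [pow_succ]; exact isEffCartier_mul (isEffCartier_pow hD n) hD

theorem isInvertible_idealMod {D : X.IdealSheafData} (hD : BlowUp.IsEffCartierIdeal D) :
    PicF.IsInvertible (ClSub.idealMod D) :=
  InvX.isInvertible_of_frames fun x => by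
    obtain ⟨U, hx, g, hg⟩ := exists_isGen hD x
    obtain ⟨k, -, hk⟩ := exists_frame_of_isGen hg
    exact ⟨U.1, hx, k, hk⟩

/-- Ideal modules with matching generators on a cover. -/
theorem nonempty_iso_idealMod {M : X.Modules} {D : X.IdealSheafData} {ι : Type u}
    (U : ι → X.affineOpens) (hcov : ∀ x, ∃ a, x ∈ (U a).1) (g : ∀ a, Γ(X, (U a).1))
    (hg : ∀ a, IsGen D (U a) (g a)) (e : ∀ a, Γ(M, (U a).1)) (he : ∀ a, IsFrame (e a))
    (hc : ∀ (a b : ι) (W : X.Opens) (ha : W ≤ (U a).1) (hb : W ≤ (U b).1) (c : Γ(X, W)),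
      res M hb (e b) = c • res M ha (e a) → resR hb (g b) = c * resR ha (g a)) :
    Nonempty (M ≅ ClSub.idealMod D) := by
  choose k hk hk' using fun a => exists_frame_of_isGen (hg a)
  refine nonempty_iso_of_frames (fun a => (U a).1) hcov e he k hk' fun a b W ha hb c h => ?_
  apply OmegaLib.idealSect_injective D W
  rw [OmegaLib.idealSect_smul, show OmegaSh.idealSect D W (res (ClSub.idealMod D) hb (k b)) = _ from
    OmegaLib.idealSect_map D hb (k b), show OmegaSh.idealSect D W (res (ClSub.idealMod D) ha (k a)) = _ from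
    OmegaLib.idealSect_map D ha (k a), hk, hk]
  exact hc a b W ha hb c h

/-- The module of a product of effective Cartier divisors. -/
theorem nonempty_idealMod_mul {D E : X.IdealSheafData} (hD : BlowUp.IsEffCartierIdeal D)
    (hE : BlowUp.IsEffCartierIdeal E) :
    Nonempty (CohB1.tensorMod (ClSub.idealMod D) (ClSub.idealMod E) ≅ ClSub.idealMod (D * E)) := by
  choose U hU a b ha hb using exists_isGen₂ hD hE
  choose k hk hk' using fun x => exists_frame_of_isGen (ha x)
  choose l hl hl' using fun x => exists_frame_of_isGen (hb x)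
  refine nonempty_iso_idealMod U (fun x => ⟨x, hU x⟩) (fun x => a x * b x) (fun x => (ha x).mul (hb x))
    (fun x => tmul (k x) (l x)) (fun x => isFrame_tmul (hk' x) (hl' x)) fun x y W hx hy c h => ?_
  obtain ⟨p, hp⟩ := (hk' x).exists_coord hx (res _ hy (k y))
  obtain ⟨q, hq⟩ := (hl' x).exists_coord hx (res _ hy (l y))
  have hcoord : c = p * q := (isFrame_tmul (hk' x) (hl' x)).coord_unique hx (by
    rw [← h, res_tmul, res_tmul, hp, hq, tmul_smul_left, tmul_smul_right, ← mul_smul])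
  have hp' := congrArg (OmegaSh.idealSect D W) hp
  have hq' := congrArg (OmegaSh.idealSect E W) hq
  rw [OmegaLib.idealSect_smul, show OmegaSh.idealSect D W (res _ hy (k y)) = _ from
    OmegaLib.idealSect_map D hy (k y), show OmegaSh.idealSect D W (res _ hx (k x)) = _ from
    OmegaLib.idealSect_map D hx (k x), hk, hk] at hp'
  rw [OmegaLib.idealSect_smul, show OmegaSh.idealSect E W (res _ hy (l y)) = _ from
    OmegaLib.idealSect_map E hy (l y), show OmegaSh.idealSect E W (res _ hx (l x)) = _ from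
    OmegaLib.idealSect_map E hx (l x), hl, hl] at hq'
  rw [map_mul, map_mul, hcoord, show resR hy (a y) = p * resR hx (a x) from hp',
    show resR hy (b y) = q * resR hx (b x) from hq']
  ring

/-- The module of a principal ideal sheaf is trivial. -/
theorem nonempty_idealMod_principal {D : X.IdealSheafData} (t : Γ(X, ⊤))
    (h : ∀ x : X, ∃ (U : X.affineOpens) (_ : x ∈ U.1), IsGen D U (resR le_top t)) :
    Nonempty (Coh.structureModule X ≅ ClSub.idealMod D) := by
  choose U hU hg using h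
  refine nonempty_iso_idealMod U (fun x => ⟨x, hU x⟩) _ hg
    (fun x => (show Γ(Coh.structureModule X, (U x).1) from (1 : Γ(X, (U x).1)))) (fun x => isFrame_one _)
    fun x y W hx hy c hc => ?_
  change resR hy (1 : Γ(X, (U y).1)) = c * resR hx 1 at hc
  rw [map_one, map_one, mul_one] at hc
  rw [← hc, one_mul, resR_resR, resR_resR]

theorem nonempty_idealMod_one :
    Nonempty (Coh.structureModule X ≅ ClSub.idealMod (1 : X.IdealSheafData)) := by
  refine nonempty_idealMod_principal 1 fun x => ?_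
  obtain ⟨_, ⟨U, hU, rfl⟩, hxU, -⟩ :=
    X.isBasis_affineOpens.exists_subset_of_mem_open (Set.mem_univ x) isOpen_univ
  refine ⟨⟨U, hU⟩, hxU, ?_, ?_⟩
  · rw [map_one]; exact one_mem _
  · rw [map_one, Ideal.span_singleton_one]; rfl

end Groth.Agent.ArSurfX
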