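import Groth.Agent.ArSurfX.BlowReg
import Groth.Agent.ArSurfX.IdealFrame
import Groth.Agent.Lib.AmpleEmbed
import Groth.Agent.Lib.AVAmple
import Groth.Agent.S3572

/-!
# The blow-up of a two-dimensional regular point embeds into a projective line

The two parameters are sections of the module of the exceptional divisor; they generate it and define
a closed immersion into `P^1_A` under which `O(1)` pulls back to that module.
-/

universe u

set_option linter.style.haveILetI false
set_option linter.unusedSectionVars false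
set_option backward.isDefEq.respectTransparency false
set_option backward.isDefEq.respectTransparency.types false

open CategoryTheory CategoryTheory.Limits AlgebraicGeometry IsLocalRing TopologicalSpace

namespace Groth.Agent.ArSurfX.BlowLine

open Groth.Agent Groth.Agent.InvX Groth.Agent.H23

variable {A : Type u} [CommRing A] {I : Ideal A} {X : Scheme.{u}} (b : X ⟶ Spec (CommRingCat.of A))

theorem resR_strHom {U V : X.Opens} (h : V ≤ U) (r : A) :
    AModX.resR h (BlowUpLib.strHom b U r) = BlowUpLib.strHom b V r := by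
  show X.presheaf.map (homOfLE h).op ((b.appLE ⊤ U le_top) _) = _
  rw [← CommRingCat.comp_apply, Scheme.Hom.appLE_map]
  rfl

/-- An element of the ideal is a section of the inverse image ideal. -/
theorem exists_section (c : I) :
    ∃ σ : Γ(ClSub.idealMod ((BlowUpLib.centre I).comap b), ⊤),
      OmegaSh.idealSect _ ⊤ σ = BlowUpLib.strHom b ⊤ c := by
  refine OmegaLib.exists_idealSect_eq _ ⊤ _ ?_
  set D := (BlowUpLib.centre I).comap b
  refine TopCat.Presheaf.section_ext D.subscheme.sheaf _ _ _ fun z hz => ?_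
  obtain ⟨_, ⟨W, hW, rfl⟩, hzW, -⟩ :=
    X.isBasis_affineOpens.exists_subset_of_mem_open (Set.mem_univ (D.subschemeι z)) isOpen_univ
  have h0 : D.subschemeι.app W (BlowUpLib.strHom b W c) = 0 := by
    rw [← RingHom.mem_ker, show RingHom.ker (D.subschemeι.app W).hom = D.ideal ⟨W, hW⟩ from
      D.ker_subschemeι_app ⟨W, hW⟩, BlowUpLib.ideal_comap_centre I b ⟨W, hW⟩]
    exact Ideal.mem_map_of_mem _ c.2
  rw [map_zero, ← resR_strHom b (le_top : W ≤ ⊤)] at *
  have h1 := congrArg (D.subscheme.presheaf.germ (D.subschemeι ⁻¹ᵁ W) z hzW) h0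
  rw [map_zero, ← Scheme.Hom.germ_stalkMap_apply D.subschemeι W z hzW, InvX.germ_resR',
    Scheme.Hom.germ_stalkMap_apply] at h1
  exact h1

variable {c : I} (j : Spec (CommRingCat.of (BlowUp.affineAlgebra A I (c : A))) ⟶ X) [IsOpenImmersion j]

/-- The affine open of a chart. -/
noncomputable abbrev chartOpen : X.affineOpens := ⟨j ''ᵁ ⊤, (isAffineOpen_top _).image_of_isOpenImmersion j⟩

/-- Functions on a chart. -/
noncomputable def θ : BlowUp.affineAlgebra A I (c : A) →+* Γ(X, (chartOpen j).1) :=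
  ((Scheme.ΓSpecIso (CommRingCat.of (BlowUp.affineAlgebra A I (c : A)))).inv ≫ (j.appIso ⊤).inv).hom

theorem θ_bijective : Function.Bijective (θ j) :=
  ConcreteCategory.bijective_of_isIso
    ((Scheme.ΓSpecIso (CommRingCat.of (BlowUp.affineAlgebra A I (c : A)))).inv ≫ (j.appIso ⊤).inv)

theorem basicOpen_θ (s : BlowUp.affineAlgebra A I (c : A)) :
    X.basicOpen (θ j s) = j ''ᵁ (PrimeSpectrum.basicOpen s) := by
  rw [show (PrimeSpectrum.basicOpen s : (Spec (CommRingCat.of _)).Opens) =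
    (Spec (CommRingCat.of (BlowUp.affineAlgebra A I (c : A)))).basicOpen
      ((Scheme.ΓSpecIso (CommRingCat.of (BlowUp.affineAlgebra A I (c : A)))).inv s) from
    (basicOpen_eq_of_affine (R := CommRingCat.of (BlowUp.affineAlgebra A I (c : A))) s).symm, Scheme.image_basicOpen]
  rfl

variable (hj : j ≫ b = Spec.map (CommRingCat.ofHom (algebraMap A (BlowUp.affineAlgebra A I (c : A)))))
include hj

theorem θ_algebraMap (r : A) :
    θ j (algebraMap A _ r) = BlowUpLib.strHom b (chartOpen j).1 r := by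
  have hb := (ConcreteCategory.bijective_of_isIso (j.appIso ⊤).hom).1
  apply hb
  show (j.appIso ⊤).hom ((j.appIso ⊤).inv _) = _
  rw [← CommRingCat.comp_apply, Iso.inv_hom_id, Scheme.Hom.appIso_hom']
  show _ = (b.appLE ⊤ _ le_top ≫ j.appLE _ ⊤ _) _
  rw [Scheme.Hom.appLE_comp_appLE]
  simp only [hj]
  rw [Scheme.Hom.appLE, show (homOfLE _).op = 𝟙 _ from rfl]
  erw [(Spec (CommRingCat.of (BlowUp.affineAlgebra A I (c : A)))).presheaf.map_id, Category.comp_id]
  exact ConcreteCategory.congr_hom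
    (Scheme.ΓSpecIso_inv_naturality (CommRingCat.ofHom (algebraMap A (BlowUp.affineAlgebra A I (c : A))))) r

theorem strHom_eq_mul (d : I) :
    BlowUpLib.strHom b (chartOpen j).1 d =
      θ j (BlowUpLib.frac I d c) * BlowUpLib.strHom b (chartOpen j).1 c := by
  rw [← θ_algebraMap b j hj, ← θ_algebraMap b j hj, ← map_mul, BlowUpLib.frac_mul]

theorem isGen_chart : IsGen ((BlowUpLib.centre I).comap b) (chartOpen j) (BlowUpLib.strHom b (chartOpen j).1 c) := by
  refine ⟨?_, ?_⟩
  · rw [← θ_algebraMap b j hj]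
    refine mem_nonZeroDivisors_iff_right.2 fun q hq => ?_
    obtain ⟨q, rfl⟩ := (θ_bijective j).2 q
    rw [← map_mul, map_eq_zero_iff _ (θ_bijective j).1] at hq
    refine (map_eq_zero_iff _ (θ_bijective j).1).2 (Subtype.ext ?_)
    exact mem_nonZeroDivisors_iff_right.mp (IsLocalization.Away.algebraMap_isUnit
      (S := Localization.Away (c : A)) (c : A)).mem_nonZeroDivisors q.1 (congrArg Subtype.val hq)
  · rw [BlowUpLib.ideal_comap_centre I b (chartOpen j)]
    refine le_antisymm (Ideal.map_le_iff_le_comap.2 fun d hd => ?_)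
      ((Ideal.span_singleton_le_iff_mem _).2 (Ideal.mem_map_of_mem _ c.2))
    exact Ideal.mem_span_singleton'.2 ⟨_, (strHom_eq_mul b j hj ⟨d, hd⟩).symm⟩

/-- The element of the chart is a frame there. -/
theorem isFrame_res {σ : Γ(ClSub.idealMod ((BlowUpLib.centre I).comap b), ⊤)}
    (hσ : OmegaSh.idealSect _ ⊤ σ = BlowUpLib.strHom b ⊤ c) :
    IsFrame (AModX.res _ (le_top : (chartOpen j).1 ≤ ⊤) σ) := by
  obtain ⟨k, hk, hk'⟩ := exists_frame_of_isGen (isGen_chart b j hj)
  have e : AModX.res _ (le_top : (chartOpen j).1 ≤ ⊤) σ = k := OmegaLib.idealSect_injective _ _ (by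
    rw [hk, show OmegaSh.idealSect _ _ (AModX.res _ _ σ) = _ from OmegaLib.idealSect_map _ le_top σ, hσ]
    exact resR_strHom b le_top (c : A))
  rwa [e]

/-- Coordinates on a chart. -/
theorem res_eq_smul {d : I} {σ τ : Γ(ClSub.idealMod ((BlowUpLib.centre I).comap b), ⊤)}
    (hσ : OmegaSh.idealSect _ ⊤ σ = BlowUpLib.strHom b ⊤ c) (hτ : OmegaSh.idealSect _ ⊤ τ = BlowUpLib.strHom b ⊤ d) :
    AModX.res _ (le_top : (chartOpen j).1 ≤ ⊤) τ =
      θ j (BlowUpLib.frac I d c) • AModX.res _ (le_top : (chartOpen j).1 ≤ ⊤) σ := by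
  refine OmegaLib.idealSect_injective _ _ ?_
  rw [OmegaLib.idealSect_smul, show OmegaSh.idealSect _ _ (AModX.res _ _ σ) = _ from OmegaLib.idealSect_map _ le_top σ,
    show OmegaSh.idealSect _ _ (AModX.res _ _ τ) = _ from OmegaLib.idealSect_map _ le_top τ, hσ, hτ]
  exact (resR_strHom b le_top (d : A)).trans ((strHom_eq_mul b j hj d).trans
    (congrArg _ (resR_strHom b le_top (c : A)).symm))

end Groth.Agent.ArSurfX.BlowLine

namespace Groth.Agent.ArSurfX.BlowLine

open Groth.Agent Groth.Agent.InvX Groth.Agent.H23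

variable {A : Type u} [CommRing A] [IsRegularLocalRing A] [IsDomain A] {X : Scheme.{u}}

/-- The charts of two parameters on any blow-up of the closed point. -/
theorem exists_charts (b : X ⟶ Spec (CommRingCat.of A))
    (hb : BlowUp.IsBlowUp b (BlowUpLib.centre (maximalIdeal A))) :
    ∃ (j : ∀ c : maximalIdeal A, Spec (CommRingCat.of (BlowUp.affineAlgebra A (maximalIdeal A) (c : A))) ⟶ X),
      (∀ c, IsOpenImmersion (j c)) ∧
      (∀ c, j c ≫ b = Spec.map (CommRingCat.ofHom (algebraMap A _))) ∧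
      (∀ c d : maximalIdeal A, maximalIdeal A = Ideal.span {(c : A), (d : A)} →
        ∀ x, x ∈ Set.range (j c) ∨ x ∈ Set.range (j d)) ∧
      ∀ (c d : maximalIdeal A) (p : PrimeSpectrum (BlowUp.affineAlgebra A (maximalIdeal A) (d : A))),
        BlowUpLib.frac (maximalIdeal A) c d ∉ p.asIdeal → j d p ∈ Set.range (j c) := by
  obtain ⟨e, he⟩ := BlowUpLib.exists_iso (BlowUpLib.isBlowUp_local (maximalIdeal A)) hb
  refine ⟨fun c => BlowUpLib.chart _ c ≫ e.hom, fun c => inferInstance, fun c => ?_, fun c d hcd x => ?_,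
    fun c d p hp => ?_⟩
  · rw [Category.assoc, he, BlowUpLib.chart_toBase]
  · obtain ⟨w, rfl⟩ := e.hom.homeomorph.surjective x
    exact (BlowPoint.mem_chart_of_parameters c d hcd w).imp (fun ⟨q, hq⟩ => ⟨q, congrArg e.hom hq⟩)
      (fun ⟨q, hq⟩ => ⟨q, congrArg e.hom hq⟩)
  · obtain ⟨q, hq⟩ := BlowUpLib.chart_overlap _ c d hp
    exact ⟨q, congrArg e.hom hq⟩

/-- The blow-up of the closed point is a closed subscheme of the projective line, `O(1)` restricting to the
module of the exceptional divisor. -/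
theorem exists_closedImmersion (hdim : ringKrullDim A = 2) (b : X ⟶ Spec (CommRingCat.of A)) [IsProper b]
    (hb : BlowUp.IsBlowUp b (BlowUpLib.centre (maximalIdeal A))) :
    ∃ r : X ⟶ CohB1.ProjSpace 1 A, IsClosedImmersion r ∧ r ≫ CohB1.ProjSpace.toSpec 1 A = b ∧
      Nonempty ((Scheme.Modules.pullback r).obj (Twist.twistProjSpace 1 A 1) ≅
        ClSub.idealMod ((BlowUpLib.centre (maximalIdeal A)).comap b)) := by
  classical
  set D := (BlowUpLib.centre (maximalIdeal A)).comap b with hD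
  obtain ⟨a₀, b₀, hm, ha0, hb0, hrp⟩ := exists_parameters hdim
  let v : Fin (1 + 1) → maximalIdeal A :=
    ![⟨a₀, hm ▸ Ideal.subset_span (by simp)⟩, ⟨b₀, hm ▸ Ideal.subset_span (by simp)⟩]
  have hv : maximalIdeal A = Ideal.span {(v 0 : A), (v 1 : A)} := hm
  have hv' : maximalIdeal A = Ideal.span {(v 1 : A), (v 0 : A)} := hm.trans (by rw [Set.pair_comm]; rfl)
  obtain ⟨j, hjo, hj, hcov, hover⟩ := exists_charts b hb
  haveI := hjo
  have hcov' : ∀ x, ∃ i, x ∈ (chartOpen (j (v i))).1 := fun x => by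
    rcases hcov _ _ hv x with ⟨q, hq⟩ | ⟨q, hq⟩
    · exact ⟨0, q, trivial, hq⟩
    · exact ⟨1, q, trivial, hq⟩
  choose σ hσ using fun i => exists_section b (v i)
  have hframe : ∀ i, IsFrame (AModX.res _ (le_top : (chartOpen (j (v i))).1 ≤ ⊤) (σ i)) :=
    fun i => isFrame_res b (j (v i)) (hj _) (hσ i)
  have hle : ∀ i, (chartOpen (j (v i))).1 ≤ TrivBasic.locus (σ i) := fun i x hx =>
    TrivBasic.mem_locus_iff.2 ⟨_, hx, hframe i⟩
  have hLinv := ArSurfX.isInvertible_idealMod hb.1
  obtain ⟨r, hr, τ, hτ⟩ := S3572.result 1 b (ClSub.idealMod D) hLinv σ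
    (AVAmple.generatedBy_of_locus σ fun x => (hcov' x).imp fun i hi => hle i hi)
  refine ⟨r, ?_, hr, ⟨τ⟩⟩
  haveI : IsProper (r ≫ CohB1.ProjSpace.toSpec 1 A) := by rw [hr]; infer_instance
  let P : Fin (1 + 1) → (CohB1.ProjSpace 1 A).Opens := fun i =>
    Proj.basicOpen (CohB1.polyGrading 1 A) (MvPolynomial.X i)
  have hpre : ∀ i, r ⁻¹ᵁ P i = (chartOpen (j (v i))).1 := fun i => by
    refine (AmpleEmbed.preimage_chart r τ i (hτ i)).trans (le_antisymm (fun x hx => ?_) (hle i))
    obtain ⟨l, hl⟩ := hcov' x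
    have h1 : x ∈ TrivBasic.locus (σ i) ⊓ (chartOpen (j (v l))).1 := ⟨hx, hl⟩
    rw [TrivBasic.locus_eq_basicOpen (hframe l) (res_eq_smul b (j (v l)) (hj _) (hσ l) (hσ i)),
      basicOpen_θ (j (v l))] at h1
    obtain ⟨p, hp, rfl⟩ := h1
    obtain ⟨q, hq⟩ := hover (v i) (v l) p hp
    exact ⟨q, trivial, hq⟩
  have hPaff : ∀ i, IsAffineOpen (P i) := fun i => Proj.isAffineOpen_basicOpen _ _ (ProjPt.X_mem _) one_pos
  refine IsZariskiLocalAtTarget.of_iSup_eq_top (P := @IsClosedImmersion) P (AmpleEmbed.iSup_basicOpen_X 1 A) fun i => ?_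
  haveI : IsAffine (P i : Scheme) := hPaff i
  haveI : IsAffine (r ⁻¹ᵁ P i : Scheme) := by rw [hpre i]; exact (chartOpen (j (v i))).2
  refine IsClosedImmersion.of_surjective_of_isAffine _ ?_
  set V := (chartOpen (j (v i))).1
  let S : Subring Γ(X, V) := (r.appLE (P i) V (hpre i).ge).hom.range
  have hconst : ∀ c : A, BlowUpLib.strHom b V c ∈ S := fun c => by
    refine ⟨(CohB1.ProjSpace.toSpec 1 A).appLE ⊤ (P i) le_top ((Scheme.ΓSpecIso (CommRingCat.of A)).inv c), ?_⟩
    rw [← CommRingCat.comp_apply, Scheme.Hom.appLE_comp_appLE]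
    simp only [hr]
    rfl
  have hfrac : ∀ l, θ (j (v i)) (BlowUpLib.frac _ (v l) (v i)) ∈ S := fun l =>
    ⟨(Proj.awayToSection (CohB1.polyGrading 1 A) (MvPolynomial.X i)).hom
      (HomogeneousLocalization.Away.mk (CohB1.polyGrading 1 A) (ProjPt.X_mem _) 1 (MvPolynomial.X l)
        (by rw [one_smul]; exact ProjPt.X_mem _)),
      AmpleEmbed.ratioOf_eq r τ _ _ (hτ i) (hτ l) (hpre i).ge _
        (res_eq_smul b (j (v i)) (hj _) (hσ i) (hσ l))⟩
  obtain ⟨l, hl⟩ : ∃ l, maximalIdeal A = Ideal.span {(v i : A), (v l : A)} := by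
    fin_cases i
    exacts [⟨1, hv⟩, ⟨0, hv'⟩]
  have hsurj : Function.Surjective (r.appLE (P i) V (hpre i).ge) := fun s => by
    show s ∈ S
    obtain ⟨q, rfl⟩ := (θ_bijective (j (v i))).2 s
    obtain ⟨p, rfl⟩ := ChartPoint.π_surjective (v i) (v l) hl q
    induction p using Polynomial.induction_on' with
    | add p q hp hq => rw [map_add, map_add]; exact S.add_mem hp hq
    | monomial n c =>
      rw [← Polynomial.C_mul_X_pow_eq_monomial, map_mul, map_mul, map_pow, map_pow, ChartPoint.π_C, ChartPoint.π_X,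
        θ_algebraMap b (j (v i)) (hj _)]
      exact S.mul_mem (hconst c) (S.pow_mem (hfrac l) n)
  intro z
  rw [morphismRestrict_appTop]
  obtain ⟨y, hy⟩ := hsurj (X.presheaf.map (eqToHom (hpre i).symm).op ((r ⁻¹ᵁ P i).topIso.hom z))
  refine ⟨(P i).topIso.inv y, (ConcreteCategory.bijective_of_isIso (r ⁻¹ᵁ P i).topIso.hom).1 ?_⟩
  apply (ConcreteCategory.bijective_of_isIso (X.presheaf.map (eqToHom (hpre i).symm).op)).1
  rw [← hy]
  simp only [← CommRingCat.comp_apply]
  congr 2
  simp only [Scheme.Hom.appLE, Scheme.Opens.topIso, Category.assoc]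
  simp [← Functor.map_comp]
  rw [r.naturality_assoc, ← Functor.map_comp]
  rfl

end Groth.Agent.ArSurfX.BlowLine
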