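import Groth.Agent.ArSurfX.BlowLine
import Groth.Agent.CurveEmbed.Line
import Groth.Agent.KRRLib.PnBC.Twist
import Groth.Prelude.Def_ModelsG

/-!
# The exceptional divisor of the blow-up of a two-dimensional regular point

It is the projective line over the residue field, with conormal sheaf `O(1)`.
-/

universe u

set_option linter.style.haveILetI false
set_option backward.isDefEq.respectTransparency false
set_option backward.isDefEq.respectTransparency.types false

open CategoryTheory CategoryTheory.Limits AlgebraicGeometry IsLocalRing TopologicalSpace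

namespace Groth.Agent.ArSurfX.BlowLine

open Groth.Agent

variable {A : Type u} [CommRing A] [IsRegularLocalRing A] [IsDomain A] {X : Scheme.{u}}

omit [IsDomain A] in
/-- The closed point is the closed subscheme of the maximal ideal. -/
theorem ker_residue : (Spec.map (CommRingCat.ofHom (residue A))).ker = BlowUpLib.centre (maximalIdeal A) := by
  refine Scheme.IdealSheafData.ext_of_isAffine ?_
  rw [Scheme.Hom.ker_apply, BlowUpLib.centre_top]
  ext s
  obtain ⟨s, rfl⟩ := (ConcreteCategory.bijective_of_isIso (Scheme.ΓSpecIso (CommRingCat.of A)).inv).2 s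
  rw [RingHom.mem_ker, Ideal.mem_map_iff_of_surjective _
    (ConcreteCategory.bijective_of_isIso (Scheme.ΓSpecIso (CommRingCat.of A)).inv).2]
  have hnat : (Spec.map (CommRingCat.ofHom (residue A))).app ⊤ ((Scheme.ΓSpecIso (CommRingCat.of A)).inv s) =
      (Scheme.ΓSpecIso (CommRingCat.of (ResidueField A))).inv (residue A s) :=
    (ConcreteCategory.congr_hom (Scheme.ΓSpecIso_inv_naturality (CommRingCat.ofHom (residue A))) s).symm
  rw [hnat, map_eq_zero_iff _ (ConcreteCategory.bijective_of_isIso
    (Scheme.ΓSpecIso (CommRingCat.of (ResidueField A))).inv).1]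
  refine ⟨fun h => ⟨s, Ideal.Quotient.eq_zero_iff_mem.1 h, rfl⟩, fun ⟨t, ht, hte⟩ => ?_⟩
  rw [← (ConcreteCategory.bijective_of_isIso (Scheme.ΓSpecIso (CommRingCat.of A)).inv).1 hte]
  exact Ideal.Quotient.eq_zero_iff_mem.2 ht

theorem mem_support_centre {p : PrimeSpectrum A} :
    p ∈ ((BlowUpLib.centre (maximalIdeal A)).support : Set (Spec (CommRingCat.of A))) ↔ p = closedPoint A := by
  rw [← ker_residue, Scheme.Hom.support_ker]
  constructor
  · intro hp
    haveI : IsClosedImmersion (Spec.map (CommRingCat.ofHom (residue A))) :=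
      IsClosedImmersion.spec_of_surjective _ residue_surjective
    rw [(Spec.map (CommRingCat.ofHom (residue A))).isClosedEmbedding.isClosed_range.closure_eq] at hp
    obtain ⟨q, rfl⟩ := hp
    refine (congrArg _ (Subsingleton.elim (α := PrimeSpectrum (ResidueField A)) q (closedPoint (ResidueField A)))).trans ?_
    exact IsLocalRing.comap_closedPoint (residue A)
  · rintro rfl
    exact subset_closure ⟨closedPoint (ResidueField A), IsLocalRing.comap_closedPoint (residue A)⟩

/-- The exceptional divisor is the projective line over the residue field, its conormal sheaf is `O(1)`. -/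
theorem exists_iso_exceptional (hdim : ringKrullDim A = 2) (b : X ⟶ Spec (CommRingCat.of A))
    (hb : BlowUp.IsBlowUp b (BlowUpLib.centre (maximalIdeal A))) :
    ∃ e : CohB1.ProjSpace 1 (ResidueField A) ≅ ((BlowUpLib.centre (maximalIdeal A)).comap b).subscheme,
      e.hom ≫ ((BlowUpLib.centre (maximalIdeal A)).comap b).subschemeι ≫ b =
        CohB1.ProjSpace.toSpec 1 (ResidueField A) ≫ Spec.map (CommRingCat.ofHom (residue A)) ∧
      Nonempty ((Scheme.Modules.pullback (e.hom ≫ ((BlowUpLib.centre (maximalIdeal A)).comap b).subschemeι)).obj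
        (ClSub.idealMod ((BlowUpLib.centre (maximalIdeal A)).comap b)) ≅ Twist.twistProjSpace 1 (ResidueField A) 1) := by
  haveI : IsLocallyNoetherian (Spec (CommRingCat.of A)) := inferInstance
  haveI : IsProper b := BlowUpLib.isProper_of_isBlowUp _ hb fun U => by
    haveI : IsNoetherianRing Γ(Spec (CommRingCat.of A), U.1) := IsLocallyNoetherian.component_noetherian U
    exact IsNoetherian.noetherian _
  set D := (BlowUpLib.centre (maximalIdeal A)).comap b
  obtain ⟨r, hr, hrb, ⟨τ⟩⟩ := exists_closedImmersion hdim b hb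
  haveI := hr
  haveI : IsClosedImmersion (Spec.map (CommRingCat.ofHom (residue A))) :=
    IsClosedImmersion.spec_of_surjective _ residue_surjective
  have hker : (Spec.map (CommRingCat.ofHom (residue A))).ker ≤ (D.subschemeι ≫ b).ker := by
    rw [ker_residue]
    exact Scheme.IdealSheafData.le_map_iff_comap_le.2 le_rfl
  let g := IsClosedImmersion.lift (Spec.map (CommRingCat.ofHom (residue A))) (D.subschemeι ≫ b) hker
  have hg : g ≫ Spec.map (CommRingCat.ofHom (residue A)) = D.subschemeι ≫ b := IsClosedImmersion.lift_fac _ _ _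
  have hbc := KRRLib.PnBC.isPullback_bcHom (n := 1) (residue A)
  obtain ⟨q, hq1, hq2⟩ : ∃ q : D.subscheme ⟶ CohB1.ProjSpace 1 (ResidueField A),
      q ≫ KRRLib.PnBC.bcHom 1 (residue A) = D.subschemeι ≫ r ∧ q ≫ CohB1.ProjSpace.toSpec 1 (ResidueField A) = g :=
    ⟨hbc.lift (D.subschemeι ≫ r) g (by rw [Category.assoc, hrb, hg]), hbc.lift_fst _ _ _, hbc.lift_snd _ _ _⟩
  haveI : IsClosedImmersion (KRRLib.PnBC.bcHom 1 (residue A)) :=
    MorphismProperty.of_isPullback (P := @IsClosedImmersion) hbc.flip inferInstance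
  haveI : IsClosedImmersion (q ≫ KRRLib.PnBC.bcHom 1 (residue A)) := by rw [hq1]; infer_instance
  haveI : IsClosedImmersion q := IsClosedImmersion.of_comp q (KRRLib.PnBC.bcHom 1 (residue A))
  -- a point of the divisor which is not closed
  obtain ⟨j, hjo, hj, hcov, -⟩ := exists_charts b hb
  haveI := hjo
  obtain ⟨a₀, b₀, hm, ha0, -, hrp⟩ := exists_parameters hdim
  let ca : maximalIdeal A := ⟨a₀, hm ▸ Ideal.subset_span (by simp)⟩
  let cb : maximalIdeal A := ⟨b₀, hm ▸ Ideal.subset_span (by simp)⟩
  haveI := (RegUFD.ufd (A := A)).2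
  have hcm : maximalIdeal A = Ideal.span {(ca : A), (cb : A)} := hm
  set z := algebraMap A (BlowUp.affineAlgebra A (maximalIdeal A) (ca : A)) (ca : A)
  have hz := ChartPoint.prime_algebraMap ca cb hcm ha0 hrp
  have hzP : (Ideal.span {z}).IsPrime := (Ideal.span_singleton_prime hz.ne_zero).2 hz
  obtain ⟨P, Q, hP, hQ, hPQ, hPc, hQc⟩ := ChartPoint.exists_two_primes ca cb hcm ha0 hrp
  have hover : ∀ (N : PrimeSpectrum (BlowUp.affineAlgebra A (maximalIdeal A) (ca : A))),
      z ∈ N.asIdeal → ∃ w : D.subscheme, D.subschemeι w = j ca N := by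
    intro N hN
    show j ca N ∈ Set.range D.subschemeι
    rw [Scheme.IdealSheafData.range_subschemeι, Scheme.IdealSheafData.support_comap]
    show (j ca ≫ b) N ∈ ((BlowUpLib.centre (maximalIdeal A)).support : Set (Spec (CommRingCat.of A)))
    rw [hj]
    refine mem_support_centre.2 (PrimeSpectrum.ext ?_)
    refine ((maximalIdeal.isMaximal A).eq_of_le (Ideal.IsPrime.ne_top inferInstance) fun c hc => ?_).symm
    show algebraMap A _ c ∈ N.asIdeal
    rw [← BlowUpLib.frac_mul (maximalIdeal A) ⟨c, hc⟩ ca]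
    exact Ideal.mul_mem_left _ _ hN
  obtain ⟨ξ, hξ⟩ := hover ⟨_, hzP⟩ (Ideal.mem_span_singleton_self z)
  have hzle : ∀ N : PrimeSpectrum (BlowUp.affineAlgebra A (maximalIdeal A) (ca : A)),
      N.asIdeal.comap (algebraMap A _) = maximalIdeal A → z ∈ N.asIdeal := fun N hN => by
    have : (ca : A) ∈ N.asIdeal.comap (algebraMap A _) := by rw [hN]; exact ca.2
    exact this
  obtain ⟨wP, hwP⟩ := hover ⟨P, hP⟩ (hzle ⟨P, hP⟩ hPc)
  obtain ⟨wQ, hwQ⟩ := hover ⟨Q, hQ⟩ (hzle ⟨Q, hQ⟩ hQc)
  have hspec : ∀ N, (hN : z ∈ N.asIdeal) → ∀ w, D.subschemeι w = j ca N → ξ ⤳ w := fun N hN w hw => by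
    rw [← D.subschemeι.isEmbedding.isInducing.specializes_iff, hξ, hw]
    exact ((PrimeSpectrum.le_iff_specializes ⟨_, hzP⟩ N).1
      ((Ideal.span_singleton_le_iff_mem _).2 hN)).map (j ca).continuous
  have hne : ¬ IsClosed ({ξ} : Set D.subscheme) := fun hc => by
    have h1 := (hspec _ (hzle ⟨P, hP⟩ hPc) wP hwP).mem_closed hc rfl
    have h2 := (hspec _ (hzle ⟨Q, hQ⟩ hQc) wQ hwQ).mem_closed hc rfl
    rw [Set.mem_singleton_iff] at h1 h2
    exact hPQ (congrArg PrimeSpectrum.asIdeal ((j ca).isOpenEmbedding.injective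
      (hwP.symm.trans ((congrArg _ (h1.trans h2.symm)).trans hwQ))))
  -- hence everything
  haveI : IsIntegral (CohB1.ProjSpace 1 (ResidueField A)) := H23.PnChart.isIntegral_projSpace 1 _
  haveI : IsProper (CohB1.ProjSpace.toSpec 1 (ResidueField A)) := PnCoh.Chow.isProper_toSpec 1 _
  haveI : CompactSpace ↥(CohB1.ProjSpace 1 (ResidueField A)) :=
    QuasiCompact.compactSpace_of_compactSpace (CohB1.ProjSpace.toSpec 1 (ResidueField A))
  letI : (CohB1.ProjSpace 1 (ResidueField A)).Over (Spec (CommRingCat.of (ResidueField A))) :=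
    ⟨CohB1.ProjSpace.toSpec 1 (ResidueField A)⟩
  have hdimP : topologicalKrullDim ↥(CohB1.ProjSpace 1 (ResidueField A)) = 1 := by
    simpa using S10829.result (ResidueField A) 1
  have hξgen : q ξ = genericPoint (CohB1.ProjSpace 1 (ResidueField A)) := by
    refine CurveCohLib.eq_genericPoint_of_not_isClosed hdimP fun hc => hne ?_
    have := hc.preimage q.continuous
    rwa [show q ⁻¹' {q ξ} = ({ξ} : Set D.subscheme) from
      Set.ext fun w => ⟨fun h => q.isClosedEmbedding.injective h, fun h => congrArg _ h⟩] at this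
  haveI : Surjective q := ⟨fun w => (genericPoint_specializes w).mem_closed q.isClosedEmbedding.isClosed_range
    ⟨ξ, hξgen⟩⟩
  haveI := isIso_of_isClosedImmersion_of_surjective q
  refine ⟨(asIso q).symm, ?_, ?_⟩
  · rw [← hg, ← hq2]
    simp
  · refine ⟨(Scheme.Modules.pullback ((asIso q).symm.hom ≫ D.subschemeι)).mapIso τ.symm ≪≫
      (Scheme.Modules.pullbackComp ((asIso q).symm.hom ≫ D.subschemeι) r).app _ ≪≫
      (Scheme.Modules.pullbackCongr ?_).app _ ≪≫
      KRRLib.PnBC.twistIso (residue A) 1⟩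
    rw [Category.assoc, ← hq1]
    simp

end Groth.Agent.ArSurfX.BlowLine
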