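import Groth.Agent.InvX.GenLocusPull
import Groth.Agent.H23.PicMul
import Groth.Prelude.Def_ClSub2

/-!
# Isomorphisms from matching frames, and classes of tensor inverses
-/

universe u

open CategoryTheory AlgebraicGeometry TopologicalSpace Opposite

namespace Groth.Agent.ArSurfX

open Groth.Agent Groth.Agent.AModX Groth.Agent.InvX

variable {X : Scheme.{u}} {M N : X.Modules}

/-- Modules with frames on a common cover and the same transition functions are isomorphic. -/
theorem nonempty_iso_of_frames {ι : Type u} (U : ι → X.Opens) (hcov : ∀ x, ∃ a, x ∈ U a)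
    (e : ∀ a, Γ(M, U a)) (he : ∀ a, IsFrame (e a)) (n : ∀ a, Γ(N, U a)) (hn : ∀ a, IsFrame (n a))
    (hc : ∀ (a b : ι) (W : X.Opens) (ha : W ≤ U a) (hb : W ≤ U b) (g : Γ(X, W)),
      res M hb (e b) = g • res M ha (e a) → res N hb (n b) = g • res N ha (n a)) :
    Nonempty (M ≅ N) := by
  have hc' : ∀ (a b : ι) (W : X.Opens) (ha : W ≤ U a) (hb : W ≤ U b) (g : Γ(X, W)),
      res N hb (n b) = g • res N ha (n a) → res M hb (e b) = g • res M ha (e a) := by
    intro a b W ha hb g hg
    obtain ⟨g', hg'⟩ := (he a).exists_coord ha (res M hb (e b))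
    rwa [(hn a).coord_unique ha (hg.symm.trans (hc a b W ha hb g' hg'))]
  refine ⟨⟨ofFrames hcov he hc, ofFrames hcov hn hc', ?_, ?_⟩⟩
  · refine hom_ext_of_frames U hcov e he fun a => ?_
    show (ofFrames hcov hn hc').app (U a) ((ofFrames hcov he hc).app (U a) (e a)) = e a
    rw [ofFrames_app, ofFrames_app]
  · refine hom_ext_of_frames U hcov n hn fun a => ?_
    show (ofFrames hcov he hc).app (U a) ((ofFrames hcov hn hc').app (U a) (n a)) = n a
    rw [ofFrames_app, ofFrames_app]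

open H23.PicMul in
/-- A tensor inverse of an invertible module is invertible and unique. -/
theorem nonempty_iso_of_isInverseOf {L L' I : X.Modules} (hI : PicF.IsInvertible I)
    (h : ClSub.IsInverseOf L I) (h' : ClSub.IsInverseOf L' I) : Nonempty (L ≅ L') := by
  refine cl_eq_iff.1 ((isUnit_cl hI).mul_right_cancel ?_)
  show PicF.cl (CohB1.tensorMod L I) = PicF.cl (CohB1.tensorMod L' I)
  rw [cl_eq_iff.2 h, cl_eq_iff.2 h']

theorem isInvertible_of_isInverseOf {L I : X.Modules} (hI : PicF.IsInvertible I)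
    (h : ClSub.IsInverseOf L I) : PicF.IsInvertible L := by
  obtain ⟨D, hD, e⟩ := H23.PicInv.exists_inverse hI
  obtain ⟨c⟩ := H23.PicMul.comm D I
  obtain ⟨f⟩ := nonempty_iso_of_isInverseOf hI (L := D) (L' := L) ⟨c ≪≫ e.some⟩ h
  exact H23.PicMul.isInvertible_of_iso f hD

theorem exists_isInverseOf {I : X.Modules} (hI : PicF.IsInvertible I) :
    ∃ L : X.Modules, PicF.IsInvertible L ∧ ClSub.IsInverseOf L I := by
  obtain ⟨D, hD, e⟩ := H23.PicInv.exists_inverse hI
  obtain ⟨c⟩ := H23.PicMul.comm D I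
  exact ⟨D, hD, ⟨c ≪≫ e.some⟩⟩

open H23.PicMul in
theorem isInverseOf_tensor {L I L' I' : X.Modules} (h : ClSub.IsInverseOf L I)
    (h' : ClSub.IsInverseOf L' I') :
    ClSub.IsInverseOf (CohB1.tensorMod L L') (CohB1.tensorMod I I') := by
  refine cl_eq_iff.1 ?_
  rw [cl_tensor, cl_tensor, cl_tensor, mul_mul_mul_comm, ← cl_tensor L I, ← cl_tensor L' I',
    cl_eq_iff.2 h, cl_eq_iff.2 h', ← one_def, mul_one]

open H23.PicMul in
theorem isInverseOf_of_iso {L I I' : X.Modules} (e : I ≅ I') (h : ClSub.IsInverseOf L I) :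
    ClSub.IsInverseOf L I' := by
  refine cl_eq_iff.1 ?_
  rw [cl_tensor, ← cl_eq_iff.2 ⟨e⟩, ← cl_tensor, cl_eq_iff.2 h]

open H23.PicMul in
theorem isInverseOf_pullback {Y : Scheme.{u}} (f : Y ⟶ X) {L I : X.Modules} (h : ClSub.IsInverseOf L I) :
    ClSub.IsInverseOf ((Scheme.Modules.pullback f).obj L) ((Scheme.Modules.pullback f).obj I) := by
  refine cl_eq_iff.1 ?_
  show PicF.pullCl f (PicF.cl L) * PicF.pullCl f (PicF.cl I) = _
  rw [← pullCl_mul, ← cl_tensor, cl_eq_iff.2 h, ← one_def, pullCl_one]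
  rfl

end Groth.Agent.ArSurfX
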