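import Groth.Agent.S1604
import Groth.Agent.Snapper.DimVanish
import Groth.Agent.ZeroSchX.Basic
import Groth.Agent.InvX.Tensor
import Groth.Agent.ArSurfX.Frames
import Groth.Prelude.Def_ArSurf

/-!
# `ArSurf.curveDeg` on proper schemes of dimension at most one
-/

universe u

open CategoryTheory CategoryTheory.Limits AlgebraicGeometry

namespace Groth.Agent.ArSurfX

open Groth.Agent

variable (k : Type u) [Field k] {Y : Scheme.{u}} [Y.Over (Spec (CommRingCat.of k))]
  [IsProper (Y ↘ Spec (CommRingCat.of k))]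

theorem eulerCharLE_one (hdim : topologicalKrullDim Y ≤ 1) {M : Y.Modules} (hM : Coh.IsQCoh M) :
    FGA.eulerCharLE k Y M 1 = Curv2.euler k Y M := by
  haveI := CurveCohLib.isNoetherian_of_proper (k := k) (X := Y)
  haveI : Y.IsSeparated := ⟨by
    rw [← terminal.comp_from (Y ↘ Spec (CommRingCat.of k))]
    infer_instance⟩
  rw [Euler.euler_eq_sum k M 2 fun i hi => Snapper.subsingleton_HH_of_dim_le (d := 1)
    (by exact_mod_cast hdim) hM (by omega)]
  rfl

theorem curveDeg_eq (hdim : topologicalKrullDim Y ≤ 1) {M : Y.Modules} (hM : Coh.IsQCoh M) :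
    ArSurf.curveDeg k Y M = Curv2.deg k Y M 1 := by
  unfold ArSurf.curveDeg Curv2.deg
  rw [eulerCharLE_one k hdim hM, eulerCharLE_one k hdim QCoh.isQCoh_structureModule]
  simp

theorem curveDeg_structureModule : ArSurf.curveDeg k Y (Coh.structureModule Y) = 0 := sub_self _

theorem curveDeg_congr (hdim : topologicalKrullDim Y ≤ 1) {L M : Y.Modules} (hL : PicF.IsInvertible L)
    (e : L ≅ M) : ArSurf.curveDeg k Y L = ArSurf.curveDeg k Y M := by
  rw [curveDeg_eq k hdim (ZeroSchX.isQCoh_inv hL),
    curveDeg_eq k hdim (ZeroSchX.isQCoh_inv (H23.PicMul.isInvertible_of_iso e hL))]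
  unfold Curv2.deg
  rw [Euler.euler_congr k e]

theorem curveDeg_tensor (hdim : topologicalKrullDim Y ≤ 1) {L M : Y.Modules} (hL : PicF.IsInvertible L)
    (hM : PicF.IsInvertible M) :
    ArSurf.curveDeg k Y (CohB1.tensorMod L M) = ArSurf.curveDeg k Y L + ArSurf.curveDeg k Y M := by
  haveI := CurveCohLib.isNoetherian_of_proper (k := k) (X := Y)
  rw [curveDeg_eq k hdim (ZeroSchX.isQCoh_inv (H23.PicMul.isInvertible_tensor hL hM)),
    curveDeg_eq k hdim (ZeroSchX.isQCoh_inv hL), curveDeg_eq k hdim (ZeroSchX.isQCoh_inv hM)]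
  have h := CurvePsi.deg_tensor_locFree k hdim (InvEnd.isFinLocFreeOfRank_one hL)
    (InvEnd.isFinLocFreeOfRank_one hM)
  rw [one_mul] at h
  rw [show CohB1.tensorMod L M = (DCoh.tensorBi.obj L).obj M from rfl, h]
  push_cast
  ring

theorem curveDeg_tensorPow (hdim : topologicalKrullDim Y ≤ 1) {L : Y.Modules} (hL : PicF.IsInvertible L) :
    ∀ n : ℕ, ArSurf.curveDeg k Y (CohB1.tensorPow L n) = n * ArSurf.curveDeg k Y L
  | 0 => by
    rw [show CohB1.tensorPow L 0 = Coh.structureModule Y from rfl, curveDeg_structureModule]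
    simp
  | n + 1 => by
    rw [show CohB1.tensorPow L (n + 1) = CohB1.tensorMod (CohB1.tensorPow L n) L from rfl,
      curveDeg_tensor k hdim (H23.PicMul.isInvertible_tensorPow hL n) hL, curveDeg_tensorPow hdim hL n]
    push_cast
    ring

theorem curveDeg_inverse (hdim : topologicalKrullDim Y ≤ 1) {L I : Y.Modules} (hI : PicF.IsInvertible I)
    (h : ClSub.IsInverseOf L I) : ArSurf.curveDeg k Y L = -ArSurf.curveDeg k Y I := by
  have hL := isInvertible_of_isInverseOf hI h
  have h1 := curveDeg_congr k hdim (H23.PicMul.isInvertible_tensor hL hI) h.some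
  rw [curveDeg_tensor k hdim hL hI, curveDeg_structureModule] at h1
  omega

/-- The degree of the inverse of the module of an effective Cartier divisor. -/
theorem curveDeg_of_effCartier (hdim : topologicalKrullDim Y ≤ 1) {D : Y.IdealSheafData}
    (hD : BlowUp.IsEffCartierIdeal D) {L : Y.Modules} (hL : PicF.IsInvertible L)
    (h : ClSub.IsInverseOf L (ClSub.idealMod D)) :
    ArSurf.curveDeg k Y L = Module.finrank k (Coh.HH Y (ClSub.quotMod D) 0) := by
  have hO := InvX.isInvertible_structureModule (X := Y)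
  have h1 := (S1604.result k Y hdim D hD L hL h 1 _ (InvEnd.isFinLocFreeOfRank_one hO)).2
  rw [← curveDeg_eq k hdim (ZeroSchX.isQCoh_inv (H23.PicMul.isInvertible_tensor hO hL)),
    curveDeg_tensor k hdim hO hL, ← curveDeg_eq k hdim QCoh.isQCoh_structureModule,
    curveDeg_structureModule] at h1
  simpa using h1

end Groth.Agent.ArSurfX
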