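import Groth.Agent.ArSurfX.Fibre
import Groth.Agent.ArSurfX.Deg
import Groth.Agent.ArSurfX.PullIdeal
import Groth.Agent.PicClLib.Basic
import Groth.Agent.QCoh.PushLin
import Groth.Agent.H23.PullPush
import Groth.Prelude.Def_ModelsG

/-!
# Intersection numbers with vertical prime divisors

Additivity of `ArSurf.inter`, the formula `D · Γ = length H⁰(O/(I_D + I_Γ))`, and `X_s · Γ = 0`.
-/

universe u

set_option linter.style.haveILetI false
set_option backward.isDefEq.respectTransparency false
set_option backward.isDefEq.respectTransparency.types false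

open CategoryTheory CategoryTheory.Limits AlgebraicGeometry IsLocalRing

namespace Groth.Agent.ArSurfX

open Groth.Agent

section Subscheme

theorem toSheaf_map_comp_smulAb {Y : Scheme.{u}} {F G : Y.Modules} (φ : F ⟶ G) (s : Coh.Γtop Y) :
    (SheafOfModules.toSheaf Y.ringCatSheaf).map φ ≫ Coh.smulAb G s =
      Coh.smulAb F s ≫ (SheafOfModules.toSheaf Y.ringCatSheaf).map φ := by
  ext U m
  change (Coh.smulAb G s).hom.app U ((φ.val.app U).hom m) =
    (φ.val.app U).hom ((Coh.smulAb F s).hom.app U m)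
  rw [Coh.smulAb_app, Coh.smulAb_app]
  exact ((φ.val.app U).hom.map_smul (Coh.resTop Y U s) m).symm

/-- Isomorphic modules have linearly isomorphic cohomology. -/
theorem nonempty_HH_congr {A : Type u} [CommRing A] {Y : Scheme.{u}} (ρ : A →+* Coh.Γtop Y)
    {N N' : Y.Modules} (e : N ≅ N') (p : ℕ) :
    letI := QCoh.modHH ρ N p
    letI := QCoh.modHH ρ N' p
    Nonempty (Coh.HH Y N p ≃ₗ[A] Coh.HH Y N' p) := by
  letI := QCoh.modHH ρ N p
  letI := QCoh.modHH ρ N' p
  let F := (SheafOfModules.toSheaf Y.ringCatSheaf).map e.hom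
  let G := (SheafOfModules.toSheaf Y.ringCatSheaf).map e.inv
  have hFG : F ≫ G = 𝟙 _ :=
    ((SheafOfModules.toSheaf Y.ringCatSheaf).map_comp _ _).symm.trans
      ((congrArg _ e.hom_inv_id).trans ((SheafOfModules.toSheaf Y.ringCatSheaf).map_id _))
  have hGF : G ≫ F = 𝟙 _ :=
    ((SheafOfModules.toSheaf Y.ringCatSheaf).map_comp _ _).symm.trans
      ((congrArg _ e.inv_hom_id).trans ((SheafOfModules.toSheaf Y.ringCatSheaf).map_id _))
  refine ⟨{ toFun := Sheaf.H.map F p
            invFun := Sheaf.H.map G p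
            left_inv := fun x => by rw [← Sheaf.H.map_comp_apply, hFG]; simp
            right_inv := fun x => by rw [← Sheaf.H.map_comp_apply, hGF]; simp
            map_add' := map_add _
            map_smul' := fun r x => ?_ }⟩
  show Sheaf.H.map F p (Sheaf.H.map (Coh.smulAb N (ρ r)) p x) =
    Sheaf.H.map (Coh.smulAb N' (ρ r)) p (Sheaf.H.map F p x)
  rw [← Sheaf.H.map_comp_apply, ← Sheaf.H.map_comp_apply, toSheaf_map_comp_smulAb]

variable {Y X : Scheme.{u}} (i : Y ⟶ X) [IsClosedImmersion i]

/-- The scheme-theoretic intersection of `D` with a closed subscheme. -/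
theorem exists_iso_comap_sup (D : X.IdealSheafData) :
    ∃ v : (D ⊔ i.ker).subscheme ⟶ (D.comap i).subscheme, IsIso v ∧
      v ≫ (D.comap i).subschemeι ≫ i = (D ⊔ i.ker).subschemeι := by
  set J := D ⊔ i.ker
  set E := D.comap i
  have hiJ : i.ker ≤ J.subschemeι.ker := by rw [Scheme.IdealSheafData.ker_subschemeι]; exact le_sup_right
  set u := IsClosedImmersion.lift i J.subschemeι hiJ
  have hu : u ≫ i = J.subschemeι := IsClosedImmersion.lift_fac _ _ _
  haveI : IsClosedImmersion (u ≫ i) := hu ▸ inferInstance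
  haveI : IsClosedImmersion u := IsClosedImmersion.of_comp u i
  have hEu : E ≤ u.ker := by
    refine Scheme.IdealSheafData.le_map_iff_comap_le.1 ?_
    show D ≤ (u.ker.subschemeι ≫ i).ker
    rw [← Scheme.Hom.ker_comp_of_isIso u.toImage (u.ker.subschemeι ≫ i)]
    have : u.toImage ≫ u.ker.subschemeι ≫ i = J.subschemeι :=
      (Category.assoc _ _ _).symm.trans ((congrArg (· ≫ i) u.toImage_imageι).trans hu)
    rw [this, Scheme.IdealSheafData.ker_subschemeι]
    exact le_sup_left
  have hEu' : E.subschemeι.ker ≤ u.ker := by rwa [Scheme.IdealSheafData.ker_subschemeι]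
  set v := IsClosedImmersion.lift E.subschemeι u hEu'
  have hv : v ≫ E.subschemeι = u := IsClosedImmersion.lift_fac _ _ _
  have hvi : v ≫ E.subschemeι ≫ i = J.subschemeι := by rw [← Category.assoc, hv, hu]
  refine ⟨v, IsClosedImmersion.isIso_of_ker_eq J.subschemeι (E.subschemeι ≫ i) v hvi ?_, hvi⟩
  rw [Scheme.IdealSheafData.ker_subschemeι]
  refine le_antisymm (sup_le (Scheme.IdealSheafData.le_map_comap D i) ?_) ?_
  · have h : i.ker ≤ (⊥ : Y.IdealSheafData).map i := Scheme.Hom.le_ker_comp _ _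
    exact h.trans (Scheme.IdealSheafData.map_mono i bot_le)
  · exact (Scheme.Hom.le_ker_comp v (E.subschemeι ≫ i)).trans_eq
      (by rw [hvi, Scheme.IdealSheafData.ker_subschemeι])

/-- Sections of the intersection, computed on the closed subscheme or on the ambient scheme. -/
theorem nonempty_HH_quotMod_comap (D : X.IdealSheafData) {A : Type u} [CommRing A]
    (f : X ⟶ Spec (CommRingCat.of A)) (n : ℕ) :
    letI := QCoh.modHH (Coh.toGlobal (i ≫ f)) (ClSub.quotMod (D.comap i)) n
    letI := QCoh.modHH (Coh.toGlobal f) (ClSub.quotMod (D ⊔ i.ker)) n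
    Nonempty (Coh.HH Y (ClSub.quotMod (D.comap i)) n ≃ₗ[A]
      Coh.HH X (ClSub.quotMod (D ⊔ i.ker)) n) := by
  obtain ⟨v, hv, hvi⟩ := exists_iso_comap_sup i D
  let ρY := Coh.toGlobal (i ≫ f)
  let ρX := Coh.toGlobal f
  let ρZ := Coh.toGlobal ((D.comap i).subschemeι ≫ i ≫ f)
  let ρW := Coh.toGlobal ((D ⊔ i.ker).subschemeι ≫ f)
  letI := QCoh.modHH ρY (ClSub.quotMod (D.comap i)) n
  letI := QCoh.modHH ρX (ClSub.quotMod (D ⊔ i.ker)) n
  letI := QCoh.modHH ρY ((Coh.push (D.comap i).subschemeι).obj (Coh.structureModule (D.comap i).subscheme)) n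
  letI := QCoh.modHH ρX ((Coh.push (D ⊔ i.ker).subschemeι).obj (Coh.structureModule (D ⊔ i.ker).subscheme)) n
  letI := QCoh.modHH ρW (Coh.structureModule (D ⊔ i.ker).subscheme) n
  letI := QCoh.modHH ρZ (Coh.structureModule (D.comap i).subscheme) n
  letI := QCoh.modHH ρZ ((Coh.push v).obj (Coh.structureModule (D ⊔ i.ker).subscheme)) n
  obtain ⟨e1⟩ := QCoh.HH_push_linear (D.comap i).subschemeι ρY ρZ (fun a => rfl)
    (QCoh.isQCoh_structureModule (X := (D.comap i).subscheme)) n
  obtain ⟨e2⟩ := QCoh.HH_push_linear (D ⊔ i.ker).subschemeι ρX ρW (fun a => rfl)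
    (QCoh.isQCoh_structureModule (X := (D ⊔ i.ker).subscheme)) n
  have hW : ρW = Coh.toGlobal (v ≫ (D.comap i).subschemeι ≫ i ≫ f) := by
    show Coh.toGlobal ((D ⊔ i.ker).subschemeι ≫ f) = _
    rw [← hvi, Category.assoc, Category.assoc]
  obtain ⟨e3⟩ := QCoh.HH_push_linear v ρZ ρW (fun a => by rw [hW]; rfl)
    (QCoh.isQCoh_structureModule (X := (D ⊔ i.ker).subscheme)) n
  obtain ⟨e4⟩ := nonempty_HH_congr ρZ (H23.PullPush.structureModuleIsoPush v fun U =>
    (ConcreteCategory.isIso_iff_bijective (v.app U)).1 inferInstance) n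
  exact ⟨((e1.symm.trans e4).trans e3.symm).trans e2⟩

end Subscheme

section Inter

variable {R : Type u} [CommRing R] [IsDomain R] [IsDiscreteValuationRing R]
  {X : Over (Spec (CommRingCat.of R))} (Γ : ArSurf.VertComp R X)

theorem isProper_curve [IsProper X.hom] : IsProper Γ.curve.hom := by
  haveI : IsProper (Γ.curve.hom ≫ Spec.map (CommRingCat.ofHom (residue R))) := by
    rw [← Γ.w]; infer_instance
  exact IsProper.of_comp _ (Spec.map (CommRingCat.ofHom (residue R)))

theorem toGlobal_ι_comp :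
    Coh.toGlobal (Γ.ι ≫ X.hom) = (Coh.toGlobal Γ.curve.hom).comp (residue R) := by
  rw [Γ.w]
  refine RingHom.ext fun r => ?_
  show Γ.curve.hom.appTop ((Spec.map (CommRingCat.ofHom (residue R))).appTop
      ((Scheme.ΓSpecIso (CommRingCat.of R)).inv r)) =
    Γ.curve.hom.appTop ((Scheme.ΓSpecIso (CommRingCat.of (ResidueField R))).inv (residue R r))
  exact congrArg (Γ.curve.hom.appTop)
    (ConcreteCategory.congr_hom (Scheme.ΓSpecIso_inv_naturality (CommRingCat.ofHom (residue R))) r).symm

theorem topologicalKrullDim_curve_le : topologicalKrullDim Γ.curve.left ≤ 1 := Γ.dim_eq.le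

theorem inter_congr [IsProper X.hom] {L M : X.left.Modules} (hL : PicF.IsInvertible L) (e : L ≅ M) :
    ArSurf.inter R X L Γ = ArSurf.inter R X M Γ := by
  haveI : IsProper (Γ.curve.left ↘ Spec (CommRingCat.of (ResidueField R))) := isProper_curve Γ
  exact curveDeg_congr _ (topologicalKrullDim_curve_le Γ) (PicClLib.isInvertible_pullback Γ.ι hL)
    ((Scheme.Modules.pullback Γ.ι).mapIso e)

theorem inter_tensor [IsProper X.hom] {L M : X.left.Modules} (hL : PicF.IsInvertible L)
    (hM : PicF.IsInvertible M) :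
    ArSurf.inter R X (CohB1.tensorMod L M) Γ = ArSurf.inter R X L Γ + ArSurf.inter R X M Γ := by
  haveI : IsProper (Γ.curve.left ↘ Spec (CommRingCat.of (ResidueField R))) := isProper_curve Γ
  unfold ArSurf.inter
  rw [curveDeg_congr _ (topologicalKrullDim_curve_le Γ)
      (PicClLib.isInvertible_pullback Γ.ι (H23.PicMul.isInvertible_tensor hL hM))
      (H23.PicMul.pull Γ.ι L M).some,
    curveDeg_tensor _ (topologicalKrullDim_curve_le Γ) (PicClLib.isInvertible_pullback Γ.ι hL)
      (PicClLib.isInvertible_pullback Γ.ι hM)]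

theorem inter_structureModule [IsProper X.hom] :
    ArSurf.inter R X (Coh.structureModule X.left) Γ = 0 := by
  haveI : IsProper (Γ.curve.left ↘ Spec (CommRingCat.of (ResidueField R))) := isProper_curve Γ
  unfold ArSurf.inter
  rw [curveDeg_congr _ (topologicalKrullDim_curve_le Γ)
      (PicClLib.isInvertible_pullback Γ.ι InvX.isInvertible_structureModule)
      (PicClLib.nonempty_pullback_structureModule Γ.ι).some, curveDeg_structureModule]

theorem inter_inverse [IsProper X.hom] {L I : X.left.Modules} (hI : PicF.IsInvertible I)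
    (h : ClSub.IsInverseOf L I) : ArSurf.inter R X L Γ = - ArSurf.inter R X I Γ := by
  haveI : IsProper (Γ.curve.left ↘ Spec (CommRingCat.of (ResidueField R))) := isProper_curve Γ
  exact curveDeg_inverse _ (topologicalKrullDim_curve_le Γ) (PicClLib.isInvertible_pullback Γ.ι hI)
    (isInverseOf_pullback Γ.ι h)

theorem inter_tensorPow [IsProper X.hom] {L : X.left.Modules} (hL : PicF.IsInvertible L) :
    ∀ n : ℕ, ArSurf.inter R X (CohB1.tensorPow L n) Γ = n * ArSurf.inter R X L Γ
  | 0 => by rw [show CohB1.tensorPow L 0 = Coh.structureModule X.left from rfl, inter_structureModule]; simp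
  | n + 1 => by
    rw [show CohB1.tensorPow L (n + 1) = CohB1.tensorMod (CohB1.tensorPow L n) L from rfl,
      inter_tensor Γ (H23.PicMul.isInvertible_tensorPow hL n) hL, inter_tensorPow hL n]
    push_cast
    ring

/-- `D · Γ` is the dimension of the sections of the scheme-theoretic intersection on `Γ`. -/
theorem inter_eq_finrank [IsProper X.hom] {D : X.left.IdealSheafData} (hD : BlowUp.IsEffCartierIdeal D)
    (hΓD : Models.genPtOf R X Γ ∉ (D.support : Set X.left)) {L : X.left.Modules}
    (hL : ClSub.IsInverseOf L (ClSub.idealMod D)) :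
    ArSurf.inter R X L Γ =
      Module.finrank (ResidueField R) (Coh.HH Γ.curve.left (ClSub.quotMod (D.comap Γ.ι)) 0) := by
  haveI : IsProper (Γ.curve.left ↘ Spec (CommRingCat.of (ResidueField R))) := isProper_curve Γ
  have hE := isEffCartier_comap_of_integral hD Γ.ι hΓD
  obtain ⟨e⟩ := nonempty_pullback_idealMod hD Γ.ι hE
  have hI := isInvertible_idealMod hD
  exact curveDeg_of_effCartier _ (topologicalKrullDim_curve_le Γ) hE
    (PicClLib.isInvertible_pullback Γ.ι (isInvertible_of_isInverseOf hI hL))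
    (isInverseOf_of_iso e (isInverseOf_pullback Γ.ι hL))

theorem finrank_quotMod_comap (D : X.left.IdealSheafData) :
    Module.finrank (ResidueField R) (Coh.HH Γ.curve.left (ClSub.quotMod (D.comap Γ.ι)) 0) =
      Models.lengthH R X (ClSub.quotMod (D ⊔ Γ.ι.ker)) 0 := by
  set M := Coh.HH Γ.curve.left (ClSub.quotMod (D.comap Γ.ι)) 0
  letI iR : Module R M := QCoh.modHH (Coh.toGlobal (Γ.ι ≫ X.hom)) _ 0
  letI : Algebra R (ResidueField R) := (residue R).toAlgebra
  haveI : IsScalarTower R (ResidueField R) M := .of_algebraMap_smul fun r m => by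
    show (Coh.toGlobal Γ.curve.hom (residue R r)) • m = Coh.toGlobal (Γ.ι ≫ X.hom) r • m
    rw [toGlobal_ι_comp]; rfl
  obtain ⟨e⟩ := nonempty_HH_quotMod_comap Γ.ι D X.hom 0
  unfold Models.lengthH
  refine Eq.trans ?_ (congrArg ENat.toNat e.length_eq)
  rw [Module.length_eq_of_surjective (R := ResidueField R) (S := R) residue_surjective,
    Module.length_eq_rank, Cardinal.toNat_toENat]
  rfl

theorem inter_eq [IsProper X.hom] {D : X.left.IdealSheafData} (hD : BlowUp.IsEffCartierIdeal D)
    (hΓD : Models.genPtOf R X Γ ∉ (D.support : Set X.left)) {L : X.left.Modules}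
    (hL : ClSub.IsInverseOf L (ClSub.idealMod D)) :
    ArSurf.inter R X L Γ = (Models.lengthH R X (ClSub.quotMod (D ⊔ Γ.ι.ker)) 0 : ℤ) := by
  rw [inter_eq_finrank Γ hD hΓD hL, finrank_quotMod_comap]

end Inter

end Groth.Agent.ArSurfX
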