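import Groth.Agent.ArSurfX.Contract
import Groth.Agent.ArSurfX.Inter
import Groth.Agent.ArSurfX.Arith

/-!
# Contractions are unique
-/

universe u

set_option linter.style.haveILetI false
set_option backward.isDefEq.respectTransparency false
set_option backward.isDefEq.respectTransparency.types false

open CategoryTheory CategoryTheory.Limits AlgebraicGeometry TopologicalSpace IsLocalRing

namespace Groth.Agent.ArSurfX

open Groth.Agent

variable {R : Type u} [CommRing R] [IsDomain R] [IsDiscreteValuationRing R]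
  {X Y Y' : Over (Spec (CommRingCat.of R))}

/-- The contraction data used to descend morphisms. -/
theorem exists_isIso_open [IsProper X.hom] [IsSeparated Y.hom] [IsIntegral Y.left]
    (hdim : topologicalKrullDim Y.left = 2) {r : ℕ} (Γ : Fin r → ArSurf.VertComp R X) (f : X ⟶ Y)
    (hpt : ∀ i, ∃ y : Y.left, Set.range ((Γ i).ι ≫ f.left).base = {y})
    (hiso : ∀ V : Y.left.Opens, (V : Set Y.left) ∩ f.left.base '' (⋃ i, Set.range (Γ i).ι.base) = ∅ →
      IsIso (f.left ∣_ V)) :
    ∃ U : Y.left.Opens, (U : Set Y.left) = (f.left.base '' ⋃ i, Set.range (Γ i).ι.base)ᶜ ∧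
      genericPoint Y.left ∈ U ∧ IsIso (f.left ∣_ U) := by
  haveI : IsProper (f.left ≫ Y.hom) := by rw [Over.w f]; infer_instance
  haveI : IsProper f.left := IsProper.of_comp f.left Y.hom
  choose y hy using hpt
  set T := f.left.base '' ⋃ i, Set.range (Γ i).ι.base
  have hT : T = ⋃ i, {y i} := by
    simp only [T, Set.image_iUnion]
    refine Set.iUnion_congr fun i => ?_
    rw [← hy i, ← Set.range_comp]
    rfl
  have hyc : ∀ i, IsClosed ({y i} : Set Y.left) := fun i => by
    rw [← hy i]
    exact ((Γ i).ι ≫ f.left).isClosedMap.isClosed_range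
  have hTc : IsClosed T := hT ▸ isClosed_iUnion_of_finite fun i => hyc i
  let U : Y.left.Opens := ⟨Tᶜ, hTc.isOpen_compl⟩
  refine ⟨U, rfl, ?_, hiso U (Set.compl_inter_self T)⟩
  intro hg
  rw [hT, Set.mem_iUnion] at hg
  obtain ⟨i, hi⟩ := hg
  have hgc : IsClosed ({genericPoint Y.left} : Set Y.left) := by
    rw [show genericPoint Y.left = y i from hi]; exact hyc i
  have huniv : (Set.univ : Set Y.left) = {genericPoint Y.left} := by
    rw [← hgc.closure_eq, (genericPoint_spec Y.left).def]
  haveI : Subsingleton Y.left := ⟨fun a b => by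
    have ha : a ∈ ({genericPoint Y.left} : Set Y.left) := huniv ▸ Set.mem_univ a
    have hb : b ∈ ({genericPoint Y.left} : Set Y.left) := huniv ▸ Set.mem_univ b
    exact ha.trans hb.symm⟩
  rw [topologicalKrullDim, Order.krullDim_eq_of_orderIso (irreducibleSetEquivPoints (α := Y.left))] at hdim
  have := Order.krullDim_nonpos_of_subsingleton (α := Y.left)
  rw [hdim] at this
  norm_num at this

theorem apply_genericPoint_of_isIso_restrict {A B : Scheme.{u}} [IsIntegral A] [IsIntegral B] (f : A ⟶ B)
    [UniversallyClosed f] {U : B.Opens} [IsIso (f ∣_ U)] (hU : genericPoint B ∈ U) :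
    f (genericPoint A) = genericPoint B := by
  have hmem : genericPoint B ∈ Set.range f.base := by
    refine ⟨(inv (f ∣_ U)).base ⟨genericPoint B, hU⟩ |>.1, ?_⟩
    refine (morphismRestrict_base_coe f U _).symm.trans ?_
    have e : (f ∣_ U).base ((inv (f ∣_ U)).base (show U.toScheme from ⟨genericPoint B, hU⟩)) =
        (show U.toScheme from ⟨genericPoint B, hU⟩) := by
      rw [← Scheme.Hom.comp_apply, IsIso.inv_hom_id]
      rfl
    exact congrArg Subtype.val e
  obtain ⟨a, ha⟩ := hmem
  exact (((genericPoint_spec B).specializes (Set.mem_univ _)).antisymm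
    (ha ▸ (genericPoint_specializes a).map f.continuous)).eq.symm

/-- Any two contractions of the same curves compare uniquely. -/
theorem exists_unique_of_contraction [IsIntegral X.left] [IsProper X.hom] [IsIntegral Y.left]
    (hnor : ∀ q : Y.left, IsIntegrallyClosed (Y.left.presheaf.stalk q))
    (hdim : topologicalKrullDim Y.left = 2) [IsSeparated Y.hom] [IsProper Y'.hom]
    {r : ℕ} (Γ : Fin r → ArSurf.VertComp R X) (f : X ⟶ Y) (f' : X ⟶ Y')
    (hpt : ∀ i, ∃ y : Y.left, Set.range ((Γ i).ι ≫ f.left).base = {y})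
    (hpre : f.left.base ⁻¹' (f.left.base '' ⋃ i, Set.range (Γ i).ι.base) = ⋃ i, Set.range (Γ i).ι.base)
    (hiso : ∀ V : Y.left.Opens, (V : Set Y.left) ∩ f.left.base '' (⋃ i, Set.range (Γ i).ι.base) = ∅ →
      IsIso (f.left ∣_ V))
    (hpt' : ∀ i, ∃ y : Y'.left, Set.range ((Γ i).ι ≫ f'.left).base = {y}) :
    ∃! g : Y ⟶ Y', f ≫ g = f' := by
  obtain ⟨U, hU, hgU, hIso⟩ := exists_isIso_open hdim Γ f hpt hiso
  haveI : IsProper (f.left ≫ Y.hom) := by rw [Over.w f]; infer_instance
  haveI : IsProper f.left := IsProper.of_comp f.left Y.hom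
  have hgen := apply_genericPoint_of_isIso_restrict f.left hgU
  have hbir : IsIso (f.left.stalkMap (genericPoint X.left)) :=
    isIso_stalkMap_of_isIso_restrict f.left (U := U) (by rw [hgen]; exact hgU)
  have e : f.left ≫ Y.hom = f'.left ≫ Y'.hom := by rw [Over.w f, Over.w f']
  obtain ⟨g, hg, hg'⟩ := exists_factor_of_birational hnor Y.hom Y'.hom f.left f'.left e hgen hbir fun y => by
    by_cases hy : y ∈ U
    · exact ((subsingleton_preimage_of_isIso_restrict f.left hy).image _).finite
    · have hyT : y ∈ f.left.base '' ⋃ i, Set.range (Γ i).ι.base := by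
        by_contra hne
        exact hy (show y ∈ (U : Set Y.left) by rw [hU]; exact hne)
      have hsub : f.left.base ⁻¹' {y} ⊆ ⋃ i, Set.range (Γ i).ι.base := by
        rw [← hpre]
        exact Set.preimage_mono (Set.singleton_subset_iff.2 hyT)
      refine Set.Finite.subset ?_ (Set.image_mono hsub)
      rw [Set.image_iUnion]
      refine Set.finite_iUnion fun i => ?_
      obtain ⟨y₁, hy₁⟩ := hpt i
      obtain ⟨y₂, hy₂⟩ := hpt' i
      haveI : IsProper (Γ i).curve.hom := isProper_curve (Γ i)
      have := subsingleton_range_lift (Γ i).curve.hom Y.hom Y'.hom ((Γ i).ι ≫ pullback.lift f.left f'.left e)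
        (y₁ := y₁) (y₂ := y₂)
        (by rw [Category.assoc, pullback.lift_fst, hy₁]) (by rw [Category.assoc, pullback.lift_snd, hy₂])
      rw [← Set.range_comp]
      exact this.finite
  refine ⟨Over.homMk g hg, Over.OverMorphism.ext hg', fun g' h' => Over.OverMorphism.ext ?_⟩
  haveI : IsDominant f.left := ⟨by
    rw [DenseRange]
    refine Dense.mono (Set.singleton_subset_iff.2 ⟨_, hgen⟩) ?_
    rw [dense_iff_closure_eq]
    exact (genericPoint_spec Y.left).def⟩
  show g'.left = g
  refine ext_of_isDominant_of_isSeparated Y'.hom ((Over.w g').trans hg.symm) f.left ?_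
  rw [hg', ← Over.comp_left, h']

end Groth.Agent.ArSurfX
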