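import Groth.Agent.ArSurfX.Comp
import Groth.Agent.ArSurfX.IdealFrame
import Groth.Agent.MeroX.BlowSpec

/-!
# The special fibre as a sum of its components with multiplicities
-/

universe u

set_option linter.style.haveILetI false
set_option backward.isDefEq.respectTransparency false
set_option backward.isDefEq.respectTransparency.types false

open CategoryTheory CategoryTheory.Limits AlgebraicGeometry IsLocalRing Order TopologicalSpace

namespace Groth.Agent.ArSurfX

open Groth.Agent Groth.Agent.AModX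

variable {R : Type u} [CommRing R] [IsDomain R] [IsDiscreteValuationRing R]
  {X : Over (Spec (CommRingCat.of R))}

/-- A function from the base is a unit at `x` exactly when it does not vanish at the image of `x`. -/
theorem isUnit_stalkHom_iff (x : X.left) (r : R) :
    IsUnit (Models.stalkHom R X x r) ↔ r ∉ (X.hom.base x).asIdeal := by
  show IsUnit (X.left.presheaf.germ ⊤ x trivial (Coh.toGlobal X.hom r)) ↔ _
  erw [← Scheme.mem_basicOpen]
  show x ∈ X.left.basicOpen (X.hom.app ⊤ ((Scheme.ΓSpecIso (CommRingCat.of R)).inv r)) ↔ _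
  rw [← Scheme.preimage_basicOpen, basicOpen_eq_of_affine']
  simp only [Iso.inv_hom_id_apply]
  exact Iff.rfl

theorem germ_res_toGlobal (U : X.left.Opens) {x : X.left} (hx : x ∈ U) (r : R) :
    X.left.presheaf.germ U x hx (resR (le_top : U ≤ ⊤) (Coh.toGlobal X.hom r)) = Models.stalkHom R X x r :=
  X.left.presheaf.germ_res_apply (homOfLE le_top) x hx _

theorem specialFibreIdeal_ideal {ϖ : R} (hϖ : Irreducible ϖ) (U : X.left.affineOpens) :
    (Models.specialFibreIdeal R X).ideal U =
      Ideal.span {resR (le_top : U.1 ≤ ⊤) (Coh.toGlobal X.hom ϖ)} := by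
  rw [Models.specialFibreIdeal, MeroX.ideal_comap_idealSheaf, hϖ.maximalIdeal_eq, Ideal.map_span,
    Set.image_singleton]
  rfl

theorem stk_mul (I J : X.left.IdealSheafData) (U : X.left.affineOpens) {x : X.left} (hx : x ∈ U.1) :
    CDivEq.stk (I * J) U hx = CDivEq.stk I U hx * CDivEq.stk J U hx := by
  unfold CDivEq.stk
  rw [Scheme.IdealSheafData.ideal_mul, Pi.mul_apply, Ideal.map_mul]

theorem stk_one (U : X.left.affineOpens) {x : X.left} (hx : x ∈ U.1) :
    CDivEq.stk (1 : X.left.IdealSheafData) U hx = 1 := by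
  unfold CDivEq.stk
  rw [show (1 : X.left.IdealSheafData).ideal U = ⊤ from rfl, Ideal.map_top, Ideal.one_eq_top]

theorem stk_prod_pow {n : ℕ} (D : Fin n → X.left.IdealSheafData) (e : Fin n → ℕ) (U : X.left.affineOpens)
    {x : X.left} (hx : x ∈ U.1) :
    CDivEq.stk (∏ i, D i ^ e i) U hx = ∏ i, CDivEq.stk (D i) U hx ^ e i := by
  let φ : X.left.IdealSheafData →* Ideal (X.left.presheaf.stalk x) :=
    { toFun := fun I => CDivEq.stk I U hx, map_one' := stk_one U hx, map_mul' := fun I J => stk_mul I J U hx }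
  show φ _ = ∏ i, φ (D i) ^ e i
  rw [map_prod]
  simp only [map_pow]

namespace IsSurf

variable (hX : IsSurf X)
include hX

theorem stalkHom_ne_zero (x : X.left) {r : R} (hr : r ≠ 0) : Models.stalkHom R X x r ≠ 0 := by
  letI := hX.isIntegral
  intro e
  have h1 : IsUnit (Models.stalkHom R X (genericPoint X.left) r) := by
    rw [isUnit_stalkHom_iff, hX.apply_genericPoint]
    exact fun h => hr (Ideal.mem_bot.1 h)
  have h2 : Models.stalkHom R X (genericPoint X.left) r =
      X.left.presheaf.stalkSpecializes (genericPoint_specializes x) (Models.stalkHom R X x r) :=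
    (TopCat.Presheaf.germ_stalkSpecializes_apply X.left.presheaf _ _ _).symm
  rw [h2, e, map_zero] at h1
  exact not_isUnit_zero h1

theorem isGen_specialFibreIdeal {ϖ : R} (hϖ : Irreducible ϖ) (U : X.left.affineOpens) :
    IsGen (Models.specialFibreIdeal R X) U (resR (le_top : U.1 ≤ ⊤) (Coh.toGlobal X.hom ϖ)) := by
  refine ⟨?_, specialFibreIdeal_ideal hϖ U⟩
  rw [← MeroX.regSub_eq_nonZeroDivisors U.2]
  intro x
  haveI := hX.isDomain_stalk x.1
  rw [germ_res_toGlobal U.1 x.2 ϖ]
  exact mem_nonZeroDivisors_of_ne_zero (hX.stalkHom_ne_zero x.1 hϖ.ne_zero)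

theorem isEffCartier_specialFibreIdeal : BlowUp.IsEffCartierIdeal (Models.specialFibreIdeal R X) := fun x => by
  obtain ⟨ϖ, hϖ⟩ := IsDiscreteValuationRing.exists_irreducible R
  obtain ⟨_, ⟨U, hU, rfl⟩, hxU, -⟩ :=
    X.left.isBasis_affineOpens.exists_subset_of_mem_open (Set.mem_univ x) isOpen_univ
  exact ⟨⟨U, hU⟩, hxU, _, (hX.isGen_specialFibreIdeal hϖ ⟨U, hU⟩).1, (hX.isGen_specialFibreIdeal hϖ ⟨U, hU⟩).2⟩

/-- Cartier divisors are compared in codimension one. -/
theorem le_of_stk_codim_one {I J : X.left.IdealSheafData} (hI : BlowUp.IsEffCartierIdeal I)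
    (hJ : BlowUp.IsEffCartierIdeal J)
    (h : ∀ (z : X.left) (U : X.left.affineOpens) (hz : z ∈ U.1),
      coheight z ≤ 1 → CDivEq.stk I U hz ≤ CDivEq.stk J U hz) : I ≤ J := by
  refine fun U => CDivEq.le_of_stk I J U fun x hx => ?_
  obtain ⟨W, hxW, a₀, b₀, ha₀, hb₀⟩ := exists_isGen₂ hI hJ x
  rw [CDivEq.stk_congr I U W hx hxW, CDivEq.stk_congr J U W hx hxW]
  obtain ⟨hdom, hufd⟩ := hX.ufd_stalk x
  letI := UniqueFactorizationMonoid.toGCDMonoid (X.left.presheaf.stalk x)
  set a := X.left.presheaf.germ W.1 x hxW a₀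
  set b := X.left.presheaf.germ W.1 x hxW b₀
  have hb : b ≠ 0 := nonZeroDivisors.ne_zero (hb₀.germ_nzd hxW)
  show (I.ideal W).map _ ≤ (J.ideal W).map _
  rw [ha₀.2, hb₀.2, Ideal.map_span, Ideal.map_span, Set.image_singleton, Set.image_singleton,
    Ideal.span_singleton_le_span_singleton]
  show b ∣ a
  obtain ⟨a', b', c, hrp, hea, heb⟩ : ∃ a' b' c, IsRelPrime a' b' ∧ c * a' = a ∧ c * b' = b :=
    UniqueFactorizationMonoid.exists_reduced_factors' a b hb
  rw [← heb] at hb
  by_cases hb' : IsUnit b'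
  · rw [← hea, ← heb]
    exact mul_dvd_mul_left c hb'.dvd
  exfalso
  obtain ⟨p, hp, hpb⟩ := WfDvdMonoid.exists_irreducible_factor hb' (right_ne_zero_of_mul hb)
  have hp' : Prime p := UniqueFactorizationMonoid.irreducible_iff_prime.1 hp
  haveI : IsNoetherianRing (X.left.presheaf.stalk x) := by haveI := hX.regular x; infer_instance
  haveI hQ : (Ideal.span {p}).IsPrime := (Ideal.span_singleton_prime hp.ne_zero).2 hp'
  obtain ⟨y, hyx, hyQ⟩ := H23.StalkPrimes.exists_point (Ideal.span {p})
  have hy1 : coheight y ≤ 1 := by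
    rw [← CDiv6.height_primeOf hyx, hyQ]
    exact Ideal.height_le_one_of_isPrincipal_of_mem_minimalPrimes (Ideal.span {p}) _
      (by rw [Ideal.minimalPrimes_eq_subsingleton_self]; rfl)
  have hyW : y ∈ W.1 := hyx.mem_open W.1.isOpen hxW
  have hle := h y W hyW hy1
  set s := (X.left.presheaf.stalkSpecializes hyx).hom
  have hs : ∀ c₀ : Γ(X.left, W.1), X.left.presheaf.germ W.1 y hyW c₀ = s (X.left.presheaf.germ W.1 x hxW c₀) :=
    fun c₀ => (TopCat.Presheaf.germ_stalkSpecializes_apply X.left.presheaf _ _ _).symm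
  change (I.ideal W).map _ ≤ (J.ideal W).map _ at hle
  rw [ha₀.2, hb₀.2, Ideal.map_span, Ideal.map_span, Set.image_singleton, Set.image_singleton,
    Ideal.span_singleton_le_span_singleton] at hle
  obtain ⟨d, hd⟩ := hle
  have hsc : s c ≠ 0 := by
    intro e
    have := nonZeroDivisors.ne_zero (hb₀.germ_nzd hyW) (M₀ := X.left.presheaf.stalk y)
    rw [hs, show X.left.presheaf.germ W.1 x hxW b₀ = c * b' from heb.symm, map_mul, e, zero_mul] at this
    exact this rfl
  haveI := hX.isDomain_stalk y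
  change X.left.presheaf.germ W.1 y hyW a₀ = X.left.presheaf.germ W.1 y hyW b₀ * d at hd
  rw [hs, hs, show X.left.presheaf.germ W.1 x hxW a₀ = c * a' from hea.symm,
    show X.left.presheaf.germ W.1 x hxW b₀ = c * b' from heb.symm, map_mul, map_mul, mul_assoc] at hd
  have hd' := mul_left_cancel₀ hsc hd
  have hb'Q : ¬ IsUnit (s b') :=
    (CDiv6.mem_primeOf hyx b').1 (hyQ ▸ Ideal.mem_span_singleton.2 hpb)
  have ha'Q : a' ∈ (CDiv6.primeOf hyx).asIdeal := (CDiv6.mem_primeOf hyx a').2 fun hu => hb'Q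
    (isUnit_of_mul_isUnit_left (show IsUnit (s b' * d) from hd' ▸ hu))
  rw [hyQ, Ideal.mem_span_singleton] at ha'Q
  exact hp.not_isUnit (hrp ha'Q hpb)

theorem eq_of_stk_codim_one {I J : X.left.IdealSheafData} (hI : BlowUp.IsEffCartierIdeal I)
    (hJ : BlowUp.IsEffCartierIdeal J)
    (h : ∀ (z : X.left) (U : X.left.affineOpens) (hz : z ∈ U.1),
      coheight z ≤ 1 → CDivEq.stk I U hz = CDivEq.stk J U hz) : I = J :=
  le_antisymm (hX.le_of_stk_codim_one hI hJ fun z U hz h1 => (h z U hz h1).le)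
    (hX.le_of_stk_codim_one hJ hI fun z U hz h1 => (h z U hz h1).ge)

theorem stk_ker_genPtOf (Γ : ArSurf.VertComp R X) (U : X.left.affineOpens)
    (hξ : Models.genPtOf R X Γ ∈ U.1) :
    CDivEq.stk Γ.ι.ker U hξ = maximalIdeal (X.left.presheaf.stalk (Models.genPtOf R X Γ)) := by
  set ξ := Models.genPtOf R X Γ
  set q := U.2.primeIdealOf ⟨ξ, hξ⟩
  have hI : Γ.ι.ker.ideal U = q.asIdeal := by
    rw [ker_eq_vanishingIdeal, Scheme.IdealSheafData.vanishingIdeal_ideal]
    have hpre : U.2.fromSpec ⁻¹' Set.range Γ.ι.base = closure {q} := by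
      rw [← closure_genPtOf, U.2.fromSpec.isOpenEmbedding.isOpenMap.preimage_closure_eq_closure_preimage
        U.2.fromSpec.continuous]
      congr 1
      ext p
      constructor
      · intro hp
        exact U.2.fromSpec.isOpenEmbedding.injective (hp.trans (U.2.fromSpec_primeIdealOf ⟨ξ, hξ⟩).symm)
      · rintro rfl
        exact U.2.fromSpec_primeIdealOf _
    change PrimeSpectrum.vanishingIdeal (U.2.fromSpec ⁻¹' Set.range Γ.ι.base) = _
    rw [hpre, PrimeSpectrum.vanishingIdeal_closure, PrimeSpectrum.vanishingIdeal_singleton]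
  letI := X.left.presheaf.algebra_section_stalk (U := U.1) ⟨ξ, hξ⟩
  haveI := U.2.isLocalization_stalk ⟨ξ, hξ⟩
  show (Γ.ι.ker.ideal U).map _ = _
  rw [hI]
  exact IsLocalization.AtPrime.map_eq_maximalIdeal q.asIdeal (X.left.presheaf.stalk ξ)

theorem isDVR_genPtOf (Γ : ArSurf.VertComp R X) :
    ∃ _ : IsDomain (X.left.presheaf.stalk (Models.genPtOf R X Γ)),
      IsDiscreteValuationRing (X.left.presheaf.stalk (Models.genPtOf R X Γ)) := by
  haveI := hX.regular (Models.genPtOf R X Γ)
  haveI := hX.isDomain_stalk (Models.genPtOf R X Γ)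
  haveI := DimFormula.isPrincipalIdealRing_of_regular_dim_le_one (R := X.left.presheaf.stalk (Models.genPtOf R X Γ))
    (hX.dim_stalk_genPtOf Γ).le
  refine ⟨inferInstance, { not_a_field' := fun h => ?_ }⟩
  have h2 := hX.dim_stalk_genPtOf Γ
  rw [ringKrullDim_eq_zero_of_isField (IsLocalRing.isField_iff_maximalIdeal_eq.2 h)] at h2
  exact zero_ne_one h2

theorem map_maximalIdeal_eq_pow_mult (Γ : ArSurf.VertComp R X) :
    Ideal.map (Models.stalkHom R X (Models.genPtOf R X Γ)) (maximalIdeal R) =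
      maximalIdeal (X.left.presheaf.stalk (Models.genPtOf R X Γ)) ^ Models.mult R X Γ := by
  obtain ⟨ϖ, hϖ⟩ := IsDiscreteValuationRing.exists_irreducible R
  set A := X.left.presheaf.stalk (Models.genPtOf R X Γ)
  obtain ⟨_, _⟩ := hX.isDVR_genPtOf Γ
  obtain ⟨π, hπ⟩ := IsDiscreteValuationRing.exists_irreducible A
  have ht : Models.stalkHom R X (Models.genPtOf R X Γ) ϖ ≠ 0 := hX.stalkHom_ne_zero _ hϖ.ne_zero
  obtain ⟨n, hn⟩ := IsDiscreteValuationRing.associated_pow_irreducible ht hπ
  have hI : Ideal.map (Models.stalkHom R X (Models.genPtOf R X Γ)) (maximalIdeal R) = maximalIdeal A ^ n := by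
    rw [hϖ.maximalIdeal_eq, Ideal.map_span, Set.image_singleton, hπ.maximalIdeal_eq,
      Ideal.span_singleton_pow, Ideal.span_singleton_eq_span_singleton]
    exact hn
  suffices Models.mult R X Γ = n by rw [this]; exact hI
  unfold Models.mult
  rw [hI, IsDiscreteValuationRing.length_quotient_pow_maximalIdeal]
  rfl

theorem mult_pos (Γ : ArSurf.VertComp R X) : 0 < Models.mult R X Γ := by
  by_contra h
  have h0 := hX.map_maximalIdeal_eq_pow_mult Γ
  rw [Nat.le_zero.1 (not_lt.1 h), pow_zero, Ideal.one_eq_top] at h0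
  have hle : Ideal.map (Models.stalkHom R X (Models.genPtOf R X Γ)) (maximalIdeal R) ≤
      maximalIdeal (X.left.presheaf.stalk (Models.genPtOf R X Γ)) := by
    rw [Ideal.map_le_iff_le_comap]
    intro r hr
    rw [Ideal.mem_comap, IsLocalRing.mem_maximalIdeal]
    exact fun hu => (isUnit_stalkHom_iff _ _).1 hu (by rw [show Models.genPtOf R X Γ = Γ.ι.base (genericPoint Γ.curve.left) from rfl, comp_apply_eq_closedPoint]; exact hr)
  rw [h0] at hle
  exact (maximalIdeal.isMaximal _).ne_top (top_le_iff.1 hle)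

/-- The special fibre is the sum of its components with their multiplicities. -/
theorem specialFibreIdeal_eq_prod {n : ℕ} {Γ : Fin n → ArSurf.VertComp R X}
    (hΓ : Models.IsComponentList R X Γ) :
    Models.specialFibreIdeal R X = ∏ i, (Γ i).ι.ker ^ Models.mult R X (Γ i) := by
  classical
  obtain ⟨ϖ, hϖ⟩ := IsDiscreteValuationRing.exists_irreducible R
  refine hX.eq_of_stk_codim_one hX.isEffCartier_specialFibreIdeal
    (isEffCartier_prod _ _ fun i _ => isEffCartier_pow (hX.isEffCartier_ker (Γ i)) _) fun z U hz hz1 => ?_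
  rw [stk_prod_pow]
  have hL : CDivEq.stk (Models.specialFibreIdeal R X) U hz =
      Ideal.map (Models.stalkHom R X z) (maximalIdeal R) := by
    rw [CDivEq.stk, specialFibreIdeal_ideal hϖ U, Ideal.map_span, Set.image_singleton, hϖ.maximalIdeal_eq,
      Ideal.map_span, Set.image_singleton]
    exact congrArg (fun a => Ideal.span {a}) (germ_res_toGlobal U.1 hz ϖ)
  have htop : ∀ i, z ∉ Set.range (Γ i).ι.base → CDivEq.stk (Γ i).ι.ker U hz = ⊤ := fun i hi => by
    by_contra hne
    refine hi ?_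
    rw [← support_ker]
    exact (CDivEq.mem_support_iff _ U hz).2 hne
  by_cases hs : X.hom.base z = closedPoint R
  · obtain ⟨i, hi⟩ := hX.exists_mem_range hΓ hs
    have hzi : z = Models.genPtOf R X (Γ i) := by
      have h1 : Models.genPtOf R X (Γ i) ⤳ z := by
        rw [specializes_iff_mem_closure, closure_genPtOf]; exact hi
      by_contra hne
      have hlt : z < Models.genPtOf R X (Γ i) := lt_iff_le_not_ge.2 ⟨h1, fun h => hne (h.antisymm h1).symm⟩
      have h2 := (Order.coheight_add_one_le hlt).trans hz1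
      rw [(hX.coheight_genPtOf (Γ i)).1] at h2
      norm_num at h2
    subst hzi
    rw [Finset.prod_eq_single_of_mem i (Finset.mem_univ i) fun j _ hj => ?_]
    · rw [hL, hX.stk_ker_genPtOf, hX.map_maximalIdeal_eq_pow_mult]
    · have hji : Models.genPtOf R X (Γ i) ∉ Set.range (Γ j).ι.base := fun hmem => by
        have h1 : Models.genPtOf R X (Γ j) ⤳ Models.genPtOf R X (Γ i) := by
          rw [specializes_iff_mem_closure, closure_genPtOf]; exact hmem
        have := hX.eq_of_specializes_genPtOf (Γ i) (comp_apply_eq_closedPoint (Γ j) _) h1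
        refine hj (hΓ.1 ?_)
        show Set.range (Γ j).ι.base = Set.range (Γ i).ι.base
        rw [← closure_genPtOf (Γ j), ← closure_genPtOf (Γ i), show Models.genPtOf R X (Γ j) = Models.genPtOf R X (Γ i) from this]
      rw [htop j hji, ← Ideal.one_eq_top, one_pow]
  · rw [hL, Finset.prod_eq_one fun i _ => by
      rw [htop i fun h => hs (range_subset_specialFibreSet (Γ i) h), ← Ideal.one_eq_top, one_pow]]
    rw [Ideal.one_eq_top, hϖ.maximalIdeal_eq, Ideal.map_span, Set.image_singleton, Ideal.span_singleton_eq_top,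
      isUnit_stalkHom_iff]
    intro hmem
    refine hs (PrimeSpectrum.ext (IsLocalRing.eq_maximalIdeal ((X.hom.base z).2.isMaximal fun e => ?_)))
    rw [e] at hmem
    exact hϖ.ne_zero (Ideal.mem_bot.1 hmem)

theorem nonempty_idealMod_specialFibre :
    Nonempty (Coh.structureModule X.left ≅ ClSub.idealMod (Models.specialFibreIdeal R X)) := by
  obtain ⟨ϖ, hϖ⟩ := IsDiscreteValuationRing.exists_irreducible R
  refine nonempty_idealMod_principal (Coh.toGlobal X.hom ϖ) fun x => ?_
  obtain ⟨_, ⟨U, hU, rfl⟩, hxU, -⟩ :=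
    X.left.isBasis_affineOpens.exists_subset_of_mem_open (Set.mem_univ x) isOpen_univ
  exact ⟨⟨U, hU⟩, hxU, hX.isGen_specialFibreIdeal hϖ ⟨U, hU⟩⟩

end IsSurf

end Groth.Agent.ArSurfX
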