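import Groth.Agent.ArSurfX.InterSum
import Groth.Agent.ArSurfX.Fibre
import Groth.Agent.QCoh.Devissage

/-!
# The divisor of a function on an open part of a regular surface, closed up

A function on an open part `W` of a regular surface generates, on `W`, a product of powers of prime
divisors of the surface; a vertical divisor inside `W` meets it with intersection number zero.
-/

universe u

set_option linter.style.haveILetI false
set_option backward.isDefEq.respectTransparency false
set_option backward.isDefEq.respectTransparency.types false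

open CategoryTheory CategoryTheory.Limits AlgebraicGeometry IsLocalRing TopologicalSpace Order

namespace Groth.Agent.ArSurfX

open Groth.Agent Groth.Agent.AModX Groth.Agent.InvX

/-- The ideal sheaf of the closure of a point, with reduced structure. -/
noncomputable abbrev primeDiv {X : Scheme.{u}} (p : X) : X.IdealSheafData :=
  Scheme.IdealSheafData.vanishingIdeal (Closeds.closure {p})

theorem support_primeDiv {X : Scheme.{u}} (p : X) :
    ((primeDiv p).support : Set X) = closure {p} := by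
  rw [← (primeDiv p).range_subschemeι]
  exact Groth.Agent.H23.RedSub.range_vanishingIdeal _

theorem primeDiv_ideal {X : Scheme.{u}} (p : X) (U : X.affineOpens) (hp : p ∈ U.1) :
    (primeDiv p).ideal U = (U.2.primeIdealOf ⟨p, hp⟩).asIdeal := by
  ext a
  rw [QCoh.mem_vanishing_closure_iff, QCoh.mem_basicOpen_iff_notMem U.2 hp a, not_not]

theorem stk_primeDiv_self {X : Scheme.{u}} (p : X) (U : X.affineOpens) (hp : p ∈ U.1) :
    CDivEq.stk (primeDiv p) U hp = maximalIdeal (X.presheaf.stalk p) := by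
  letI := X.presheaf.algebra_section_stalk (U := U.1) ⟨p, hp⟩
  haveI := U.2.isLocalization_stalk ⟨p, hp⟩
  show ((primeDiv p).ideal U).map _ = _
  rw [primeDiv_ideal p U hp]
  exact IsLocalization.AtPrime.map_eq_maximalIdeal _ (X.presheaf.stalk p)

theorem stk_primeDiv_of_notMem {X : Scheme.{u}} (p : X) (U : X.affineOpens) {z : X} (hz : z ∈ U.1)
    (h : ¬ p ⤳ z) : CDivEq.stk (primeDiv p) U hz = ⊤ := by
  by_contra hne
  refine h (specializes_iff_mem_closure.2 ?_)
  rw [← support_primeDiv]
  exact (CDivEq.mem_support_iff _ U hz).2 hne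

/-- Two ideals of an affine open with the same stalks are equal. -/
theorem le_of_map_germ {X : Scheme.{u}} (U : X.affineOpens) (I J : Ideal Γ(X, U.1))
    (h : ∀ x (hx : x ∈ U.1), I.map (X.presheaf.germ U.1 x hx).hom ≤ J.map (X.presheaf.germ U.1 x hx).hom) :
    I ≤ J := by
  intro f hf
  by_contra hfJ
  have htop : J.colon {f} ≠ ⊤ := fun ht => hfJ (by
    simpa using Submodule.mem_colon_singleton.1 (show (1 : Γ(X, U.1)) ∈ J.colon {f} by rw [ht]; trivial))
  obtain ⟨m, hm, hle⟩ := Ideal.exists_le_maximal _ htop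
  let x : X := U.2.fromSpec ⟨m, hm.isPrime⟩
  have hx : x ∈ U.1 := by
    rw [← SetLike.mem_coe, ← U.2.range_fromSpec]
    exact Set.mem_range_self _
  haveI := U.2.isOpenImmersion_fromSpec
  have hprime : U.2.primeIdealOf ⟨x, hx⟩ = ⟨m, hm.isPrime⟩ :=
    U.2.fromSpec.isOpenEmbedding.injective (U.2.fromSpec_primeIdealOf _)
  letI := X.presheaf.algebra_section_stalk (U := U.1) ⟨x, hx⟩
  haveI := U.2.isLocalization_stalk ⟨x, hx⟩
  have h1 : algebraMap Γ(X, U.1) (X.presheaf.stalk x) f ∈ J.map (algebraMap Γ(X, U.1) (X.presheaf.stalk x)) :=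
    h x hx (Ideal.mem_map_of_mem _ hf)
  rw [IsLocalization.algebraMap_mem_map_algebraMap_iff (U.2.primeIdealOf ⟨x, hx⟩).asIdeal.primeCompl] at h1
  obtain ⟨s, hs, hsf⟩ := h1
  exact hs (by rw [hprime]; exact hle (Submodule.mem_colon_singleton.2 hsf))

namespace IsSurf

variable {R : Type u} [CommRing R] [IsDomain R] [IsDiscreteValuationRing R]
  {X : Over (Spec (CommRingCat.of R))} (hX : IsSurf X)
include hX

theorem isDVR_of_coheight_one {p : X.left} (hp : coheight p = 1) :
    ∃ _ : IsDomain (X.left.presheaf.stalk p), IsDiscreteValuationRing (X.left.presheaf.stalk p) := by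
  haveI := hX.regular p
  haveI := hX.isDomain_stalk p
  have h1 : ringKrullDim (X.left.presheaf.stalk p) = 1 := by
    rw [ringKrullDim_stalk_eq_coheight, hp]; rfl
  haveI := DimFormula.isPrincipalIdealRing_of_regular_dim_le_one (R := X.left.presheaf.stalk p) h1.le
  refine ⟨inferInstance, { not_a_field' := fun h => ?_ }⟩
  rw [ringKrullDim_eq_zero_of_isField (IsLocalRing.isField_iff_maximalIdeal_eq.2 h)] at h1
  exact zero_ne_one h1

theorem isEffCartier_primeDiv {p : X.left} (hp : coheight p = 1) :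
    BlowUp.IsEffCartierIdeal (primeDiv p) := by
  haveI := hX.isLocallyNoetherian
  haveI := QCoh.isIntegral_closure_point p
  refine DivX.isEffCartier_of_codim_one _ ?_ fun x _ => hX.ufd_stalk x
  have hg : (primeDiv p).subschemeι (genericPoint (primeDiv p).subscheme) = p := by
    have h1 := ((genericPoint_spec (primeDiv p).subscheme).image (primeDiv p).subschemeι.continuous)
    rw [Set.image_univ, (primeDiv p).range_subschemeι, support_primeDiv, closure_closure] at h1
    exact h1.eq (isGenericPoint_closure)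
  rw [hg, ringKrullDim_stalk_eq_coheight, hp]
  rfl

/-- Divisibility at a point of the stalks of two sections follows from divisibility in codimension one. -/
theorem dvd_germ_of_codim_one {W : X.left.Opens} (a₀ b₀ : Γ(X.left, W))
    (hb₀ : ∀ y (hy : y ∈ W), X.left.presheaf.germ W y hy b₀ ≠ 0)
    (h : ∀ y (hy : y ∈ W), coheight y ≤ 1 →
      X.left.presheaf.germ W y hy b₀ ∣ X.left.presheaf.germ W y hy a₀)
    {x : X.left} (hxW : x ∈ W) :
    X.left.presheaf.germ W x hxW b₀ ∣ X.left.presheaf.germ W x hxW a₀ := by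
  obtain ⟨hdom, hufd⟩ := hX.ufd_stalk x
  letI := UniqueFactorizationMonoid.toGCDMonoid (X.left.presheaf.stalk x)
  set a := X.left.presheaf.germ W x hxW a₀
  set b := X.left.presheaf.germ W x hxW b₀
  have hb : b ≠ 0 := hb₀ x hxW
  obtain ⟨a', b', c, hrp, hea, heb⟩ : ∃ a' b' c, IsRelPrime a' b' ∧ c * a' = a ∧ c * b' = b :=
    UniqueFactorizationMonoid.exists_reduced_factors' a b hb
  rw [← heb] at hb
  by_cases hb' : IsUnit b'
  · rw [← hea, ← heb]
    exact mul_dvd_mul_left c hb'.dvd
  exfalso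
  obtain ⟨p, hp, hpb⟩ := WfDvdMonoid.exists_irreducible_factor hb' (right_ne_zero_of_mul hb)
  have hp' : Prime p := UniqueFactorizationMonoid.irreducible_iff_prime.1 hp
  haveI : IsNoetherianRing (X.left.presheaf.stalk x) := by haveI := hX.regular x; infer_instance
  haveI hQ : (Ideal.span {p}).IsPrime := (Ideal.span_singleton_prime hp.ne_zero).2 hp'
  obtain ⟨y, hyx, hyQ⟩ := H23.StalkPrimes.exists_point (Ideal.span {p})
  have hy1 : coheight y ≤ 1 := by
    rw [← CDiv6.height_primeOf hyx, hyQ]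
    exact Ideal.height_le_one_of_isPrincipal_of_mem_minimalPrimes (Ideal.span {p}) _
      (by rw [Ideal.minimalPrimes_eq_subsingleton_self]; rfl)
  have hyW : y ∈ W := hyx.mem_open W.isOpen hxW
  obtain ⟨d, hd⟩ := h y hyW hy1
  set s := (X.left.presheaf.stalkSpecializes hyx).hom
  have hs : ∀ c₀ : Γ(X.left, W), X.left.presheaf.germ W y hyW c₀ = s (X.left.presheaf.germ W x hxW c₀) :=
    fun c₀ => (TopCat.Presheaf.germ_stalkSpecializes_apply X.left.presheaf _ _ _).symm
  have hby := hb₀ y hyW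
  rw [hs, show X.left.presheaf.germ W x hxW b₀ = c * b' from heb.symm, map_mul] at hby
  have hsc : s c ≠ 0 := left_ne_zero_of_mul hby
  haveI := hX.isDomain_stalk y
  rw [hs, hs, show X.left.presheaf.germ W x hxW a₀ = c * a' from hea.symm,
    show X.left.presheaf.germ W x hxW b₀ = c * b' from heb.symm, map_mul, map_mul, mul_assoc] at hd
  have hd' := mul_left_cancel₀ hsc hd
  have hb'Q : ¬ IsUnit (s b') :=
    (CDiv6.mem_primeOf hyx b').1 (hyQ ▸ Ideal.mem_span_singleton.2 hpb)
  have ha'Q : a' ∈ (CDiv6.primeOf hyx).asIdeal := (CDiv6.mem_primeOf hyx a').2 fun hu => hb'Q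
    (isUnit_of_mul_isUnit_left (show IsUnit (s b' * d) from hd' ▸ hu))
  rw [hyQ, Ideal.mem_span_singleton] at ha'Q
  exact hp.not_isUnit (hrp ha'Q hpb)

/-- The codimension-one zeros of a nowhere vanishing germ family are finite. -/
theorem finite_zeros {W : X.left.Opens} (g : Γ(X.left, W))
    (hg : ∀ x (hx : x ∈ W), X.left.presheaf.germ W x hx g ≠ 0) :
    {p : X.left | coheight p = 1 ∧ ∃ hp : p ∈ W, ¬ IsUnit (X.left.presheaf.germ W p hp g)}.Finite := by
  classical
  letI := hX.isIntegral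
  haveI := hX.isNoetherian
  set C : Set X.left := closure ((W : Set X.left) \ (X.left.basicOpen g : Set X.left))
  obtain ⟨S, hSf, hSc, hSi, hSU⟩ :=
    NoetherianSpace.exists_finite_set_isClosed_irreducible (s := C) isClosed_closure
  refine Set.Finite.subset (s := (fun Z : Set X.left =>
    if h : IsIrreducible Z then h.genericPoint else genericPoint X.left) '' S) (hSf.image _) ?_
  rintro p ⟨hp1, hpW, hpu⟩
  have hpC : p ∈ C := subset_closure ⟨hpW, fun h => hpu ((Scheme.mem_basicOpen X.left g p hpW).1 h)⟩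
  rw [hSU, Set.mem_sUnion] at hpC
  obtain ⟨Z, hZ, hpZ⟩ := hpC
  refine ⟨Z, hZ, ?_⟩
  simp only [dif_pos (hSi Z hZ)]
  have hgz := (hSi Z hZ).isGenericPoint_genericPoint (hSc Z hZ)
  set w := (hSi Z hZ).genericPoint
  have hwp : w ⤳ p := hgz.specializes hpZ
  have hwW : w ∈ W := hwp.mem_open W.isOpen hpW
  have hwC : w ∈ C := by rw [hSU]; exact Set.mem_sUnion.2 ⟨Z, hZ, hgz.mem⟩
  have hv1 : w ∉ X.left.basicOpen g := fun hwb => by
    obtain ⟨v, hv, hvW, hv'⟩ := mem_closure_iff.1 hwC _ (X.left.basicOpen g).isOpen hwb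
    exact hv' hv
  clear_value w
  obtain ⟨v, rfl⟩ : ∃ v, v = w := ⟨w, rfl⟩
  have hvW := hwW
  rw [Scheme.mem_basicOpen X.left g v hvW] at hv1
  by_contra hne
  have hlt : p < v := lt_iff_le_not_ge.2 ⟨hwp, fun h => hne ((hwp.antisymm h).eq)⟩
  have h1 := coheight_add_one_le hlt
  rw [hp1] at h1
  have h0 : coheight v = 0 := by
    rcases eq_or_ne (coheight v) 0 with h | h
    · exact h
    · have := (add_le_add (Order.one_le_iff_pos.2 (pos_iff_ne_zero.2 h)) le_rfl).trans h1
      norm_num at this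
  have hvgen : v = genericPoint X.left := by
    by_contra hne'
    have : v < genericPoint X.left :=
      lt_iff_le_not_ge.2 ⟨genericPoint_specializes v, fun h => hne' ((genericPoint_specializes v).antisymm h).eq.symm⟩
    exact not_isMax_iff.2 ⟨_, this⟩ (coheight_eq_zero.1 h0)
  subst hvgen
  refine hv1 (isUnit_iff_ne_zero.2 ?_)
  exact hg _ hvW

theorem germ_isUnit_of_coheight_zero {W : X.left.Opens} (g : Γ(X.left, W))
    (hg : ∀ x (hx : x ∈ W), X.left.presheaf.germ W x hx g ≠ 0) {z : X.left} (hz : z ∈ W)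
    (h0 : coheight z = 0) : IsUnit (X.left.presheaf.germ W z hz g) := by
  letI := hX.isIntegral
  have hvgen : z = genericPoint X.left := by
    by_contra hne'
    have : z < genericPoint X.left :=
      lt_iff_le_not_ge.2 ⟨genericPoint_specializes z, fun h => hne' ((genericPoint_specializes z).antisymm h).eq.symm⟩
    exact not_isMax_iff.2 ⟨_, this⟩ (coheight_eq_zero.1 h0)
  subst hvgen
  exact isUnit_iff_ne_zero.2 (hg _ hz)

/-- A function on an open `W` generates there a product of powers of prime divisors of `X`. -/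
theorem exists_divisor_of_section {W : X.left.Opens} (g : Γ(X.left, W))
    (hg : ∀ x (hx : x ∈ W), X.left.presheaf.germ W x hx g ≠ 0) :
    ∃ (P : Finset X.left) (m : X.left → ℕ),
      (∀ p : X.left, p ∈ P ↔ coheight p = 1 ∧ ∃ hp : p ∈ W, ¬ IsUnit (X.left.presheaf.germ W p hp g)) ∧
      (∀ p ∈ P, 0 < m p) ∧
      ∀ (U : X.left.affineOpens) (hU : U.1 ≤ W),
        IsGen (∏ p ∈ P, primeDiv p ^ m p) U (resR hU g) := by
  classical
  letI := hX.isIntegral
  haveI := fun x => hX.isDomain_stalk x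
  let P := (hX.finite_zeros g hg).toFinset
  have hP : ∀ p : X.left, p ∈ P ↔ coheight p = 1 ∧ ∃ hp : p ∈ W, ¬ IsUnit (X.left.presheaf.germ W p hp g) :=
    fun p => Set.Finite.mem_toFinset _
  have hm : ∀ p : X.left, ∃ n : ℕ, p ∈ P → 0 < n ∧ ∀ hp : p ∈ W,
      Ideal.span {X.left.presheaf.germ W p hp g} = maximalIdeal (X.left.presheaf.stalk p) ^ n := by
    intro p
    by_cases hp : p ∈ P
    · obtain ⟨h1, hpW, hpu⟩ := (hP p).1 hp
      obtain ⟨_, _⟩ := hX.isDVR_of_coheight_one h1
      obtain ⟨π, hπ⟩ := IsDiscreteValuationRing.exists_irreducible (X.left.presheaf.stalk p)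
      obtain ⟨n, hn⟩ := IsDiscreteValuationRing.associated_pow_irreducible (hg p hpW) hπ
      refine ⟨n, fun _ => ⟨Nat.pos_of_ne_zero fun e => hpu ?_, fun hp' => ?_⟩⟩
      · subst e
        rw [pow_zero] at hn
        exact hn.symm.isUnit isUnit_one
      · rw [hπ.maximalIdeal_eq, Ideal.span_singleton_pow]
        exact Ideal.span_singleton_eq_span_singleton.2 hn
    · exact ⟨0, fun h => absurd h hp⟩
  choose m hm using hm
  refine ⟨P, m, hP, fun p hp => (hm p hp).1, fun U hU => ?_⟩
  set D := ∏ p ∈ P, primeDiv p ^ m p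
  have hD : BlowUp.IsEffCartierIdeal D :=
    isEffCartier_prod P _ fun p hp => isEffCartier_pow (hX.isEffCartier_primeDiv ((hP p).1 hp).1) _
  -- codimension one
  have hcod : ∀ (V : X.left.affineOpens) (z : X.left) (hzV : z ∈ V.1) (hzW : z ∈ W), coheight z ≤ 1 →
      CDivEq.stk D V hzV = Ideal.span {X.left.presheaf.germ W z hzW g} := by
    intro V z hzV hzW hz1
    let φ : X.left.IdealSheafData →* Ideal (X.left.presheaf.stalk z) :=
      { toFun := fun I => CDivEq.stk I V hzV, map_one' := stk_one V hzV, map_mul' := fun I J => stk_mul I J V hzV }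
    show φ (∏ p ∈ P, primeDiv p ^ m p) = _
    rw [map_prod]
    simp only [map_pow]
    have htop : ∀ p ∈ P, p ≠ z → φ (primeDiv p) ^ m p = 1 := by
      intro p hp hpz
      have : φ (primeDiv p) = ⊤ := stk_primeDiv_of_notMem p V hzV fun hsp => by
        have hlt : z < p := lt_iff_le_not_ge.2 ⟨hsp, fun h => hpz (hsp.antisymm h).eq⟩
        have h2 := (coheight_add_one_le hlt).trans hz1
        rw [((hP p).1 hp).1] at h2
        norm_num at h2
      rw [this, ← Ideal.one_eq_top, one_pow]
    by_cases hzP : z ∈ P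
    · rw [Finset.prod_eq_single_of_mem z hzP fun p hp hpz => htop p hp hpz, (hm z hzP).2 hzW]
      exact congrArg (· ^ m z) (stk_primeDiv_self z V hzV)
    · rw [Finset.prod_eq_one fun p hp => htop p hp fun e => hzP (e ▸ hp), Ideal.one_eq_top, eq_comm,
        Ideal.span_singleton_eq_top]
      rcases eq_or_ne (coheight z) 0 with h | h
      · exact hX.germ_isUnit_of_coheight_zero g hg hzW h
      · by_contra hu
        exact hzP ((hP z).2 ⟨le_antisymm hz1 (Order.one_le_iff_pos.2 (pos_iff_ne_zero.2 h)), hzW, hu⟩)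
  have hnzd : resR hU g ∈ nonZeroDivisors Γ(X.left, U.1) := by
    rw [← MeroX.regSub_eq_nonZeroDivisors U.2]
    intro x
    refine mem_nonZeroDivisors_of_ne_zero ?_
    rw [InvX.germ_resR' hU x.2 g]
    exact hg _ _
  refine ⟨hnzd, ?_⟩
  have key : ∀ x (hx : x ∈ U.1), CDivEq.stk D U hx =
      Ideal.span {X.left.presheaf.germ U.1 x hx (resR hU g)} := by
    intro x hx
    obtain ⟨V', hxV', d', hd'⟩ := exists_isGen hD x
    obtain ⟨_, ⟨V, hV, rfl⟩, hxV, hVle⟩ :=
      X.left.isBasis_affineOpens.exists_subset_of_mem_open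
        (show x ∈ (V'.1 ⊓ U.1 : X.left.Opens) from ⟨hxV', hx⟩) (V'.1 ⊓ U.1).isOpen
    have hVU : V ≤ U.1 := fun z hz => (hVle hz).2
    have hd := hd'.res (V := ⟨V, hV⟩) (fun z hz => (hVle hz).1)
    set d := resR (fun z hz => (hVle hz).1 : V ≤ V'.1) d'
    have hstk : ∀ z (hz : z ∈ V), CDivEq.stk D ⟨V, hV⟩ hz = Ideal.span {X.left.presheaf.germ V z hz d} := by
      intro z hz
      unfold CDivEq.stk
      rw [hd.2, Ideal.map_span, Set.image_singleton]
    rw [CDivEq.stk_congr D U ⟨V, hV⟩ hx hxV, hstk x hxV, InvX.germ_resR' hU hx g,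
      ← InvX.germ_resR' (hVU.trans hU) hxV g, Ideal.span_singleton_eq_span_singleton]
    have hg' : ∀ z (hz : z ∈ V), X.left.presheaf.germ V z hz (resR (hVU.trans hU) g) ≠ 0 := fun z hz => by
      rw [InvX.germ_resR' (hVU.trans hU) hz g]
      exact hg _ _
    have hd0 : ∀ z (hz : z ∈ V), X.left.presheaf.germ V z hz d ≠ 0 := fun z hz =>
      nonZeroDivisors.ne_zero (hd.germ_nzd hz)
    have heq : ∀ z (hz : z ∈ V), coheight z ≤ 1 →
        Associated (X.left.presheaf.germ V z hz d) (X.left.presheaf.germ V z hz (resR (hVU.trans hU) g)) := by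
      intro z hz h1
      rw [← Ideal.span_singleton_eq_span_singleton, ← hstk z hz,
        hcod ⟨V, hV⟩ z hz (hU (hVU hz)) h1, InvX.germ_resR' (hVU.trans hU) hz g]
    exact associated_of_dvd_dvd (hX.dvd_germ_of_codim_one _ _ hd0 (fun z hz h1 => (heq z hz h1).dvd) hxV)
      (hX.dvd_germ_of_codim_one _ _ hg' (fun z hz h1 => (heq z hz h1).symm.dvd) hxV)
  apply le_antisymm <;> refine le_of_map_germ U _ _ fun x hx => ?_ <;>
    rw [Ideal.map_span, Set.image_singleton]
  · exact (key x hx).le
  · exact (key x hx).ge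

end IsSurf

/-- A vertical divisor inside an open on which `D` is principal meets `D` with intersection number zero. -/
theorem inter_eq_zero_of_principal_on {R : Type u} [CommRing R] [IsDomain R] [IsDiscreteValuationRing R]
    {X : Over (Spec (CommRingCat.of R))} [IsProper X.hom] (Γ : ArSurf.VertComp R X)
    {D : X.left.IdealSheafData} (hD : BlowUp.IsEffCartierIdeal D) {W : X.left.Opens}
    (hΓW : Set.range Γ.ι.base ⊆ W) (g : Γ(X.left, W))
    (hg : ∀ (U : X.left.affineOpens) (hU : U.1 ≤ W), IsGen D U (resR hU g))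
    {M : X.left.Modules} (hM : ClSub.IsInverseOf M (ClSub.idealMod D)) :
    ArSurf.inter R X M Γ = 0 := by
  have hI := isInvertible_idealMod hD
  rw [inter_inverse Γ hI hM, neg_eq_zero]
  let ι' := {U : X.left.affineOpens // U.1 ≤ W}
  choose k hk hk' using fun a : ι' => exists_frame_of_isGen (hg a.1 a.2)
  have hcov : ∀ y : Γ.curve.left, ∃ a : ι', y ∈ Γ.ι ⁻¹ᵁ a.1.1 := fun y => by
    obtain ⟨_, ⟨U, hU, rfl⟩, hyU, hUW⟩ :=
      X.left.isBasis_affineOpens.exists_subset_of_mem_open (hΓW ⟨y, rfl⟩) W.isOpen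
    exact ⟨⟨⟨U, hU⟩, hUW⟩, hyU⟩
  have hiso : Nonempty (Coh.structureModule Γ.curve.left ≅
      (Scheme.Modules.pullback Γ.ι).obj (ClSub.idealMod D)) := by
    refine nonempty_iso_of_frames (fun a : ι' => Γ.ι ⁻¹ᵁ a.1.1) hcov
      (fun a => (show Γ(Coh.structureModule Γ.curve.left, Γ.ι ⁻¹ᵁ a.1.1) from
        (1 : Γ(Γ.curve.left, Γ.ι ⁻¹ᵁ a.1.1)))) (fun a => isFrame_one _)
      (fun a => pullElt Γ.ι (k a)) (fun a => isFrame_pullElt Γ.ι (hk' a)) fun a b V ha hb c hc => ?_
    change resR hb (1 : Γ(Γ.curve.left, Γ.ι ⁻¹ᵁ b.1.1)) = c * resR ha 1 at hc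
    rw [map_one, map_one, mul_one] at hc
    subst hc
    rw [one_smul]
    have hkk : res (ClSub.idealMod D) (inf_le_right : a.1.1 ⊓ b.1.1 ≤ b.1.1) (k b) =
        res (ClSub.idealMod D) (inf_le_left : a.1.1 ⊓ b.1.1 ≤ a.1.1) (k a) := by
      apply OmegaLib.idealSect_injective D _
      rw [show OmegaSh.idealSect D _ (res (ClSub.idealMod D) _ (k b)) = _ from
          OmegaLib.idealSect_map D inf_le_right (k b),
        show OmegaSh.idealSect D _ (res (ClSub.idealMod D) _ (k a)) = _ from
          OmegaLib.idealSect_map D inf_le_left (k a), hk, hk]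
      exact (resR_resR _ _ g).trans (resR_resR _ _ g).symm
    have h2 := congrArg (pullElt Γ.ι) hkk
    rw [← res_pullElt, ← res_pullElt] at h2
    have hV : V ≤ Γ.ι ⁻¹ᵁ (a.1.1 ⊓ b.1.1) := fun z hz => ⟨ha hz, hb hz⟩
    have h3 := congrArg (res _ hV) h2
    rw [res_res, res_res] at h3
    exact h3
  haveI : IsProper (Γ.curve.left ↘ Spec (CommRingCat.of (ResidueField R))) := isProper_curve Γ
  obtain ⟨e⟩ := hiso
  unfold ArSurf.inter
  rw [curveDeg_congr _ (topologicalKrullDim_curve_le Γ) (PicClLib.isInvertible_pullback Γ.ι hI) e.symm,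
    curveDeg_structureModule]

end Groth.Agent.ArSurfX
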