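import Groth.Agent.ArSurfX.Quadratic
import Groth.Agent.ArSurfX.PrincipalOn
import Groth.Agent.ArSurfX.ContractUnique
import Groth.Agent.Triage.ZMTBir
import Groth.Agent.S1570
import Groth.Agent.HTopCov.AlmostBlowUp
import Groth.Agent.DivX.CodimOne

/-!
# A point with positive dimensional fibre under a birational morphism of regular surfaces

Its ideal becomes invertible upstairs, so the morphism factors through the blow-up of the point.
-/

universe u

set_option linter.style.haveILetI false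
set_option backward.isDefEq.respectTransparency false
set_option backward.isDefEq.respectTransparency.types false

open CategoryTheory CategoryTheory.Limits AlgebraicGeometry IsLocalRing TopologicalSpace Order

namespace Groth.Agent.ArSurfX

open Groth.Agent

variable {X Y : Scheme.{u}} [IsIntegral X] [IsIntegral Y]

/-- An isolated point of a fibre of a proper birational morphism to a normal scheme is the whole fibre. -/
theorem eq_of_isolated_of_birational [IsLocallyNoetherian X] (hN : ∀ y : Y, IsIntegrallyClosed (Y.presheaf.stalk y)) (f : X ⟶ Y)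
    [IsProper f] (hgen : f (genericPoint X) = genericPoint Y)
    (hbir : IsIso (f.stalkMap (genericPoint X))) {x x' : X} (O : X.Opens) (hxO : x ∈ O)
    (hiso : ∀ w ∈ O, f.base w = f.base x → w = x) (hx' : f.base x' = f.base x) : x' = x := by
  have hopen : IsOpen ({f.asFiber x} : Set (f.fiber (f x))) := by
    have : ({f.asFiber x} : Set (f.fiber (f x))) = (f.fiberι (f x)).base ⁻¹' O := by
      ext w
      constructor
      · rintro rfl
        show (f.fiberι (f x)) (f.asFiber x) ∈ O
        rw [Scheme.Hom.fiberι_asFiber]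
        exact hxO
      · intro hw
        refine (f.fiberι (f x)).isEmbedding.injective ?_
        rw [Scheme.Hom.fiberι_asFiber]
        refine hiso _ hw ?_
        have : (f.fiberι (f x)) w ∈ Set.range (f.fiberι (f x)) := ⟨w, rfl⟩
        rw [Scheme.Hom.range_fiberι] at this
        exact this
    rw [this]
    exact O.isOpen.preimage (f.fiberι (f x)).continuous
  set U := f.quasiFiniteLocus
  have hxU : x ∈ U := Scheme.Hom.quasiFiniteAt_iff_isOpen_singleton_asFiber.2 hopen
  haveI : Nonempty U := ⟨⟨x, hxU⟩⟩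
  haveI : IsIntegral U.toScheme := isIntegral_of_isOpenImmersion U.ι
  haveI : LocallyQuasiFinite (U.ι ≫ f) := by
    rw [← Scheme.Hom.quasiFiniteLocus_eq_top_iff, Scheme.Hom.quasiFiniteLocus_comp]
    exact TopologicalSpace.Opens.ext (Set.eq_univ_of_forall fun w => w.2)
  haveI : QuasiCompact U.ι := inferInstance
  haveI : QuasiCompact (U.ι ≫ f) := inferInstance
  have hgU : U.ι (genericPoint U.toScheme) = genericPoint X := genericPoint_eq_of_isOpenImmersion U.ι
  haveI : IsOpenImmersion (U.ι ≫ f) := by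
    refine Triage.ZMTBir.isOpenImmersion_of_birational hN (U.ι ≫ f) ?_ ?_
    · rw [Scheme.Hom.comp_apply, hgU, hgen]
    · rw [Scheme.Hom.stalkMap_comp]
      haveI : IsIso (f.stalkMap (U.ι (genericPoint U.toScheme))) := by rw [hgU]; exact hbir
      infer_instance
  set V := (U.ι ≫ f).opensRange
  set W := f ⁻¹ᵁ V
  have hxV : f.base x ∈ V := ⟨⟨x, hxU⟩, rfl⟩
  -- the local inverse
  let σ : V.toScheme ⟶ X := IsOpenImmersion.lift (U.ι ≫ f) V.ι (by simp [V]) ≫ U.ι
  have hσ : σ ≫ f = V.ι := by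
    show (_ ≫ U.ι) ≫ f = V.ι
    rw [Category.assoc]
    exact IsOpenImmersion.lift_fac _ _ _
  have hσW : Set.range σ ⊆ Set.range W.ι := by
    rintro _ ⟨v, rfl⟩
    rw [Scheme.Opens.range_ι]
    show f.base (σ v) ∈ V
    rw [← Scheme.Hom.comp_apply, hσ]
    exact v.2
  let s : V.toScheme ⟶ W.toScheme := IsOpenImmersion.lift W.ι σ hσW
  have hs : s ≫ (f ∣_ V) = 𝟙 _ := by
    rw [← cancel_mono V.ι, Category.assoc, morphismRestrict_ι, ← Category.assoc, IsOpenImmersion.lift_fac,
      hσ, Category.id_comp]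
  haveI : IsClosedImmersion (s ≫ (f ∣_ V)) := by rw [hs]; infer_instance
  haveI : IsClosedImmersion s := IsClosedImmersion.of_comp s (f ∣_ V)
  have hrange : Set.range s = W.ι.base ⁻¹' (U : Set X) := by
    ext w
    constructor
    · rintro ⟨v, rfl⟩
      show W.ι (s v) ∈ U
      rw [← Scheme.Hom.comp_apply, IsOpenImmersion.lift_fac]
      exact ((IsOpenImmersion.lift (U.ι ≫ f) V.ι (by simp [V])) v).2
    · intro hw
      refine ⟨(f ∣_ V) w, W.ι.isOpenEmbedding.injective ?_⟩
      rw [← Scheme.Hom.comp_apply, IsOpenImmersion.lift_fac]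
      show U.ι ((IsOpenImmersion.lift (U.ι ≫ f) V.ι (by simp [V])) ((f ∣_ V) w)) = W.ι w
      have h1 : (U.ι ≫ f) ((IsOpenImmersion.lift (U.ι ≫ f) V.ι (by simp [V])) ((f ∣_ V) w)) =
          (U.ι ≫ f) (⟨W.ι w, hw⟩ : U.toScheme) := by
        rw [← Scheme.Hom.comp_apply, IsOpenImmersion.lift_fac, ← Scheme.Hom.comp_apply, morphismRestrict_ι,
          Scheme.Hom.comp_apply, Scheme.Hom.comp_apply]
        rfl
      exact congrArg U.ι ((U.ι ≫ f).isOpenEmbedding.injective h1)
  haveI : Nonempty W := ⟨⟨x, hxV⟩⟩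
  haveI : IsIntegral W.toScheme := isIntegral_of_isOpenImmersion W.ι
  have hclopen : IsClopen (Set.range s) :=
    ⟨s.isClosedEmbedding.isClosed_range, hrange ▸ U.isOpen.preimage W.ι.continuous⟩
  have hx'W : x' ∈ W := by show f.base x' ∈ V; rw [hx']; exact hxV
  have huniv : Set.range s = Set.univ :=
    hclopen.eq_univ ⟨⟨x, hxV⟩, hrange ▸ (show W.ι (⟨x, hxV⟩ : W.toScheme) ∈ U from hxU)⟩
  have hx'U : x' ∈ U := by
    have h : (⟨x', hx'W⟩ : W.toScheme) ∈ Set.range s := huniv ▸ Set.mem_univ _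
    rw [hrange] at h
    exact h
  exact congrArg U.ι ((U.ι ≫ f).isOpenEmbedding.injective (a₁ := (⟨x', hx'U⟩ : U.toScheme)) (a₂ := ⟨x, hxU⟩) hx')

variable [IsLocallyNoetherian X] [IsLocallyNoetherian Y]

/-- The maximal ideal of a point with positive dimensional fibre generates a nonzero principal ideal upstairs. -/
theorem exists_map_maximalIdeal_eq_span (hregX : ∀ x : X, IsRegularLocalRing (X.presheaf.stalk x))
    (hregY : ∀ y : Y, IsRegularLocalRing (Y.presheaf.stalk y))
    (hdimX : ∀ x : X, coheight x ≤ 2) (hdimY : ∀ y : Y, coheight y ≤ 2) (f : X ⟶ Y) [IsProper f]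
    (hbir : ∃ U : Y.Opens, (U : Set Y).Nonempty ∧ IsIso (f ∣_ U)) {x : X}
    (hbig : ∃ x' : X, x' ≠ x ∧ f.base x' = f.base x) :
    ∃ c : X.presheaf.stalk x, c ≠ 0 ∧
      (maximalIdeal (Y.presheaf.stalk (f x))).map (f.stalkMap x).hom = Ideal.span {c} := by
  classical
  obtain ⟨U₀, hU₀, hU₀iso⟩ := hbir
  haveI := hU₀iso
  have hU₀g : genericPoint Y ∈ U₀ := by
    obtain ⟨q, hq⟩ := hU₀
    exact (genericPoint_specializes q).mem_open U₀.isOpen hq
  have hgen := apply_genericPoint_of_isIso_restrict f hU₀g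
  have hbir : IsIso (f.stalkMap (genericPoint X)) :=
    isIso_stalkMap_of_isIso_restrict f (U := U₀) (by rw [hgen]; exact hU₀g)
  obtain ⟨x', hx'ne, hx'⟩ := hbig
  have hyg : f.base x ≠ genericPoint Y := fun e =>
    hx'ne (subsingleton_preimage_of_isIso_restrict f hU₀g (hx'.trans e) e)
  haveI : ∀ q : Y, IsDomain (Y.presheaf.stalk q) := fun q => by haveI := hregY q; exact (RegUFD.ufd _).1
  haveI : ∀ q : X, IsDomain (X.presheaf.stalk q) := fun q => by haveI := hregX q; exact (RegUFD.ufd _).1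
  haveI := hregY (f x)
  haveI := hregX x
  haveI := (RegUFD.ufd (A := Y.presheaf.stalk (f x))).2
  haveI := (RegUFD.ufd (A := X.presheaf.stalk x)).2
  set A := Y.presheaf.stalk (f x)
  set B := X.presheaf.stalk x
  set φ := (f.stalkMap x).hom
  let ψ : B →+* X.functionField := algebraMap B X.functionField
  have hψ : Function.Injective ψ := IsFractionRing.injective B X.functionField
  -- compatibility with the function fields
  have hK : Function.Injective φ ∧ ∀ k : X.functionField, ∃ a b : A, b ≠ 0 ∧ k * ψ (φ b) = ψ (φ a) := by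
    have hs : f (genericPoint X) ⤳ f x := (genericPoint_specializes x).map f.continuous
    let η : A →+* Y.presheaf.stalk (f (genericPoint X)) := (Y.presheaf.stalkSpecializes hs).hom
    have hcomm : ∀ a : A, ψ (φ a) = f.stalkMap (genericPoint X) (η a) := fun a =>
      (ConcreteCategory.congr_hom (f.stalkSpecializes_stalkMap (genericPoint X) x (genericPoint_specializes x)) a).symm
    have key : ∀ q : Y, q = genericPoint Y → ∀ h : q ⤳ f x,
        Function.Injective (Y.presheaf.stalkSpecializes h).hom ∧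
        ∀ k : Y.presheaf.stalk q, ∃ a b : A, b ≠ 0 ∧
          k * (Y.presheaf.stalkSpecializes h).hom b = (Y.presheaf.stalkSpecializes h).hom a := by
      rintro q rfl h
      refine ⟨IsFractionRing.injective A Y.functionField, fun k => ?_⟩
      obtain ⟨⟨a, b⟩, hab⟩ := IsLocalization.surj (nonZeroDivisors A) (show Y.functionField from k)
      exact ⟨a, b, nonZeroDivisors.ne_zero b.2, hab⟩
    obtain ⟨hinj, hfrac⟩ := key _ hgen hs
    haveI := hbir
    have hb := ConcreteCategory.bijective_of_isIso (f.stalkMap (genericPoint X))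
    refine ⟨fun a b hab => hinj (hb.1 ?_), fun k => ?_⟩
    · rw [← hcomm, ← hcomm, hab]
    · obtain ⟨k₀, rfl⟩ := hb.2 k
      obtain ⟨a, b, hb0, hab⟩ := hfrac k₀
      exact ⟨a, b, hb0, by rw [hcomm, hcomm, ← map_mul]; exact congrArg _ hab⟩
  obtain ⟨hφ, hfrac⟩ := hK
  have hAne : maximalIdeal A ≠ ⊥ := fun e => by
    refine hyg ?_
    have hF : IsField A := IsLocalRing.isField_iff_maximalIdeal_eq.2 e
    have h0 := ringKrullDim_eq_zero_of_isField hF
    rw [ringKrullDim_stalk_eq_coheight] at h0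
    have h1 : coheight (f x) = 0 := by exact_mod_cast h0
    by_contra hne
    exact not_isMax_iff.2 ⟨genericPoint Y, (show f x < genericPoint Y from lt_iff_le_not_ge.2 ⟨genericPoint_specializes (f x), fun h => hne ((genericPoint_specializes (f x)).antisymm h).eq.symm⟩)⟩ (coheight_eq_zero.1 h1)
  -- principal downstairs
  by_cases hpA : ∃ a, maximalIdeal A = Ideal.span {a}
  · obtain ⟨a, ha⟩ := hpA
    refine ⟨φ a, fun e => hAne ?_, by rw [ha, Ideal.map_span, Set.image_singleton]⟩
    rw [ha, hφ (e.trans (map_zero φ).symm)]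
    simp
  -- small local ring upstairs
  rcases (show coheight x ≤ 1 ∨ coheight x = 2 by
      rcases le_or_gt (coheight x) 1 with h | h
      · exact Or.inl h
      · refine Or.inr (le_antisymm (hdimX x) ?_)
        have := Order.add_one_le_of_lt h
        simpa [one_add_one_eq_two] using this) with hx1 | hx2
  · have hdim : ringKrullDim B ≤ 1 := by
      rw [ringKrullDim_stalk_eq_coheight]
      exact_mod_cast hx1
    haveI := DimFormula.isPrincipalIdealRing_of_regular_dim_le_one (R := B) hdim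
    obtain ⟨c, hc⟩ := (IsPrincipalIdealRing.principal ((maximalIdeal A).map φ)).principal
    refine ⟨c, fun e => ?_, hc⟩
    obtain ⟨a, ha, ha0⟩ := Submodule.exists_mem_ne_zero_of_ne_bot hAne
    have hmem := hc ▸ Ideal.mem_map_of_mem φ ha
    rw [e] at hmem
    exact ha0 (hφ (by rw [map_zero]; simpa using hmem))
  obtain ⟨a, b, hab⟩ : ∃ a b, maximalIdeal A = Ideal.span {a, b} := by
    have hA : (maximalIdeal A).spanFinrank ≤ 2 := by
      have h1 := IsRegularLocalRing.spanFinrank_maximalIdeal (R := A)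
      rw [ringKrullDim_stalk_eq_coheight] at h1
      have h2 := hdimY (f x)
      have : ((maximalIdeal A).spanFinrank : WithBot ℕ∞) ≤ ((2 : ℕ∞) : WithBot ℕ∞) := by
        rw [h1]; exact WithBot.coe_le_coe.2 h2
      exact_mod_cast this
    have hfin := Submodule.FG.finite_generators (IsNoetherian.noetherian (maximalIdeal A))
    have hcard := (Submodule.FG.generators_ncard (IsNoetherian.noetherian (maximalIdeal A))).trans_le hA
    have hspan := Submodule.span_generators (maximalIdeal A)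
    set G := (maximalIdeal A).generators
    rcases Nat.lt_or_ge G.ncard 2 with h | h
    · exfalso
      rcases Set.eq_empty_or_nonempty G with hG | ⟨g, hg⟩
      · exact hAne (by rw [← hspan, hG]; exact Submodule.span_empty)
      · refine hpA ⟨g, ?_⟩
        rw [← hspan, show G = {g} from Set.eq_singleton_iff_unique_mem.2
          ⟨hg, fun g' hg' => (Set.ncard_le_one hfin).1 (by omega) g' hg' g hg⟩]
    · obtain ⟨a, b, -, hG⟩ := Set.ncard_eq_two.1 (le_antisymm hcard h)
      exact ⟨a, b, by rw [← hspan, hG]⟩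
  have ha0 : a ≠ 0 := fun e => hpA ⟨b, by rw [hab, e, Ideal.span_insert_zero]⟩
  have hb0 : b ≠ 0 := fun e => hpA ⟨a, by rw [hab, e, Set.pair_comm, Ideal.span_insert_zero]⟩
  have hrpA : IsRelPrime a b := fun d hda hdb => by
    by_contra hd
    refine hpA ⟨d, le_antisymm ?_ ((Ideal.span_singleton_le_iff_mem _).2 hd)⟩
    rw [hab, Ideal.span_le]
    rintro z (rfl | rfl) <;> exact Ideal.mem_span_singleton.2 ‹_›
  obtain ⟨a', b', g, hrp, hga, hgb⟩ : ∃ a' b' g, IsRelPrime a' b' ∧ g * a' = φ a ∧ g * b' = φ b :=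
    UniqueFactorizationMonoid.exists_reduced_factors' (φ a) (φ b) fun e => hb0 (hφ (e.trans (map_zero φ).symm))
  have himg : (maximalIdeal A).map φ = Ideal.span {g} * Ideal.span {a', b'} := by
    rw [hab, Ideal.map_span, Ideal.span_mul_span', Set.singleton_mul, Set.image_pair, Set.image_pair, hga, hgb]
  have hg0 : g ≠ 0 := fun e => ha0 (hφ (by rw [← hga, e, zero_mul, map_zero]))
  by_cases hu : IsUnit a' ∨ IsUnit b'
  · refine ⟨g, hg0, ?_⟩
    rw [himg, show Ideal.span {a', b'} = ⊤ from Ideal.eq_top_iff_one _ |>.2 ?_, Ideal.mul_top]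
    rcases hu with hu | hu <;> obtain ⟨v, hv⟩ := hu.exists_left_inv <;> rw [← hv] <;>
      exact Ideal.mul_mem_left _ v (Ideal.subset_span (by simp))
  push Not at hu
  haveI : IsLocalHom φ := inferInstanceAs (IsLocalHom (f.stalkMap x).hom)
  have hgu := isUnit_of_common_factor φ hφ ψ hψ hfrac hab ha0 hrpA hga.symm hgb.symm hu.1 hu.2 hrp
  -- the point is isolated in its fibre
  exfalso
  have hgenz : ∀ w : X, w ⤳ x → f.base w = f.base x → w = x := by
    intro w hw hwy
    by_contra hne
    have hlt : x < w := lt_iff_le_not_ge.2 ⟨hw, fun h => hne ((hw.antisymm h).eq)⟩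
    have h1 := coheight_add_one_le hlt
    rw [hx2, show (2 : ℕ∞) = 1 + 1 from one_add_one_eq_two.symm] at h1
    have hw1 : coheight w ≤ 1 := (ENat.add_le_add_iff_right ENat.one_ne_top).1 h1
    set P := (CDiv6.primeOf hw).asIdeal
    have hmemP : ∀ c ∈ maximalIdeal A, φ c ∈ P := fun c hc => (CDiv6.mem_primeOf hw _).2 fun hu => by
      have hcomm : (X.presheaf.stalkSpecializes hw).hom (φ c) =
          f.stalkMap w ((Y.presheaf.stalkSpecializes (hw.map f.continuous)).hom c) :=
        (ConcreteCategory.congr_hom (f.stalkSpecializes_stalkMap w x hw) c).symm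
      rw [hcomm] at hu
      have h2 : IsUnit ((Y.presheaf.stalkSpecializes (hw.map f.continuous)).hom c) :=
        isUnit_of_map_unit (f.stalkMap w).hom _ hu
      have key : ∀ (q : Y) (h : q ⤳ f x), q = f x → IsUnit ((Y.presheaf.stalkSpecializes h).hom c) → IsUnit c := by
        rintro q h rfl hq
        rwa [TopCat.Presheaf.stalkSpecializes_refl] at hq
      exact hc (key _ _ hwy h2)
    have hgP : g ∉ P := fun h => (CDiv6.primeOf hw).2.ne_top (Ideal.eq_top_of_isUnit_mem _ h hgu)
    have haP : a' ∈ P := ((CDiv6.primeOf hw).2.mem_or_mem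
      (hga.symm ▸ hmemP a (hab ▸ Ideal.subset_span (by simp)))).resolve_left hgP
    have hbP : b' ∈ P := ((CDiv6.primeOf hw).2.mem_or_mem
      (hgb.symm ▸ hmemP b (hab ▸ Ideal.subset_span (by simp)))).resolve_left hgP
    have hP0 : P ≠ ⊥ := fun e => by
      rw [e, Ideal.mem_bot] at haP
      exact ha0 (hφ (by rw [← hga, haP, mul_zero, map_zero]))
    have hPh : P.height = 1 := by
      refine le_antisymm (CDiv6.height_primeOf hw ▸ hw1) (Order.one_le_iff_pos.2 ?_)
      haveI : (⊥ : Ideal B).IsPrime := Ideal.isPrime_bot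
      exact lt_of_le_of_lt zero_le (Ideal.height_strict_mono_of_isPrime (bot_lt_iff_ne_bot.2 hP0))
    obtain ⟨π, hπ, hPπ⟩ := DivX.exists_prime_span_of_height_one P hPh
    rw [hPπ, Ideal.mem_span_singleton] at haP hbP
    exact hπ.not_isUnit (hrp haP hbP)
  have hxc : IsClosed ({x} : Set X) := isClosed_singleton_of_forall fun w hw => by
    by_contra hne
    have hlt : w < x := lt_iff_le_not_ge.2 ⟨hw, fun h => hne ((hw.antisymm h).eq.symm)⟩
    have h1 := (coheight_add_one_le hlt).trans (hdimX w)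
    rw [hx2] at h1
    norm_num at h1
  -- an open set separating it from the rest of the fibre
  obtain ⟨N, hN, hxN⟩ : ∃ N : X.Opens, IsAffineOpen N ∧ x ∈ N := by
    obtain ⟨_, ⟨N, hN, rfl⟩, hxN, -⟩ :=
      X.isBasis_affineOpens.exists_subset_of_mem_open (Set.mem_univ x) isOpen_univ
    exact ⟨N, hN, hxN⟩
  haveI : IsNoetherianRing Γ(X, N) := IsLocallyNoetherian.component_noetherian ⟨N, hN⟩
  haveI : IsNoetherian N.toScheme := by
    haveI : IsAffine N.toScheme := hN
    haveI : IsLocallyNoetherian N.toScheme := isLocallyNoetherian_of_isOpenImmersion N.ι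
    exact {}
  by_cases hyc : IsClosed ({f.base x} : Set Y)
  swap
  · exact hyc (by simpa using f.isClosedMap _ hxc)
  obtain ⟨S, hSf, hSc, hSi, hSU⟩ := NoetherianSpace.exists_finite_set_isClosed_irreducible
    (s := (N.ι ≫ f).base ⁻¹' {f.base x}) (hyc.preimage (N.ι ≫ f).continuous)
  set x₀ : N.toScheme := ⟨x, hxN⟩
  let O' : Set N.toScheme := (⋃ Z ∈ {Z ∈ S | x₀ ∉ Z}, Z)ᶜ
  have hO' : IsOpen O' := ((hSf.subset fun Z hZ => hZ.1).isClosed_biUnion fun Z hZ => hSc Z hZ.1).isOpen_compl
  let O : X.Opens := ⟨N.ι.base '' O', N.ι.isOpenEmbedding.isOpenMap _ hO'⟩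
  have hxO : x ∈ O := ⟨x₀, fun h => by
    obtain ⟨Z, hZ, hxZ⟩ := Set.mem_iUnion₂.1 h
    exact hZ.2 hxZ, rfl⟩
  refine hx'ne (eq_of_isolated_of_birational ?_ f hgen hbir O hxO ?_ hx')
  · intro q
    haveI := hregY q
    haveI := (RegUFD.ufd (A := Y.presheaf.stalk q)).2
    infer_instance
  rintro _ ⟨w, hwO, rfl⟩ hwy
  have hwF : w ∈ (N.ι ≫ f).base ⁻¹' {f.base x} := hwy
  rw [hSU] at hwF
  obtain ⟨Z, hZ, hwZ⟩ := hwF
  have hxZ : x₀ ∈ Z := by
    by_contra hne
    exact hwO (Set.mem_biUnion ⟨hZ, hne⟩ hwZ)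
  have hgz := (hSi Z hZ).isGenericPoint_genericPoint (hSc Z hZ)
  have hgy : f.base (N.ι (hSi Z hZ).genericPoint) = f.base x := by
    have : (hSi Z hZ).genericPoint ∈ (N.ι ≫ f).base ⁻¹' {f.base x} := hSU ▸ Set.mem_sUnion.2 ⟨Z, hZ, hgz.mem⟩
    exact this
  have e := hgenz _ ((hgz.specializes hxZ).map N.ι.continuous) hgy
  have h2 : x ⤳ N.ι.base w := e ▸ (hgz.specializes hwZ).map N.ι.continuous
  exact (Set.mem_singleton_iff.1 (hxc.closure_subset (specializes_iff_mem_closure.1 h2)))

/-- The ideal of a point with positive dimensional fibre becomes invertible upstairs. -/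
theorem isEffCartier_comap_point (hregX : ∀ x : X, IsRegularLocalRing (X.presheaf.stalk x))
    (hregY : ∀ y : Y, IsRegularLocalRing (Y.presheaf.stalk y))
    (hdimX : ∀ x : X, coheight x ≤ 2) (hdimY : ∀ y : Y, coheight y ≤ 2) (f : X ⟶ Y) [IsProper f]
    (hbir : ∃ U : Y.Opens, (U : Set Y).Nonempty ∧ IsIso (f ∣_ U)) {y : Y} (hy : IsClosed ({y} : Set Y))
    (hbig : ∃ x x' : X, x ≠ x' ∧ f.base x = y ∧ f.base x' = y) :
    BlowUp.IsEffCartierIdeal ((Scheme.IdealSheafData.vanishingIdeal ⟨{y}, hy⟩).comap f) := by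
  have hI : Scheme.IdealSheafData.vanishingIdeal ⟨{y}, hy⟩ = primeDiv y := by
    congr 1
    exact Closeds.ext hy.closure_eq.symm
  rw [hI]
  refine S1570.result X _ fun x hx U hxU => ?_
  have hxy : f.base x = y := by
    have h1 : f.base x ∈ ((primeDiv y).support : Set Y) := by
      have h2 : x ∈ (((primeDiv y).comap f).support : Set X) := hx
      rw [Scheme.IdealSheafData.support_comap] at h2
      exact h2
    rw [support_primeDiv, hy.closure_eq] at h1
    exact h1
  subst hxy
  obtain ⟨x₁, x₂, hne, h1, h2⟩ := hbig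
  obtain ⟨c, hc0, hc⟩ := exists_map_maximalIdeal_eq_span hregX hregY hdimX hdimY f hbir (x := x) (by
    by_cases h : x₁ = x
    · exact ⟨x₂, fun e => hne (h.trans e.symm), h2⟩
    · exact ⟨x₁, h, h1⟩)
  haveI : IsDomain (X.presheaf.stalk x) := by haveI := hregX x; exact (RegUFD.ufd _).1
  refine ⟨c, mem_nonZeroDivisors_of_ne_zero hc0, ?_⟩
  obtain ⟨_, ⟨V, hV, rfl⟩, hfxV, -⟩ :=
    Y.isBasis_affineOpens.exists_subset_of_mem_open (Set.mem_univ (f x)) isOpen_univ
  obtain ⟨_, ⟨U', hU', rfl⟩, hxU', hU'le⟩ :=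
    X.isBasis_affineOpens.exists_subset_of_mem_open (show x ∈ (f ⁻¹ᵁ V : X.Opens) from hfxV) (f ⁻¹ᵁ V).isOpen
  rw [show (((primeDiv (f x)).comap f).ideal U).map (X.presheaf.germ U.1 x hxU).hom =
      CDivEq.stk ((primeDiv (f x)).comap f) U hxU from rfl,
    CDivEq.stk_congr _ U ⟨U', hU'⟩ hxU hxU', CDivEq.stk,
    HTopCov.ideal_comap_appLE f (primeDiv (f x)) ⟨V, hV⟩ ⟨U', hU'⟩ hU'le, Ideal.map_map, ← hc,
    ← stk_primeDiv_self (f x) ⟨V, hV⟩ hfxV, CDivEq.stk, Ideal.map_map]
  congr 1
  refine RingHom.ext fun s => ?_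
  show X.presheaf.germ U' x hxU' (f.appLE V U' hU'le s) = f.stalkMap x (Y.presheaf.germ V (f x) hfxV s)
  rw [Scheme.Hom.germ_stalkMap_apply]
  exact TopCat.Presheaf.germ_res_apply X.presheaf (homOfLE hU'le) x hxU' (f.app V s)

end Groth.Agent.ArSurfX
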