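import Groth.Agent.ArSurfX.ChartPoint
import Groth.Agent.ArSurfX.PointFactor
import Groth.Agent.ArSurfX.ContractUnique
import Groth.Agent.BlowUpLib.Glue
import Groth.Agent.GrpSchLib.FieldSmooth
import Groth.Agent.H23.FFDescent
import Groth.Agent.S1680
import Groth.Agent.S1681
import Groth.Agent.S1682
import Groth.Agent.S8851

/-!
# The blow-up of a two-dimensional regular point

It is integral, normal, and has at least two points over the centre.
-/

universe u

set_option linter.style.haveILetI false
set_option backward.isDefEq.respectTransparency false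
set_option backward.isDefEq.respectTransparency.types false

open CategoryTheory CategoryTheory.Limits AlgebraicGeometry IsLocalRing TopologicalSpace

namespace Groth.Agent.ArSurfX

open Groth.Agent

/-- A pair of parameters of a two-dimensional regular local ring. -/
theorem exists_parameters {A : Type u} [CommRing A] [IsRegularLocalRing A] [IsDomain A]
    (hdim : ringKrullDim A = 2) :
    ∃ a b : A, maximalIdeal A = Ideal.span {a, b} ∧ a ≠ 0 ∧ b ≠ 0 ∧ IsRelPrime a b := by
  have hA : (maximalIdeal A).spanFinrank = 2 := by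
    have h1 := IsRegularLocalRing.spanFinrank_maximalIdeal (R := A)
    rw [hdim] at h1
    exact_mod_cast h1
  have hfg := IsNoetherian.noetherian (maximalIdeal A)
  have hcard := (Submodule.FG.generators_ncard hfg).trans hA
  have hspan := Submodule.span_generators (maximalIdeal A)
  obtain ⟨a, b, -, hG⟩ := Set.ncard_eq_two.1 hcard
  rw [hG] at hspan
  have hnp : ∀ d, maximalIdeal A ≠ Ideal.span {d} := fun d hd => by
    have h := Submodule.spanFinrank_span_le_ncard_of_finite (R := A) (Set.finite_singleton d)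
    rw [← Ideal.submodule_span_eq] at hd
    rw [← hd, hA, Set.ncard_singleton] at h
    omega
  refine ⟨a, b, hspan.symm, fun e => hnp b ?_, fun e => hnp a ?_, fun d hda hdb => ?_⟩
  · exact hspan.symm.trans (by rw [e]; exact Submodule.span_insert_zero)
  · exact hspan.symm.trans (by rw [e, Set.pair_comm]; exact Submodule.span_insert_zero)
  · by_contra hd
    refine hnp d (le_antisymm ?_ ((Ideal.span_singleton_le_iff_mem _).2 hd))
    rw [← hspan, Submodule.span_le]
    rintro z (rfl | rfl) <;> exact Ideal.mem_span_singleton.2 ‹_›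

namespace BlowPoint

/-- The local blow-up is normal. -/
theorem isIntegrallyClosed_stalk_local {A : Type u} [CommRing A] [IsRegularLocalRing A] [IsDomain A]
    (hdim : ringKrullDim A = 2) (w : BlowUpLib.localBlowUp (maximalIdeal A)) :
    IsIntegrallyClosed ((BlowUpLib.localBlowUp (maximalIdeal A)).presheaf.stalk w) := by
  obtain ⟨a₀, b₀, hm, ha0, hb0, hrp⟩ := exists_parameters hdim
  let a : (maximalIdeal A) := ⟨a₀, show a₀ ∈ maximalIdeal A from hm ▸ Ideal.subset_span (by simp)⟩
  let b : (maximalIdeal A) := ⟨b₀, show b₀ ∈ maximalIdeal A from hm ▸ Ideal.subset_span (by simp)⟩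
  haveI := (RegUFD.ufd (A := A)).2
  haveI : IsIntegrallyClosed A := inferInstance
  have key : ∀ c d : (maximalIdeal A), (maximalIdeal A) = Ideal.span {(c : A), (d : A)} → (c : A) ≠ 0 → IsRelPrime (c : A) (d : A) →
      w ∈ (BlowUpLib.chart (maximalIdeal A) c).opensRange →
      IsIntegrallyClosed ((BlowUpLib.localBlowUp (maximalIdeal A)).presheaf.stalk w) := by
    rintro c d hcd hc hrp ⟨p, rfl⟩
    haveI := ChartPoint.isDomain_chart c hc
    haveI := ChartPoint.isIntegrallyClosed_chart c d hcd hc hrp
    haveI : IsIntegrallyClosed (Localization.AtPrime p.asIdeal) :=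
      isIntegrallyClosed_of_isLocalization _ p.asIdeal.primeCompl p.asIdeal.primeCompl_le_nonZeroDivisors
    exact IsIntegrallyClosed.of_equiv
      (((asIso ((BlowUpLib.chart (maximalIdeal A) c).stalkMap p)).commRingCatIsoToRingEquiv.trans
        (StructureSheaf.stalkIso _ p).symm.toRingEquiv)).symm
  obtain ⟨e, p, hp⟩ := BlowUpLib.chart_covers (maximalIdeal A) w
  subst hp
  have he0 : (e : A) ≠ 0 := fun h0 => by
    have : Subsingleton (Localization.Away (e : A)) :=
      IsLocalization.subsingleton (M := Submonoid.powers (e : A)) (by rw [h0]; exact ⟨1, pow_one 0⟩)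
    haveI : Subsingleton (BlowUp.affineAlgebra A (maximalIdeal A) (e : A)) := Subtype.val_injective.subsingleton
    exact p.2.ne_top (Subsingleton.elim _ _)
  obtain ⟨r, s, hrs⟩ := Ideal.mem_span_pair.1 (show (e : A) ∈ Ideal.span {a₀, b₀} from hm ▸ e.2)
  have hone : algebraMap A _ r * BlowUpLib.frac (maximalIdeal A) a e + algebraMap A _ s * BlowUpLib.frac (maximalIdeal A) b e =
      (1 : BlowUp.affineAlgebra A (maximalIdeal A) (e : A)) := by
    haveI := ChartPoint.isDomain_chart e he0
    have hne : algebraMap A (BlowUp.affineAlgebra A (maximalIdeal A) (e : A)) e ≠ 0 := fun h =>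
      he0 (IsLocalization.injective (Localization.Away (e : A))
        (powers_le_nonZeroDivisors_of_noZeroDivisors he0) ((congrArg Subtype.val h).trans (map_zero _).symm))
    refine mul_right_cancel₀ hne ?_
    rw [add_mul, mul_assoc, mul_assoc, BlowUpLib.frac_mul, BlowUpLib.frac_mul, one_mul, ← map_mul, ← map_mul,
      ← map_add, hrs]
  by_cases hpa : BlowUpLib.frac (maximalIdeal A) a e ∈ p.asIdeal
  · refine key b a (hm.trans (by rw [Set.pair_comm])) hb0 hrp.symm
      (BlowUpLib.chart_overlap (maximalIdeal A) b e fun hpb => ?_)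
    exact p.2.ne_top ((Ideal.eq_top_iff_one _).2
      (hone ▸ add_mem (Ideal.mul_mem_left _ _ hpa) (Ideal.mul_mem_left _ _ hpb)))
  · exact key a b hm ha0 hrp (BlowUpLib.chart_overlap (maximalIdeal A) a e hpa)

/-- Two points over the centre of the local blow-up. -/
theorem exists_two_points_local {A : Type u} [CommRing A] [IsRegularLocalRing A] [IsDomain A]
    (hdim : ringKrullDim A = 2) :
    ∃ w w' : BlowUpLib.localBlowUp (maximalIdeal A), w ≠ w' ∧
      BlowUpLib.toBase (maximalIdeal A) w = closedPoint A ∧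
      BlowUpLib.toBase (maximalIdeal A) w' = closedPoint A := by
  set m := maximalIdeal A
  obtain ⟨a₀, b₀, hm, ha0, -, hrp⟩ := exists_parameters hdim
  let a : m := ⟨a₀, show a₀ ∈ maximalIdeal A from hm ▸ Ideal.subset_span (by simp)⟩
  let b : m := ⟨b₀, show b₀ ∈ maximalIdeal A from hm ▸ Ideal.subset_span (by simp)⟩
  haveI := (RegUFD.ufd (A := A)).2
  obtain ⟨P, Q, hP, hQ, hPQ, hPc, hQc⟩ := ChartPoint.exists_two_primes a b hm ha0 hrp
  refine ⟨BlowUpLib.chart m a ⟨P, hP⟩, BlowUpLib.chart m a ⟨Q, hQ⟩,
    fun h => hPQ (congrArg PrimeSpectrum.asIdeal ((BlowUpLib.chart m a).isOpenEmbedding.injective h)), ?_, ?_⟩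
  · rw [← Scheme.Hom.comp_apply, BlowUpLib.chart_toBase]
    exact PrimeSpectrum.ext hPc
  · rw [← Scheme.Hom.comp_apply, BlowUpLib.chart_toBase]
    exact PrimeSpectrum.ext hQc

variable {Y Y' : Scheme.{u}} {y : Y} (hy : IsClosed ({y} : Set Y))

theorem comap_fromSpecStalk :
    (Scheme.IdealSheafData.vanishingIdeal ⟨{y}, hy⟩).comap (Y.fromSpecStalk y) =
      BlowUpLib.centre (maximalIdeal (Y.presheaf.stalk y)) := by
  have hI : Scheme.IdealSheafData.vanishingIdeal ⟨{y}, hy⟩ = primeDiv y := by
    congr 1
    exact Closeds.ext hy.closure_eq.symm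
  obtain ⟨_, ⟨U, hU, rfl⟩, hyU, -⟩ := Y.isBasis_affineOpens.exists_subset_of_mem_open (Set.mem_univ y) isOpen_univ
  have hle : (⊤ : (Spec (Y.presheaf.stalk y)).Opens) ≤ Y.fromSpecStalk y ⁻¹ᵁ U := fun q _ => by
    have hq : Y.fromSpecStalk y q ∈ Set.range (Y.fromSpecStalk y) := ⟨q, rfl⟩
    rw [Scheme.range_fromSpecStalk] at hq
    exact hq.mem_open U.isOpen hyU
  refine Scheme.IdealSheafData.ext_of_isAffine ?_
  rw [BlowUpLib.centre_top, hI, HTopCov.ideal_comap_appLE _ _ ⟨U, hU⟩ ⟨⊤, isAffineOpen_top _⟩ hle,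
    ← stk_primeDiv_self y ⟨U, hU⟩ hyU, CDivEq.stk, Ideal.map_map, ← CommRingCat.hom_comp,
    Scheme.Hom.appLE, Scheme.fromSpecStalk_app hyU, Category.assoc, Category.assoc, ← Functor.map_comp]
  erw [(Spec (Y.presheaf.stalk y)).presheaf.map_id, Category.comp_id]
  rfl

variable {b : Y' ⟶ Y} (hb : BlowUp.IsBlowUp b (Scheme.IdealSheafData.vanishingIdeal ⟨{y}, hy⟩))
include hb

theorem isIso_restrict_compl : IsIso (b ∣_ (⟨{y}ᶜ, hy.isOpen_compl⟩ : Y.Opens)) := by
  refine BlowUpLib.isIso_restrict hb _ fun q hq hq' => hq ?_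
  rw [Scheme.IdealSheafData.coe_support_vanishingIdeal] at hq'
  exact hq'

theorem exists_local_iso :
    ∃ e : BlowUpLib.localBlowUp (maximalIdeal (Y.presheaf.stalk y)) ≅ pullback (Y.fromSpecStalk y) b,
      e.hom ≫ pullback.fst (Y.fromSpecStalk y) b = BlowUpLib.toBase _ := by
  haveI := GrpSchLib.flat_fromSpecStalk y
  have h := S1680.result (Y.fromSpecStalk y) _ b hb
  rw [comap_fromSpecStalk hy] at h
  exact BlowUpLib.exists_iso (BlowUpLib.isBlowUp_local _) h

variable (hreg : IsRegularLocalRing (Y.presheaf.stalk y)) (hdim : ringKrullDim (Y.presheaf.stalk y) = 2)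
include hreg hdim

theorem exists_two_points : ∃ z z' : Y', z ≠ z' ∧ b.base z = y ∧ b.base z' = y := by
  haveI := hreg
  haveI : IsDomain (Y.presheaf.stalk y) := (RegUFD.ufd _).1
  obtain ⟨w, w', hne, hw, hw'⟩ := exists_two_points_local hdim
  obtain ⟨e, he⟩ := exists_local_iso hy hb
  set p := pullback.snd (Y.fromSpecStalk y) b
  haveI : IsPreimmersion p := inferInstance
  have hover : ∀ v, BlowUpLib.toBase (maximalIdeal (Y.presheaf.stalk y)) v = closedPoint _ →
      b.base (p (e.hom v)) = y := fun v hv => by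
    rw [← Scheme.Hom.comp_apply, ← pullback.condition, Scheme.Hom.comp_apply, ← Scheme.Hom.comp_apply e.hom, he]
    exact (congrArg (Y.fromSpecStalk y) hv).trans Scheme.fromSpecStalk_closedPoint
  exact ⟨p (e.hom w), p (e.hom w'), fun h => hne (e.hom.homeomorph.injective (p.isEmbedding.injective h)),
    hover w hw, hover w' hw'⟩

theorem isIntegrallyClosed_stalk (hN : ∀ q : Y, IsIntegrallyClosed (Y.presheaf.stalk q)) (z : Y') :
    IsIntegrallyClosed (Y'.presheaf.stalk z) := by
  haveI := hreg
  haveI : IsDomain (Y.presheaf.stalk y) := (RegUFD.ufd _).1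
  by_cases hz : b.base z = y
  · obtain ⟨e, he⟩ := exists_local_iso hy hb
    set p := pullback.snd (Y.fromSpecStalk y) b
    haveI := GrpSchLib.flat_fromSpecStalk y
    obtain ⟨v, hv1, hv2⟩ := Scheme.Pullback.exists_preimage_pullback
      (f := Y.fromSpecStalk y) (g := b) (closedPoint (Y.presheaf.stalk y)) z
      (by rw [Scheme.fromSpecStalk_closedPoint]; exact hz.symm)
    subst hv2
    haveI : IsIso (p.stalkMap v) := H23.FFDescent.isIso_stalkMap_of_flat_of_isPreimmersion p v
    obtain ⟨w, rfl⟩ := e.hom.homeomorph.surjective v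
    haveI := isIntegrallyClosed_stalk_local hdim w
    haveI : IsIso (e.hom.stalkMap w) := inferInstance
    haveI : IsIso (p.stalkMap (e.hom w)) := H23.FFDescent.isIso_stalkMap_of_flat_of_isPreimmersion p _
    exact IsIntegrallyClosed.of_equiv
      ((asIso (p.stalkMap (e.hom w)) ≪≫ asIso (e.hom.stalkMap w)).commRingCatIsoToRingEquiv).symm
  · haveI := isIso_restrict_compl hy hb
    haveI : IsIso (b.stalkMap z) := isIso_stalkMap_of_isIso_restrict b (U := ⟨{y}ᶜ, hy.isOpen_compl⟩) hz
    haveI := hN (b z)
    exact IsIntegrallyClosed.of_equiv (asIso (b.stalkMap z)).commRingCatIsoToRingEquiv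

omit hreg in
theorem isIntegral [IsIntegral Y] : IsIntegral Y' := by
  haveI := S8851.result _ b hb
  have hbij := S1681.result _ b hb
  have hηmax : ∀ q : Y, q ⤳ genericPoint Y → q = genericPoint Y :=
    fun q h => (h.antisymm (genericPoint_specializes q)).eq
  have hsupp : genericPoint Y ∉ (Scheme.IdealSheafData.vanishingIdeal (⟨{y}, hy⟩ : Closeds Y)).support := by
    intro h
    rw [← SetLike.mem_coe, Scheme.IdealSheafData.coe_support_vanishingIdeal] at h
    have hye : genericPoint Y = y := h
    rw [ringKrullDim_stalk_eq_coheight, ← hye, show Order.coheight (genericPoint Y) = 0 from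
      Order.coheight_eq_zero.2 fun q _ => genericPoint_specializes q] at hdim
    norm_num at hdim
  obtain ⟨ξ, hξ, hξη⟩ := hbij.surjOn ⟨hηmax, hsupp⟩
  have huniv : ∀ z : Y', ξ ⤳ z := fun z => by
    have hC := isIrreducible_irreducibleComponent (x := z)
    have hgC := hC.isGenericPoint_genericPoint isClosed_irreducibleComponent
    have hmax : ∀ q : Y', q ⤳ hC.genericPoint → q = hC.genericPoint := fun q hq => by
      have hsub : irreducibleComponent z ⊆ closure {q} := by
        rw [← hgC.def]
        exact hq.closure_subset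
      have heq : closure {q} = irreducibleComponent z :=
        eq_irreducibleComponent isIrreducible_singleton.closure.2 hsub
      have hq' : IsGenericPoint hC.genericPoint (closure {q}) := by rw [heq]; exact hgC
      exact (hq'.eq isGenericPoint_closure).symm
    have h1 := hbij.mapsTo (x := hC.genericPoint) hmax
    have h2 : b hC.genericPoint = genericPoint Y := (h1.1 _ (genericPoint_specializes _)).symm
    have h3 : hC.genericPoint = ξ := hbij.injOn hmax hξ (h2.trans hξη.symm)
    exact h3 ▸ hgC.specializes mem_irreducibleComponent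
  haveI : IrreducibleSpace Y' := by
    haveI : Nonempty Y' := ⟨ξ⟩
    have : closure ({ξ} : Set Y') = Set.univ :=
      Set.eq_univ_of_forall fun z => specializes_iff_mem_closure.1 (huniv z)
    refine (irreducibleSpace_def Y').2 ?_
    rw [Set.top_eq_univ, ← this]
    exact isIrreducible_singleton.closure
  exact isIntegral_of_irreducibleSpace_of_isReduced Y'

end BlowPoint

end Groth.Agent.ArSurfX
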