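import Groth.Agent.ArSurfX.ChartPoint
import Groth.Agent.RegLoc6.Serre
import Mathlib.RingTheory.Ideal.Height
import Mathlib.RingTheory.Ideal.KrullsHeightTheorem
import Mathlib.RingTheory.RegularLocalRing.Defs
import Mathlib.RingTheory.Polynomial.Quotient

/-!
# The charts of the blow-up of a two-dimensional regular point are regular

Every local ring of `A[b/a]` is regular of dimension at most two.
-/

universe u

set_option linter.style.haveILetI false
set_option backward.isDefEq.respectTransparency false
set_option backward.isDefEq.respectTransparency.types false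

open Polynomial IsLocalRing

namespace Groth.Agent.ArSurfX.ChartPoint

open Groth.Agent

variable {A : Type u} [CommRing A] {I : Ideal A} (a b : I) (hI : I = Ideal.span {(a : A), (b : A)})
variable [IsDomain A] [UniqueFactorizationMonoid A] (ha : (a : A) ≠ 0) (hab : IsRelPrime (a : A) (b : A))
include hI ha hab

/-- A prime of the chart over the centre is generated by `a` and one more element. -/
theorem exists_eq_span_pair [I.IsMaximal] (P : Ideal (BlowUp.affineAlgebra A I (a : A))) [P.IsPrime]
    (hP : algebraMap A (BlowUp.affineAlgebra A I (a : A)) (a : A) ∈ P) :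
    ∃ g, P = Ideal.span {algebraMap A (BlowUp.affineAlgebra A I (a : A)) (a : A), g} := by
  letI := Ideal.Quotient.field I
  set z := algebraMap A (BlowUp.affineAlgebra A I (a : A)) (a : A)
  let ρ : A[X] →+* (A ⧸ I)[X] := mapRingHom (Ideal.Quotient.mk I)
  have hρ : Function.Surjective ρ := map_surjective _ Ideal.Quotient.mk_surjective
  obtain ⟨gb, hgb⟩ := (IsPrincipalIdealRing.principal ((P.comap (π a b)).map ρ)).principal
  obtain ⟨g₀, rfl⟩ := hρ gb
  have hker : ∀ p, ρ p = 0 → π a b p ∈ Ideal.span {z} := fun p hp => by
    rw [Ideal.mem_span_singleton]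
    refine (dvd_π_iff a b hI ha hab p).2 (Ideal.mem_map_C_iff.2 fun i => ?_)
    rw [← Ideal.Quotient.eq_zero_iff_mem, ← coeff_map]
    show (ρ p).coeff i = 0
    rw [hp, coeff_zero]
  have hg : g₀ ∈ P.comap (π a b) := by
    have h : ρ g₀ ∈ (P.comap (π a b)).map ρ := hgb ▸ Submodule.mem_span_singleton_self _
    rw [Ideal.mem_map_iff_of_surjective _ hρ] at h
    obtain ⟨q, hq, hqe⟩ := h
    rw [show g₀ = q + (g₀ - q) by ring]
    refine add_mem hq ((Ideal.span_le.2 (Set.singleton_subset_iff.2 hP)) (hker _ ?_))
    rw [map_sub, hqe, sub_self]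
  refine ⟨π a b g₀, le_antisymm (fun w hw => ?_) ?_⟩
  · obtain ⟨p, rfl⟩ := π_surjective a b hI w
    have h : ρ p ∈ (P.comap (π a b)).map ρ := Ideal.mem_map_of_mem _ hw
    rw [hgb, Submodule.mem_span_singleton] at h
    obtain ⟨c, hc⟩ := h
    obtain ⟨c, rfl⟩ := hρ c
    rw [show p = c * g₀ + (p - c * g₀) by ring, map_add, map_mul]
    refine add_mem (Ideal.mul_mem_left _ _ (Ideal.subset_span (by simp))) (Ideal.span_mono (by simp) (hker _ ?_))
    rw [map_sub, map_mul, sub_eq_zero]
    exact hc.symm
  · rw [Ideal.span_le]
    rintro _ (rfl | rfl)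
    exacts [hP, hg]

theorem isRegularLocalRing_chart [IsRegularLocalRing A] (hm : I = maximalIdeal A) (hdim : ringKrullDim A ≤ 2)
    (P : Ideal (BlowUp.affineAlgebra A I (a : A))) [P.IsPrime] :
    IsRegularLocalRing (Localization.AtPrime P) ∧ ringKrullDim (Localization.AtPrime P) ≤ 2 := by
  haveI : I.IsMaximal := hm ▸ maximalIdeal.isMaximal A
  haveI := isDomain_chart a ha
  haveI := isNoetherianRing_chart a b hI
  haveI := isLocalization_away_chart (I := I) a
  set z := algebraMap A (BlowUp.affineAlgebra A I (a : A)) (a : A) with hzdef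
  by_cases hzP : z ∈ P
  · let S := Localization.AtPrime P
    set φ := algebraMap (BlowUp.affineAlgebra A I (a : A)) S with hφ
    haveI : IsNoetherianRing S := IsLocalization.isNoetherianRing P.primeCompl S inferInstance
    obtain ⟨g, hg⟩ := exists_eq_span_pair a b hI ha hab P hzP
    have hprime : (Ideal.span {z}).IsPrime :=
      (Ideal.span_singleton_prime (prime_algebraMap a b hI ha hab).ne_zero).2 (prime_algebraMap a b hI ha hab)
    have hz0 : (⊥ : Ideal (BlowUp.affineAlgebra A I (a : A))) < Ideal.span {z} :=
      bot_lt_iff_ne_bot.2 fun e => (prime_algebraMap a b hI ha hab).ne_zero (Ideal.span_singleton_eq_bot.1 e)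
    have hone : (1 : ℕ∞) ≤ (Ideal.span {z}).height :=
      Order.one_le_iff_pos.2 (lt_of_le_of_lt zero_le (Ideal.height_strict_mono_of_isPrime hz0))
    have hdimS := IsLocalization.AtPrime.ringKrullDim_eq_height P S
    have hmS : maximalIdeal S = P.map φ := (IsLocalization.AtPrime.map_eq_maximalIdeal P S).symm
    by_cases hgz : g ∈ Ideal.span {z}
    · have hP : P = Ideal.span {z} := le_antisymm (hg ▸ Ideal.span_le.2 (by
        rintro _ (rfl | rfl)
        exacts [Ideal.mem_span_singleton_self _, hgz])) ((Ideal.span_singleton_le_iff_mem _).2 hzP)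
      have hle : (maximalIdeal S).spanFinrank ≤ 1 := by
        rw [hmS, congrArg (Ideal.map φ) hP, Ideal.map_span, Set.image_singleton]
        exact (Submodule.spanFinrank_span_le_ncard_of_finite (Set.finite_singleton _)).trans (Set.ncard_singleton _).le
      have hreg : IsRegularLocalRing S := by
        refine IsRegularLocalRing.of_spanFinrank_maximalIdeal_le S (le_trans (Nat.cast_le.2 hle) ?_)
        rw [hdimS, Nat.cast_one]
        exact WithBot.coe_le_coe.2 (hP ▸ hone)
      refine ⟨hreg, ?_⟩
      refine (IsLocalization.AtPrime.ringKrullDim_eq_height P (Localization.AtPrime P)).le.trans ?_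
      refine WithBot.coe_le_coe.2 ((Ideal.height_le_spanFinrank P (Ideal.IsPrime.ne_top inferInstance)).trans ?_)
      refine le_trans (Nat.cast_le.2 (?_ : P.spanFinrank ≤ 2)) le_rfl
      rw [hP]
      exact (Submodule.spanFinrank_span_le_ncard_of_finite (Set.finite_singleton _)).trans
        ((Set.ncard_singleton _).le.trans one_le_two)
    · have hlt : Ideal.span {z} < P := lt_of_le_of_ne ((Ideal.span_singleton_le_iff_mem _).2 hzP) fun e =>
        hgz (e ▸ hg ▸ Ideal.subset_span (by simp))
      have hle : (maximalIdeal S).spanFinrank ≤ 2 := by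
        rw [hmS, congrArg (Ideal.map φ) hg, Ideal.map_span, Set.image_pair]
        refine (Submodule.spanFinrank_span_le_ncard_of_finite (Set.toFinite _)).trans ?_
        exact (Set.ncard_insert_le _ _).trans (by rw [Set.ncard_singleton])
      have hreg : IsRegularLocalRing S := by
        refine IsRegularLocalRing.of_spanFinrank_maximalIdeal_le S (le_trans (Nat.cast_le.2 hle) ?_)
        rw [hdimS]
        have h2 : (2 : ℕ∞) ≤ P.height := by
          rw [← one_add_one_eq_two]
          exact (add_le_add hone le_rfl).trans (Order.add_one_le_of_lt (Ideal.height_strict_mono_of_isPrime hlt))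
        exact WithBot.coe_le_coe.2 h2
      refine ⟨hreg, ?_⟩
      refine (IsLocalization.AtPrime.ringKrullDim_eq_height P (Localization.AtPrime P)).le.trans ?_
      refine WithBot.coe_le_coe.2 ((Ideal.height_le_spanFinrank P (Ideal.IsPrime.ne_top inferInstance)).trans ?_)
      refine le_trans (Nat.cast_le.2 (?_ : P.spanFinrank ≤ 2)) le_rfl
      rw [hg]
      exact (Submodule.spanFinrank_span_le_ncard_of_finite (Set.toFinite _)).trans
        ((Set.ncard_insert_le _ _).trans (by rw [Set.ncard_singleton]))
  · -- away from the exceptional divisor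
    have hdisj : Disjoint (Submonoid.powers z : Set (BlowUp.affineAlgebra A I (a : A))) P :=
      Set.disjoint_left.2 fun x ⟨n, hn⟩ hx => hzP (‹P.IsPrime›.mem_of_pow_mem n (show z ^ n ∈ P by rw [show z ^ n = x from hn]; exact hx))
    let L := Localization.Away (a : A)
    set Q : Ideal L := P.map (algebraMap (BlowUp.affineAlgebra A I (a : A)) L)
    haveI hQ : Q.IsPrime := IsLocalization.isPrime_of_isPrime_disjoint (Submonoid.powers z) L P ‹_› hdisj
    have hQP : Q.comap (algebraMap (BlowUp.affineAlgebra A I (a : A)) L) = P :=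
      IsLocalization.under_map_of_isPrime_disjoint (Submonoid.powers z) L ‹P.IsPrime› hdisj
    set p₀ := Q.comap (algebraMap A L)
    haveI hA' : IsLocalization.AtPrime (Localization.AtPrime Q) p₀ :=
      IsLocalization.isLocalization_isLocalization_atPrime_isLocalization (Submonoid.powers (a : A)) _ Q
    haveI hB' : IsLocalization.AtPrime (Localization.AtPrime Q)
        (Q.comap (algebraMap (BlowUp.affineAlgebra A I (a : A)) L)) :=
      IsLocalization.isLocalization_isLocalization_atPrime_isLocalization (Submonoid.powers z) _ Q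
    let e₁ := IsLocalization.algEquiv (Q.comap (algebraMap (BlowUp.affineAlgebra A I (a : A)) L)).primeCompl
      (Localization.AtPrime (Q.comap (algebraMap (BlowUp.affineAlgebra A I (a : A)) L))) (Localization.AtPrime Q)
    haveI := RegLoc6.isRegularLocalRing_localization A p₀
    let e₂ := IsLocalization.algEquiv p₀.primeCompl (Localization.AtPrime p₀) (Localization.AtPrime Q)
    haveI hL : IsRegularLocalRing (Localization.AtPrime Q) := IsRegularLocalRing.of_ringEquiv e₂.toRingEquiv
    have key : ∀ (P' : Ideal (BlowUp.affineAlgebra A I (a : A))) [P'.IsPrime], P' = P →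
        IsRegularLocalRing (Localization.AtPrime P') ∧ ringKrullDim (Localization.AtPrime P') ≤ 2 →
        IsRegularLocalRing (Localization.AtPrime P) ∧ ringKrullDim (Localization.AtPrime P) ≤ 2 := by
      rintro P' _ rfl h
      exact h
    refine key _ hQP ⟨IsRegularLocalRing.of_ringEquiv e₁.toRingEquiv.symm, ?_⟩
    rw [ringKrullDim_eq_of_ringEquiv e₁.toRingEquiv, ← ringKrullDim_eq_of_ringEquiv e₂.toRingEquiv,
      IsLocalization.AtPrime.ringKrullDim_eq_height p₀ _]
    exact le_trans (Ideal.height_le_ringKrullDim_of_ne_top (Ideal.IsPrime.ne_top inferInstance)) hdim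

end Groth.Agent.ArSurfX.ChartPoint
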