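import Groth.Agent.ArSurfX.BlowPoint
import Groth.Agent.ArSurfX.ChartRegular

/-!
# The blow-up of a two-dimensional regular point is regular

Locally over `Spec A` it is covered by the charts of two parameters.
-/

universe u

set_option linter.style.haveILetI false
set_option backward.isDefEq.respectTransparency false
set_option backward.isDefEq.respectTransparency.types false

open CategoryTheory CategoryTheory.Limits AlgebraicGeometry IsLocalRing TopologicalSpace

namespace Groth.Agent.ArSurfX.BlowPoint

open Groth.Agent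

/-- A blow-up of an integral scheme along a centre missing the generic point is integral. -/
theorem isIntegral_of_isBlowUp {Y Y' : Scheme.{u}} [IsIntegral Y] {I : Y.IdealSheafData}
    (hI : genericPoint Y ∉ I.support) {b : Y' ⟶ Y} (hb : BlowUp.IsBlowUp b I) : IsIntegral Y' := by
  haveI := S8851.result _ b hb
  have hbij := S1681.result _ b hb
  have hηmax : ∀ q : Y, q ⤳ genericPoint Y → q = genericPoint Y :=
    fun q h => (h.antisymm (genericPoint_specializes q)).eq
  obtain ⟨ξ, hξ, hξη⟩ := hbij.surjOn ⟨hηmax, hI⟩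
  have huniv : ∀ z : Y', ξ ⤳ z := fun z => by
    have hC := isIrreducible_irreducibleComponent (x := z)
    have hgC := hC.isGenericPoint_genericPoint isClosed_irreducibleComponent
    have hmax : ∀ q : Y', q ⤳ hC.genericPoint → q = hC.genericPoint := fun q hq => by
      have hsub : irreducibleComponent z ⊆ closure {q} := by
        rw [← hgC.def]
        exact hq.closure_subset
      have heq : closure {q} = irreducibleComponent z :=
        eq_irreducibleComponent isIrreducible_singleton.closure.2 hsub
      have hq' : IsGenericPoint hC.genericPoint (closure {q}) := by rw [heq]; exact hgC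
      exact (hq'.eq isGenericPoint_closure).symm
    have h1 := hbij.mapsTo (x := hC.genericPoint) hmax
    have h2 : b hC.genericPoint = genericPoint Y := (h1.1 _ (genericPoint_specializes _)).symm
    exact (hbij.injOn hmax hξ (h2.trans hξη.symm)) ▸ hgC.specializes mem_irreducibleComponent
  haveI : IrreducibleSpace Y' := by
    have : closure ({ξ} : Set Y') = Set.univ :=
      Set.eq_univ_of_forall fun z => specializes_iff_mem_closure.1 (huniv z)
    refine (irreducibleSpace_def Y').2 ?_
    rw [Set.top_eq_univ, ← this]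
    exact isIrreducible_singleton.closure
  exact isIntegral_of_irreducibleSpace_of_isReduced Y'

variable {A : Type u} [CommRing A] [IsRegularLocalRing A] [IsDomain A]

/-- The charts of two parameters cover the blow-up of the closed point. -/
theorem mem_chart_of_parameters (a b : maximalIdeal A) (hm : maximalIdeal A = Ideal.span {(a : A), (b : A)})
    (w : BlowUpLib.localBlowUp (maximalIdeal A)) :
    w ∈ (BlowUpLib.chart (maximalIdeal A) a).opensRange ∨ w ∈ (BlowUpLib.chart (maximalIdeal A) b).opensRange := by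
  obtain ⟨e, p, hp⟩ := BlowUpLib.chart_covers (maximalIdeal A) w
  subst hp
  have he0 : (e : A) ≠ 0 := fun h0 => by
    have : Subsingleton (Localization.Away (e : A)) :=
      IsLocalization.subsingleton (M := Submonoid.powers (e : A)) (by rw [h0]; exact ⟨1, pow_one 0⟩)
    haveI : Subsingleton (BlowUp.affineAlgebra A (maximalIdeal A) (e : A)) := Subtype.val_injective.subsingleton
    exact p.2.ne_top (Subsingleton.elim _ _)
  obtain ⟨r, s, hrs⟩ := Ideal.mem_span_pair.1 (show (e : A) ∈ Ideal.span {(a : A), (b : A)} from hm ▸ e.2)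
  haveI := ChartPoint.isDomain_chart e he0
  have hne : algebraMap A (BlowUp.affineAlgebra A (maximalIdeal A) (e : A)) e ≠ 0 := fun h =>
    he0 (IsLocalization.injective (Localization.Away (e : A))
      (powers_le_nonZeroDivisors_of_noZeroDivisors he0) ((congrArg Subtype.val h).trans (map_zero _).symm))
  have hone : algebraMap A _ r * BlowUpLib.frac _ a e + algebraMap A _ s * BlowUpLib.frac _ b e =
      (1 : BlowUp.affineAlgebra A (maximalIdeal A) (e : A)) := by
    refine mul_right_cancel₀ hne ?_
    rw [add_mul, mul_assoc, mul_assoc, BlowUpLib.frac_mul, BlowUpLib.frac_mul, one_mul, ← map_mul, ← map_mul,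
      ← map_add, hrs]
  by_cases hpa : BlowUpLib.frac (maximalIdeal A) a e ∈ p.asIdeal
  · refine Or.inr (BlowUpLib.chart_overlap _ b e fun hpb => ?_)
    exact p.2.ne_top ((Ideal.eq_top_iff_one _).2
      (hone ▸ add_mem (Ideal.mul_mem_left _ _ hpa) (Ideal.mul_mem_left _ _ hpb)))
  · exact Or.inl (BlowUpLib.chart_overlap _ a e hpa)

/-- The local blow-up is regular of dimension at most two. -/
theorem isRegularLocalRing_stalk_local (hdim : ringKrullDim A = 2) (w : BlowUpLib.localBlowUp (maximalIdeal A)) :
    IsRegularLocalRing ((BlowUpLib.localBlowUp (maximalIdeal A)).presheaf.stalk w) ∧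
      ringKrullDim ((BlowUpLib.localBlowUp (maximalIdeal A)).presheaf.stalk w) ≤ 2 := by
  obtain ⟨a₀, b₀, hm, ha0, hb0, hrp⟩ := exists_parameters hdim
  let a : maximalIdeal A := ⟨a₀, hm ▸ Ideal.subset_span (by simp)⟩
  let b : maximalIdeal A := ⟨b₀, hm ▸ Ideal.subset_span (by simp)⟩
  haveI := (RegUFD.ufd (A := A)).2
  have key : ∀ c d : maximalIdeal A, maximalIdeal A = Ideal.span {(c : A), (d : A)} → (c : A) ≠ 0 →
      IsRelPrime (c : A) (d : A) → w ∈ (BlowUpLib.chart (maximalIdeal A) c).opensRange →
      IsRegularLocalRing ((BlowUpLib.localBlowUp (maximalIdeal A)).presheaf.stalk w) ∧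
        ringKrullDim ((BlowUpLib.localBlowUp (maximalIdeal A)).presheaf.stalk w) ≤ 2 := by
    rintro c d hcd hc hrp ⟨p, rfl⟩
    obtain ⟨h1, h2⟩ := ChartPoint.isRegularLocalRing_chart c d hcd hc hrp rfl hdim.le p.asIdeal
    let e := (((asIso ((BlowUpLib.chart (maximalIdeal A) c).stalkMap p)).commRingCatIsoToRingEquiv.trans
        (StructureSheaf.stalkIso _ p).symm.toRingEquiv)).symm
    haveI := h1
    exact ⟨IsRegularLocalRing.of_ringEquiv e, (ringKrullDim_eq_of_ringEquiv e).symm.le.trans h2⟩
  rcases mem_chart_of_parameters a b hm w with h | h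
  · exact key a b hm ha0 hrp h
  · exact key b a (hm.trans (by rw [Set.pair_comm])) hb0 hrp.symm h

variable {Y Y' : Scheme.{u}} {y : Y} (hy : IsClosed ({y} : Set Y)) {b : Y' ⟶ Y}
  (hb : BlowUp.IsBlowUp b (Scheme.IdealSheafData.vanishingIdeal ⟨{y}, hy⟩))
  (hreg : IsRegularLocalRing (Y.presheaf.stalk y)) (hdim : ringKrullDim (Y.presheaf.stalk y) = 2)
include hb hreg hdim

theorem isRegularLocalRing_stalk (hY : ∀ q : Y, IsRegularLocalRing (Y.presheaf.stalk q))
    (hY2 : ∀ q : Y, ringKrullDim (Y.presheaf.stalk q) ≤ 2) (z : Y') :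
    IsRegularLocalRing (Y'.presheaf.stalk z) ∧ ringKrullDim (Y'.presheaf.stalk z) ≤ 2 := by
  haveI := hreg
  haveI : IsDomain (Y.presheaf.stalk y) := (RegUFD.ufd _).1
  by_cases hz : b.base z = y
  · obtain ⟨e, he⟩ := exists_local_iso hy hb
    set p := pullback.snd (Y.fromSpecStalk y) b
    haveI := GrpSchLib.flat_fromSpecStalk y
    obtain ⟨v, -, hv2⟩ := Scheme.Pullback.exists_preimage_pullback
      (f := Y.fromSpecStalk y) (g := b) (closedPoint (Y.presheaf.stalk y)) z
      (by rw [Scheme.fromSpecStalk_closedPoint]; exact hz.symm)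
    subst hv2
    obtain ⟨w, rfl⟩ := e.hom.homeomorph.surjective v
    obtain ⟨h1, h2⟩ := isRegularLocalRing_stalk_local hdim w
    haveI : IsIso (p.stalkMap (e.hom w)) := H23.FFDescent.isIso_stalkMap_of_flat_of_isPreimmersion p _
    let E := (asIso (p.stalkMap (e.hom w)) ≪≫ asIso (e.hom.stalkMap w)).commRingCatIsoToRingEquiv.symm
    haveI := h1
    exact ⟨IsRegularLocalRing.of_ringEquiv E, (ringKrullDim_eq_of_ringEquiv E).symm.le.trans h2⟩
  · haveI := isIso_restrict_compl hy hb
    haveI : IsIso (b.stalkMap z) := isIso_stalkMap_of_isIso_restrict b (U := ⟨{y}ᶜ, hy.isOpen_compl⟩) hz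
    haveI := hY (b z)
    exact ⟨IsRegularLocalRing.of_ringEquiv (asIso (b.stalkMap z)).commRingCatIsoToRingEquiv,
      (ringKrullDim_eq_of_ringEquiv (asIso (b.stalkMap z)).commRingCatIsoToRingEquiv).symm.le.trans (hY2 _)⟩

end Groth.Agent.ArSurfX.BlowPoint
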