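import Mathlib.RingTheory.UniqueFactorizationDomain.Basic
import Mathlib.RingTheory.Polynomial.Basic
import Mathlib.RingTheory.LocalRing.Basic
import Mathlib.RingTheory.LocalRing.RingHom.Basic
import Mathlib.Algebra.Field.Basic
import Mathlib.Algebra.GroupWithZero.Associated
import Mathlib.Tactic.FieldSimp
import Mathlib.RingTheory.Noetherian.UniqueFactorizationDomain
import Mathlib.RingTheory.UniqueFactorizationDomain.Multiplicity
import Mathlib.Tactic.Ring
import Mathlib.Tactic.LinearCombination

/-!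
# A birational extension of a two-dimensional regular local ring factors through the quadratic transform

If `A ⊆ B` are factorial local rings with the same fraction field, `A` with maximal ideal `(a, b)`,
and `a = g a'`, `b = g b'` in `B` with `a'`, `b'` coprime non-units, then `g` is a unit: otherwise
`B[b/a]` would contain an element whose order along the exceptional divisor of `A[b/a]` is at least
two although it is `a`.
-/

set_option linter.style.haveILetI false

open Polynomial IsLocalRing

namespace Groth.Agent.ArSurfX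

variable {A B K : Type*} [CommRing A] [IsDomain A] [UniqueFactorizationMonoid A] [CommRing B] [IsDomain B]
  [UniqueFactorizationMonoid B] [Field K]

/-- The relations of a fraction of coprime elements. -/
theorem mem_span_of_eval_eq_zero (ψ : B →+* K) (hψ : Function.Injective ψ) {a b : B} (ha : a ≠ 0)
    (hab : IsRelPrime a b) (p : B[X]) (hp : p.eval₂ ψ (ψ b / ψ a) = 0) :
    p ∈ Ideal.span {C a * X - C b} := by
  have ha' : ψ a ≠ 0 := fun e => ha (hψ (by rw [e, map_zero]))
  generalize hn : p.natDegree = n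
  replace hn := hn.le
  induction n generalizing p with
  | zero =>
    rw [Polynomial.eq_C_of_natDegree_le_zero hn, eval₂_C] at hp
    rw [Polynomial.eq_C_of_natDegree_le_zero hn, hψ (hp.trans (map_zero ψ).symm), map_zero]
    exact zero_mem _
  | succ n ih =>
    set t := ψ b / ψ a with ht
    have hz : ∑ i ∈ Finset.range (n + 1), p.coeff i * b ^ i * a ^ (n + 1 - i) +
        p.coeff (n + 1) * b ^ (n + 1) = 0 := by
      apply hψ
      have h1 : (∑ i ∈ Finset.range (n + 1 + 1), ψ (p.coeff i) * t ^ i) * ψ a ^ (n + 1) = 0 := by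
        rw [← eval₂_eq_sum_range' ψ (Nat.lt_succ_of_le hn), hp, zero_mul]
      rw [map_zero, ← h1, Finset.sum_mul, Finset.sum_range_succ _ (n + 1), map_add, map_sum]
      congr 1
      · refine Finset.sum_congr rfl fun i hi => ?_
        rw [Finset.mem_range] at hi
        rw [map_mul, map_mul, map_pow, map_pow, ht, div_pow,
          show ψ a ^ (n + 1) = ψ a ^ i * ψ a ^ (n + 1 - i) by rw [← pow_add]; congr 1; omega]
        field_simp
      · rw [map_mul, map_pow, ht, div_pow]
        field_simp
    obtain ⟨c, hc⟩ : a ∣ p.coeff (n + 1) := by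
      refine (hab.pow_right (n := n + 1)).dvd_of_dvd_mul_right ?_
      rw [show p.coeff (n + 1) * b ^ (n + 1) =
        -∑ i ∈ Finset.range (n + 1), p.coeff i * b ^ i * a ^ (n + 1 - i) from eq_neg_of_add_eq_zero_right hz]
      refine (Finset.dvd_sum fun i hi => ?_).neg_right
      rw [Finset.mem_range] at hi
      exact dvd_mul_of_dvd_right (dvd_pow_self a (by omega)) _
    have hgen : (C a * X - C b : B[X]) ∈ Ideal.span {C a * X - C b} := Ideal.mem_span_singleton_self _
    have hq : (C a * X - C b).eval₂ ψ t = 0 := by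
      rw [eval₂_sub, eval₂_mul, eval₂_C, eval₂_X, eval₂_C, ht]
      field_simp
      ring
    rw [show p = (p - C c * X ^ n * (C a * X - C b)) + C c * X ^ n * (C a * X - C b) by ring]
    refine add_mem (ih _ ?_ ?_) (Ideal.mul_mem_left _ _ hgen)
    · rw [eval₂_sub, eval₂_mul, hp, hq, mul_zero, sub_zero]
    · rw [natDegree_le_iff_coeff_eq_zero]
      intro N hN
      have e : C c * X ^ n * (C a * X - C b) = C (c * a) * X ^ (n + 1) - C (c * b) * X ^ n := by
        rw [C_mul, C_mul]; ring
      rw [e, coeff_sub, coeff_sub, coeff_C_mul_X_pow, coeff_C_mul_X_pow, if_neg (ne_of_gt hN), sub_zero]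
      split_ifs with h
      · subst h; rw [hc]; ring
      · rw [coeff_eq_zero_of_natDegree_lt (by omega), sub_zero]

variable [IsLocalRing A] [IsNoetherianRing A] [IsLocalRing B]

/-- The greatest common divisor of the images of the parameters is a unit, unless their quotients are. -/
theorem isUnit_of_common_factor (f : A →+* B) [IsLocalHom f] (hf : Function.Injective f) (ψ : B →+* K)
    (hψ : Function.Injective ψ) (hK : ∀ k : K, ∃ x y : A, y ≠ 0 ∧ k * ψ (f y) = ψ (f x))
    {a b : A} (hm : maximalIdeal A = Ideal.span {a, b}) (ha : a ≠ 0) (hab : IsRelPrime a b)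
    {g a' b' : B} (hga : f a = g * a') (hgb : f b = g * b') (ha' : ¬ IsUnit a') (hb' : ¬ IsUnit b')
    (hrp : IsRelPrime a' b') : IsUnit g := by
  classical
  by_contra hg
  set φ := ψ.comp f
  have hφ : Function.Injective φ := hψ.comp hf
  have hφa : φ a ≠ 0 := fun e => ha (hφ (by rw [e, map_zero]))
  have ha'0 : a' ≠ 0 := fun e => ha (hf (by rw [hga, e, mul_zero, map_zero]))
  have hψa' : ψ a' ≠ 0 := fun e => ha'0 (hψ (by rw [e, map_zero]))
  have hg0 : ψ g ≠ 0 := fun e => hφa (by
    show ψ (f a) = 0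
    rw [hga, map_mul, e, zero_mul])
  set t := φ b / φ a with ht
  have ht' : t = ψ b' / ψ a' := by
    rw [ht, show φ b = ψ g * ψ b' by rw [← map_mul, ← hgb]; rfl,
      show φ a = ψ g * ψ a' by rw [← map_mul, ← hga]; rfl, mul_div_mul_left _ _ hg0]
  -- the chart
  let ev : A[X] →+* K := eval₂RingHom φ t
  let π : A[X] →+* ev.range := ev.rangeRestrict
  let T : Ideal A[X] := Ideal.map C (maximalIdeal A)
  let z : ev.range := π (C a)
  have hker : ∀ p : A[X], π p = 0 → p ∈ T := fun p hp => by
    have h1 : p.eval₂ φ (φ b / φ a) = 0 := congrArg Subtype.val hp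
    refine (Ideal.span_le.2 ?_) (mem_span_of_eval_eq_zero φ hφ ha hab p h1)
    rw [Set.singleton_subset_iff]
    refine sub_mem (Ideal.mul_mem_right _ _ (Ideal.mem_map_of_mem C ?_)) (Ideal.mem_map_of_mem C ?_) <;>
      rw [hm] <;> exact Ideal.subset_span (by simp)
  have hπb : π (C b) = z * π X := by
    refine Subtype.ext ?_
    show (C b).eval₂ φ t = (C a).eval₂ φ t * X.eval₂ φ t
    rw [eval₂_C, eval₂_C, eval₂_X, ht, mul_div_cancel₀ _ hφa]
  have hTz : ∀ p ∈ T, z ∣ π p := by
    intro p hp
    have hle : T ≤ Ideal.comap π (Ideal.span {z}) := by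
      refine Ideal.map_le_iff_le_comap.2 ?_
      rw [hm, Ideal.span_le]
      intro c hc
      simp only [Set.mem_insert_iff, Set.mem_singleton_iff] at hc
      show π (C c) ∈ Ideal.span {z}
      rw [Ideal.mem_span_singleton]
      rcases hc with rfl | rfl
      · exact dvd_rfl
      · rw [hπb]; exact dvd_mul_right _ _
    exact Ideal.mem_span_singleton.1 (hle hp)
  have hzT : ∀ p, z ∣ π p → p ∈ T := by
    rintro p ⟨w, hw⟩
    obtain ⟨q, rfl⟩ := ev.rangeRestrict_surjective w
    have h1 : p - C a * q ∈ T := hker _ (by rw [map_sub, map_mul]; exact sub_eq_zero.2 hw)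
    rw [show p = (p - C a * q) + C a * q by ring]
    exact add_mem h1 (Ideal.mul_mem_right _ _ (Ideal.mem_map_of_mem C (hm ▸ Ideal.subset_span (by simp))))
  have hz0 : z ≠ 0 := fun e => hφa (by
    have := congrArg Subtype.val e
    simpa [z, π, ev] using this)
  have hTprime : T.IsPrime := Ideal.isPrime_map_C_of_isPrime (P := maximalIdeal A)
  have hzprime : Prime z := by
    refine ⟨hz0, fun hu => hTprime.ne_top (T.eq_top_iff_one.2 (hzT 1 (hu.dvd))), fun u v huv => ?_⟩
    obtain ⟨p, rfl⟩ := ev.rangeRestrict_surjective u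
    obtain ⟨q, rfl⟩ := ev.rangeRestrict_surjective v
    have h1 : p * q ∈ T := hzT _ (by rw [map_mul]; exact huv)
    exact (hTprime.mem_or_mem h1).imp (hTz p) (hTz q)
  -- elements of the big chart with coefficients in the maximal ideal
  let InQ : K → Prop := fun k => ∃ q : B[X], q ∈ Ideal.map C (maximalIdeal B) ∧ q.eval₂ ψ t = k
  have hev : ∀ p : A[X], (p.map f).eval₂ ψ t = p.eval₂ φ t := fun p => eval₂_map f ψ t
  have hQz : ∀ w : ev.range, InQ (w : K) → z ∣ w := by
    rintro w ⟨q, hq, hqe⟩
    obtain ⟨p, rfl⟩ := ev.rangeRestrict_surjective w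
    refine hTz p ?_
    have h1 : (p.map f - q).eval₂ ψ t = 0 := by
      rw [eval₂_sub, hev, hqe]; exact sub_self _
    rw [ht'] at h1
    have h2 : p.map f - q ∈ Ideal.map C (maximalIdeal B) := by
      refine (Ideal.span_le.2 ?_) (mem_span_of_eval_eq_zero ψ hψ ha'0 hrp _ h1)
      rw [Set.singleton_subset_iff]
      exact sub_mem (Ideal.mul_mem_right _ _ (Ideal.mem_map_of_mem C ha')) (Ideal.mem_map_of_mem C hb')
    have h3 := add_mem h2 hq
    rw [sub_add_cancel, Ideal.mem_map_C_iff] at h3
    refine Ideal.mem_map_C_iff.2 fun i => ?_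
    have h4 := h3 i
    rw [coeff_map] at h4
    exact fun hu => h4 (hu.map f)
  have hQmul : ∀ (c : B) (w : ev.range), ¬ IsUnit c → InQ (ψ c * (w : K)) := by
    intro c w hc
    obtain ⟨p, rfl⟩ := ev.rangeRestrict_surjective w
    refine ⟨C c * p.map f, Ideal.mul_mem_right _ _ (Ideal.mem_map_of_mem C hc), ?_⟩
    rw [eval₂_mul, eval₂_C, hev]
    rfl
  -- orders along the exceptional divisor
  have hord : ∀ c : B, ¬ IsUnit c → ψ c ≠ 0 → ∃ (d : ℕ) (x y : ev.range), ¬ z ∣ x ∧ ¬ z ∣ y ∧
      ψ c * (y : K) = (z : K) ^ (d + 1) * (x : K) := by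
    intro c hc hc0
    haveI : IsNoetherianRing ev.range := isNoetherianRing_range ev
    haveI : WfDvdMonoid ev.range := IsNoetherianRing.wfDvdMonoid
    obtain ⟨x₀, y₀, hy₀, hk⟩ := hK (ψ c)
    have hy₀' : ψ (f y₀) ≠ 0 := fun e => hy₀ (hφ (by rw [map_zero]; exact e))
    have hval : ∀ r : A, ((π (C r) : ev.range) : K) = ψ (f r) := fun r => eval₂_C φ t
    have hyne : π (C y₀) ≠ 0 := fun e => hy₀' (by rw [← hval, e]; rfl)
    have hxne : π (C x₀) ≠ 0 := fun e => mul_ne_zero hc0 hy₀' (by rw [hk, ← hval, e]; rfl)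
    obtain ⟨i, y, hy, hyi⟩ := WfDvdMonoid.max_power_factor hyne hzprime.irreducible
    obtain ⟨j, x, hx, hxj⟩ := WfDvdMonoid.max_power_factor hxne hzprime.irreducible
    have hzK : (z : K) ≠ 0 := fun e => hz0 (Subtype.ext e)
    have hkey : ψ c * (z : K) ^ i * (y : K) = (z : K) ^ j * (x : K) := by
      rw [mul_assoc, ← SubmonoidClass.coe_pow, ← SubmonoidClass.coe_pow, ← Subring.coe_mul, ← Subring.coe_mul,
        ← hyi, ← hxj, hval, hval, hk]
    rcases Nat.lt_or_ge i j with hij | hij
    · obtain ⟨d, rfl⟩ : ∃ d, j = i + (d + 1) := ⟨j - i - 1, by omega⟩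
      refine ⟨d, x, y, hx, hy, mul_left_cancel₀ (pow_ne_zero i hzK) ?_⟩
      rw [pow_add] at hkey
      linear_combination hkey
    · exfalso
      obtain ⟨e, rfl⟩ : ∃ e, i = j + e := ⟨i - j, by omega⟩
      refine hx (hQz x ?_)
      have h1 : (x : K) = ψ c * ((z ^ e * y : ev.range) : K) := by
        refine mul_left_cancel₀ (pow_ne_zero j hzK) ?_
        rw [Subring.coe_mul, SubmonoidClass.coe_pow]
        rw [pow_add] at hkey
        linear_combination -hkey
      rw [h1]
      exact hQmul c _ hc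
  obtain ⟨d, x, y, hx, hy, hgy⟩ := hord g hg hg0
  obtain ⟨e, x', y', hx', hy', hay⟩ := hord a' ha' hψa'
  have hzK : (z : K) ≠ 0 := fun e => hz0 (Subtype.ext e)
  have h1 : y * y' = z ^ (d + e + 1) * (x * x') := by
    refine Subtype.ext ?_
    rw [Subring.coe_mul, Subring.coe_mul, Subring.coe_mul, SubmonoidClass.coe_pow]
    refine mul_left_cancel₀ hzK ?_
    have hza : (z : K) = ψ g * ψ a' := by
      rw [← map_mul, ← hga]
      exact eval₂_C φ t
    conv_lhs => rw [hza]
    calc ψ g * ψ a' * ((y : K) * y') = (ψ g * y) * (ψ a' * y') := by ring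
      _ = _ := by rw [hgy, hay]; ring
  rcases hzprime.dvd_or_dvd (h1 ▸ dvd_mul_of_dvd_left (dvd_pow_self z (Nat.succ_ne_zero _)) _ :
    z ∣ y * y') with h | h
  · exact hy h
  · exact hy' h

end Groth.Agent.ArSurfX
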