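import Groth.Agent.BlowUpLib.Local
import Groth.Agent.ArSurfX.Quadratic
import Mathlib.RingTheory.IntegralClosure.IntegrallyClosed
import Mathlib.RingTheory.Localization.FractionRing
import Mathlib.RingTheory.Ideal.Quotient.Operations

/-!
# The charts of the blow-up of a point with a two-generated maximal ideal

The chart `A[b/a]` is a normal noetherian domain in which `a` is prime, with residue ring `κ[T]`.
-/

universe u

set_option linter.style.haveILetI false

open Polynomial IsLocalRing

namespace Groth.Agent.ArSurfX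

open Groth.Agent

/-- A noetherian domain with a prime element whose localization away from it is normal is normal. -/
theorem isIntegrallyClosed_of_prime_of_away {B : Type u} [CommRing B] [IsDomain B] [IsNoetherianRing B]
    {z : B} (hz : Prime z) (L : Type u) [CommRing L] [Algebra B L] [IsLocalization.Away z L]
    [IsIntegrallyClosed L] [IsDomain L] : IsIntegrallyClosed B := by
  let K := FractionRing B
  letI : Algebra L K := (IsLocalization.Away.lift z (g := algebraMap B K)
    (isUnit_iff_ne_zero.2 ((map_ne_zero_iff _ (IsFractionRing.injective B K)).2 hz.ne_zero))).toAlgebra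
  haveI : IsScalarTower B L K := IsScalarTower.of_algebraMap_eq' (IsLocalization.lift_comp _).symm
  haveI : IsFractionRing L K :=
    IsFractionRing.isFractionRing_of_isDomain_of_isLocalization (Submonoid.powers z) L K
  refine (isIntegrallyClosed_iff K).2 fun {x} hx => ?_
  obtain ⟨y, rfl⟩ := (IsIntegrallyClosed.isIntegral_iff (R := L) (K := K)).1 hx.tower_top
  obtain ⟨⟨c, ⟨_, n, rfl⟩⟩, hc⟩ := IsLocalization.surj (Submonoid.powers z) y
  clear hc
  obtain ⟨n, c, hc, hmin⟩ : ∃ (n : ℕ) (c : B), algebraMap B L (z ^ n) * y = algebraMap B L c ∧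
      ∀ m c', algebraMap B L (z ^ m) * y = algebraMap B L c' → n ≤ m := by
    classical
    have hex : ∃ m, ∃ c', algebraMap B L (z ^ m) * y = algebraMap B L c' := by
      obtain ⟨⟨c₀, ⟨_, m, rfl⟩⟩, hc₀⟩ := IsLocalization.surj (Submonoid.powers z) y
      exact ⟨m, c₀, by rw [mul_comm]; exact hc₀⟩
    obtain ⟨c, hc⟩ := Nat.find_spec hex
    exact ⟨_, c, hc, fun m c' h => Nat.find_min' hex ⟨c', h⟩⟩
  have hinjL : Function.Injective (algebraMap B L) :=
    IsLocalization.injective L (powers_le_nonZeroDivisors_of_noZeroDivisors hz.ne_zero)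
  rcases Nat.eq_zero_or_pos n with rfl | hn
  · refine ⟨c, ?_⟩
    rw [IsScalarTower.algebraMap_apply B L K, ← hc, pow_zero, map_one, one_mul]
  exfalso
  obtain ⟨p, hp, hpe⟩ := (isIntegral_algHom_iff (IsScalarTower.toAlgHom B L K) (IsFractionRing.injective L K)).1 hx
  have hroot : (p.scaleRoots (z ^ n)).eval₂ (algebraMap B L) (algebraMap B L c) = 0 := by
    rw [← hc]
    exact Polynomial.scaleRoots_eval₂_eq_zero _ hpe
  rw [Polynomial.eval₂_at_apply] at hroot
  have hroot' : (p.scaleRoots (z ^ n)).eval c = 0 := hinjL (hroot.trans (map_zero _).symm)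
  have hdvd : z ∣ c := by
    refine hz.dvd_of_dvd_pow (n := p.natDegree) ?_
    have hsum := (p.scaleRoots (z ^ n)).eval_eq_sum_range c
    rw [hroot', Polynomial.natDegree_scaleRoots, Finset.sum_range_succ,
      Polynomial.coeff_scaleRoots_natDegree, show p.leadingCoeff = 1 from hp, one_mul] at hsum
    rw [eq_neg_of_add_eq_zero_right hsum.symm, dvd_neg]
    refine Finset.dvd_sum fun i hi => ?_
    rw [Finset.mem_range] at hi
    rw [Polynomial.coeff_scaleRoots]
    exact dvd_mul_of_dvd_left (dvd_mul_of_dvd_right (dvd_pow (dvd_pow_self z (by omega)) (by omega)) _) _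
  obtain ⟨d, rfl⟩ := hdvd
  have hu : IsUnit (algebraMap B L z) := IsLocalization.Away.algebraMap_isUnit z
  have h1 := hmin (n - 1) d (hu.mul_right_injective (by
    show algebraMap B L z * (algebraMap B L (z ^ (n - 1)) * y) = algebraMap B L z * algebraMap B L d
    rw [← mul_assoc, ← map_mul, ← pow_succ', Nat.sub_add_cancel hn, hc, map_mul]))
  omega

namespace ChartPoint

variable {A : Type u} [CommRing A] {I : Ideal A} (a b : I)

/-- `A[T] → A[I/a]`, `T ↦ b/a`. -/
noncomputable def π : A[X] →+* BlowUp.affineAlgebra A I (a : A) :=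
  eval₂RingHom (algebraMap A _) (BlowUpLib.frac I b a)

theorem π_C (r : A) : π a b (C r) = algebraMap A _ r := eval₂_C _ _

theorem π_X : π a b X = BlowUpLib.frac I b a := eval₂_X _ _

theorem π_C_b : π a b (C (b : A)) = π a b (C (a : A)) * π a b X := by
  rw [π_C, π_C, π_X, mul_comm]
  exact (BlowUpLib.frac_mul I b a).symm

variable (hI : I = Ideal.span {(a : A), (b : A)})
include hI

theorem π_surjective : Function.Surjective (π a b) := by
  rintro ⟨q, hq⟩
  change q ∈ Algebra.adjoin _ _ at hq
  induction hq using Algebra.adjoin_induction with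
  | mem q hq =>
    obtain ⟨x, hx, rfl⟩ := hq
    obtain ⟨r, s, rfl⟩ := Ideal.mem_span_pair.1 (hI ▸ hx)
    refine ⟨C r + C s * X, Subtype.ext ?_⟩
    rw [map_add, map_mul, π_C, π_C, π_X, BlowUpLib.frac]
    show algebraMap A (Localization.Away (a : A)) r + algebraMap A (Localization.Away (a : A)) s *
      IsLocalization.mk' _ (b : A) _ = _
    rw [eq_comm, IsLocalization.mk'_eq_iff_eq_mul, add_mul, mul_assoc, IsLocalization.mk'_spec, map_add,
      map_mul, map_mul]
  | algebraMap r => exact ⟨C r, π_C a b r⟩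
  | add p q _ _ hp hq =>
    obtain ⟨p', hp'⟩ := hp
    obtain ⟨q', hq'⟩ := hq
    exact ⟨p' + q', by rw [map_add, hp', hq']; rfl⟩
  | mul p q _ _ hp hq =>
    obtain ⟨p', hp'⟩ := hp
    obtain ⟨q', hq'⟩ := hq
    exact ⟨p' * q', by rw [map_mul, hp', hq']; rfl⟩

theorem isNoetherianRing_chart [IsNoetherianRing A] : IsNoetherianRing (BlowUp.affineAlgebra A I (a : A)) :=
  isNoetherianRing_of_surjective _ _ _ (π_surjective a b hI)

omit hI
variable [IsDomain A] (ha : (a : A) ≠ 0)
include ha

theorem isDomain_away : IsDomain (Localization.Away (a : A)) :=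
  IsLocalization.isDomain_localization (powers_le_nonZeroDivisors_of_noZeroDivisors ha)

theorem isDomain_chart : IsDomain (BlowUp.affineAlgebra A I (a : A)) :=
  haveI := isDomain_away a ha
  inferInstance

omit [IsDomain A] ha in
theorem isLocalization_away_chart :
    IsLocalization.Away (algebraMap A (BlowUp.affineAlgebra A I (a : A)) (a : A)) (Localization.Away (a : A)) := by
  refine IsLocalization.Away.mk _ (IsLocalization.Away.algebraMap_isUnit (a : A)) (fun s => ?_) fun x y h => ?_
  · obtain ⟨n, r, hr⟩ := IsLocalization.Away.surj (a : A) s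
    exact ⟨n, algebraMap A _ r, by simpa using hr⟩
  · exact ⟨0, by rw [pow_zero, one_mul, one_mul]; exact Subtype.ext h⟩

variable [UniqueFactorizationMonoid A] (hab : IsRelPrime (a : A) (b : A))
include hab

theorem π_eq_zero {p : A[X]} (hp : π a b p = 0) : p ∈ Ideal.span {C (a : A) * X - C (b : A)} := by
  let K := FractionRing A
  let ι : Localization.Away (a : A) →+* K := IsLocalization.Away.lift (a : A) (g := algebraMap A K)
    (isUnit_iff_ne_zero.2 ((map_ne_zero_iff _ (IsFractionRing.injective A K)).2 ha))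
  let ι' : BlowUp.affineAlgebra A I (a : A) →+* K := ι.comp (BlowUp.affineAlgebra A I (a : A)).val.toRingHom
  have hι : ι'.comp (algebraMap A _) = algebraMap A K := IsLocalization.lift_comp _
  have ht : ι' (BlowUpLib.frac I b a) = algebraMap A K b / algebraMap A K a := by
    rw [eq_div_iff ((map_ne_zero_iff _ (IsFractionRing.injective A K)).2 ha),
      ← RingHom.congr_fun hι, ← RingHom.congr_fun hι]
    exact (map_mul ι' _ _).symm.trans (congrArg ι' (BlowUpLib.frac_mul I b a))
  refine mem_span_of_eval_eq_zero (algebraMap A K) (IsFractionRing.injective A K) ha hab p ?_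
  rw [← ht, ← hι, ← hom_eval₂]
  show ι' (π a b p) = 0
  rw [hp, map_zero]

include hI in
theorem dvd_π_iff (p : A[X]) :
    algebraMap A (BlowUp.affineAlgebra A I (a : A)) (a : A) ∣ π a b p ↔ p ∈ Ideal.map C I := by
  constructor
  · rintro ⟨w, hw⟩
    obtain ⟨q, rfl⟩ := π_surjective a b hI w
    have hIC : C (a : A) * X - C (b : A) ∈ Ideal.map C I :=
      sub_mem (Ideal.mul_mem_right _ _ (Ideal.mem_map_of_mem C a.2)) (Ideal.mem_map_of_mem C b.2)
    have h1 : p - C (a : A) * q ∈ Ideal.map C I :=
      (Ideal.span_le.2 (Set.singleton_subset_iff.2 hIC))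
        (π_eq_zero a b ha hab (by rw [map_sub, map_mul, π_C, hw, sub_self]))
    rw [show p = (p - C (a : A) * q) + C (a : A) * q by ring]
    exact add_mem h1 (Ideal.mul_mem_right _ _ (Ideal.mem_map_of_mem C a.2))
  · intro hp
    have hle : Ideal.map C I ≤ (Ideal.span {algebraMap A _ (a : A)}).comap (π a b) := by
      refine Ideal.map_le_iff_le_comap.2 ?_
      conv_lhs => rw [hI]
      rw [Ideal.span_le]
      rintro c (rfl | rfl) <;> rw [SetLike.mem_coe, Ideal.mem_comap, Ideal.mem_comap]
      · rw [π_C]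
        exact Ideal.mem_span_singleton_self _
      · rw [π_C_b, π_C]
        exact Ideal.mul_mem_right _ _ (Ideal.mem_span_singleton_self _)
    exact Ideal.mem_span_singleton.1 (hle hp)

include hI in
theorem prime_algebraMap [I.IsPrime] : Prime (algebraMap A (BlowUp.affineAlgebra A I (a : A)) (a : A)) := by
  haveI : (Ideal.map C I).IsPrime := Ideal.isPrime_map_C_of_isPrime
  refine ⟨fun e => ha ?_, fun hu => ?_, fun u v huv => ?_⟩
  · exact IsLocalization.injective (Localization.Away (a : A))
      (powers_le_nonZeroDivisors_of_noZeroDivisors ha) ((congrArg Subtype.val e).trans (map_zero _).symm)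
  · have h1 := (dvd_π_iff a b hI ha hab 1).1 (hu.dvd)
    exact ‹(Ideal.map C I).IsPrime›.ne_top ((Ideal.eq_top_iff_one _).2 h1)
  · obtain ⟨p, rfl⟩ := π_surjective a b hI u
    obtain ⟨q, rfl⟩ := π_surjective a b hI v
    rw [← map_mul] at huv
    exact (‹(Ideal.map C I).IsPrime›.mem_or_mem ((dvd_π_iff a b hI ha hab _).1 huv)).imp
      (dvd_π_iff a b hI ha hab p).2 (dvd_π_iff a b hI ha hab q).2

include hI in
theorem isIntegrallyClosed_chart [IsNoetherianRing A] [IsIntegrallyClosed A] [I.IsPrime] :
    IsIntegrallyClosed (BlowUp.affineAlgebra A I (a : A)) := by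
  haveI := isDomain_away a ha
  haveI := isDomain_chart a ha
  haveI := isNoetherianRing_chart a b hI
  haveI := isLocalization_away_chart (I := I) a
  haveI : IsIntegrallyClosed (Localization.Away (a : A)) :=
    isIntegrallyClosed_of_isLocalization _ (Submonoid.powers (a : A))
      (powers_le_nonZeroDivisors_of_noZeroDivisors ha)
  exact isIntegrallyClosed_of_prime_of_away (prime_algebraMap a b hI ha hab) (Localization.Away (a : A))

include hI in
/-- Two primes of the chart over the centre. -/
theorem exists_two_primes [hm : I.IsMaximal] :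
    ∃ P Q : Ideal (BlowUp.affineAlgebra A I (a : A)), P.IsPrime ∧ Q.IsPrime ∧ P ≠ Q ∧
      P.comap (algebraMap A _) = I ∧ Q.comap (algebraMap A _) = I := by
  letI := Ideal.Quotient.field I
  let N : A ⧸ I → Ideal A[X] := fun c => RingHom.ker (eval₂RingHom (Ideal.Quotient.mk I) c)
  have hN : ∀ c, (N c).IsPrime := fun c => RingHom.ker_isPrime _
  have hker : ∀ c, RingHom.ker (π a b) ≤ N c := fun c p hp => by
    refine (Ideal.span_le.2 (Set.singleton_subset_iff.2 ?_)) (π_eq_zero a b ha hab hp)
    show eval₂ (Ideal.Quotient.mk I) c (C (a : A) * X - C (b : A)) = 0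
    rw [eval₂_sub, eval₂_mul, eval₂_C, eval₂_C, Ideal.Quotient.eq_zero_iff_mem.2 a.2,
      Ideal.Quotient.eq_zero_iff_mem.2 b.2, zero_mul, sub_zero]
  have hcomap : ∀ c, ((N c).map (π a b)).comap (π a b) = N c := fun c => by
    rw [Ideal.comap_map_of_surjective _ (π_surjective a b hI), ← RingHom.ker_eq_comap_bot,
      sup_eq_left.2 (hker c)]
  have hC : ∀ c, ((N c).map (π a b)).comap (algebraMap A _) = I := fun c => by
    ext r
    rw [Ideal.mem_comap, ← π_C a b r, ← Ideal.mem_comap, hcomap]
    show eval₂ (Ideal.Quotient.mk I) c (C r) = 0 ↔ _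
    rw [eval₂_C, Ideal.Quotient.eq_zero_iff_mem]
  refine ⟨(N 0).map (π a b), (N 1).map (π a b),
    Ideal.map_isPrime_of_surjective (π_surjective a b hI) (hker 0),
    Ideal.map_isPrime_of_surjective (π_surjective a b hI) (hker 1), fun e => ?_, hC 0, hC 1⟩
  have h1 : (X : A[X]) ∈ N 1 := by
    rw [← hcomap 1, ← e, hcomap 0]
    exact eval₂_X _ _
  exact one_ne_zero ((eval₂_X (Ideal.Quotient.mk I) (1 : A ⧸ I)).symm.trans h1)

end ChartPoint

end Groth.Agent.ArSurfX
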