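import Groth.Agent.H23.P1Graph
import Groth.Agent.BirNormal.Basic
import Groth.Agent.S4808
import Groth.Agent.CpctLib.IsoOpen
import Mathlib.AlgebraicGeometry.ZariskisMainTheorem

/-!
# Factoring through a birational morphism to a normal scheme
-/

universe u

set_option linter.style.haveILetI false
set_option backward.isDefEq.respectTransparency false
set_option backward.isDefEq.respectTransparency.types false

open CategoryTheory CategoryTheory.Limits AlgebraicGeometry TopologicalSpace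

namespace Groth.Agent.ArSurfX

open Groth.Agent

theorem surjective_toImage {X P : Scheme.{u}} (h : X ⟶ P) [UniversallyClosed h] [QuasiCompact h] :
    Function.Surjective h.toImage.base := by
  intro z
  have hz : h.imageι z ∈ closure (Set.range h.base) := by
    rw [← Scheme.Hom.support_ker, ← h.ker.range_subschemeι]
    exact Set.mem_range_self z
  rw [h.isClosedMap.isClosed_range.closure_eq] at hz
  obtain ⟨x, hx⟩ := hz
  refine ⟨x, h.imageι.isClosedEmbedding.injective ?_⟩
  rw [← hx, ← Scheme.Hom.comp_apply, h.toImage_imageι]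

theorem isIso_stalkMap_of_isIso_restrict {X Y : Scheme.{u}} (f : X ⟶ Y) {U : Y.Opens} [IsIso (f ∣_ U)]
    {x : X} (hx : f x ∈ U) : IsIso (f.stalkMap x) :=
  ((MorphismProperty.isomorphisms CommRingCat).arrow_mk_iso_iff
    (morphismRestrictStalkMap f U ⟨x, hx⟩)).1 (inferInstanceAs (IsIso ((f ∣_ U).stalkMap ⟨x, hx⟩)))

theorem subsingleton_preimage_of_isIso_restrict {X Y : Scheme.{u}} (f : X ⟶ Y) {U : Y.Opens}
    [IsIso (f ∣_ U)] {y : Y} (hy : y ∈ U) : (f.base ⁻¹' {y}).Subsingleton := by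
  intro a ha b hb
  have ha' : a ∈ f ⁻¹ᵁ U := by show f.base a ∈ U; rw [ha]; exact hy
  have hb' : b ∈ f ⁻¹ᵁ U := by show f.base b ∈ U; rw [hb]; exact hy
  have h := (f ∣_ U).homeomorph.injective (a₁ := ⟨a, ha'⟩) (a₂ := ⟨b, hb'⟩) (Subtype.ext ((morphismRestrict_base_coe f U ⟨a, ha'⟩).trans ((ha.trans hb.symm).trans (morphismRestrict_base_coe f U ⟨b, hb'⟩).symm)))
  exact congrArg Subtype.val h

/-- A morphism out of the source of a proper birational morphism to a normal scheme descends, provided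
that together they have finite image on every fibre. -/
theorem exists_factor_of_birational {S X Y₁ Y₂ : Scheme.{u}} [IsIntegral X] [IsIntegral Y₁]
    (hnor : ∀ y : Y₁, IsIntegrallyClosed (Y₁.presheaf.stalk y)) (b₁ : Y₁ ⟶ S) (b₂ : Y₂ ⟶ S)
    [IsSeparated b₁] [IsProper b₂] (f₁ : X ⟶ Y₁) (f₂ : X ⟶ Y₂) (e : f₁ ≫ b₁ = f₂ ≫ b₂) [IsProper f₁]
    (hgen : f₁ (genericPoint X) = genericPoint Y₁) (hbir : IsIso (f₁.stalkMap (genericPoint X)))
    (hfin : ∀ y : Y₁, ((pullback.lift f₁ f₂ e).base '' (f₁.base ⁻¹' {y})).Finite) :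
    ∃ g : Y₁ ⟶ Y₂, g ≫ b₂ = b₁ ∧ f₁ ≫ g = f₂ := by
  set h := pullback.lift f₁ f₂ e with hh
  haveI : IsProper (h ≫ pullback.fst b₁ b₂) := by rw [hh, pullback.lift_fst]; infer_instance
  haveI : IsProper h := IsProper.of_comp h (pullback.fst b₁ b₂)
  obtain ⟨hint, hge⟩ := H23.P1Graph.image_integral h
  let p : h.image ⟶ Y₁ := h.imageι ≫ pullback.fst b₁ b₂
  haveI : IsIntegral h.image := hint
  have hp : h.toImage ≫ p = f₁ := by
    show h.toImage ≫ h.imageι ≫ pullback.fst b₁ b₂ = f₁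
    rw [h.toImage_imageι_assoc, hh, pullback.lift_fst]
  have hsurj := surjective_toImage h
  haveI : IsProper p := by
    show IsProper (h.imageι ≫ pullback.fst b₁ b₂)
    infer_instance
  haveI : LocallyQuasiFinite p := by
    refine LocallyQuasiFinite.of_finite_preimage_singleton p fun y => ?_
    refine Set.Finite.of_finite_image ((hfin y).subset ?_) h.imageι.isClosedEmbedding.injective.injOn
    rintro _ ⟨z, hz, rfl⟩
    obtain ⟨x, rfl⟩ := hsurj z
    refine ⟨x, ?_, ?_⟩
    · show f₁.base x = y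
      rw [← hp]; exact hz
    · rw [← Scheme.Hom.comp_apply, h.toImage_imageι]
  haveI : IsFinite p := IsFinite.of_isProper_of_locallyQuasiFinite p
  have hgenZ : genericPoint h.image = h.toImage (genericPoint X) := by
    refine h.imageι.isClosedEmbedding.injective (hge.trans ?_)
    rw [← Scheme.Hom.comp_apply, h.toImage_imageι]
  have hpgen : p (genericPoint h.image) = genericPoint Y₁ := by
    rw [hgenZ, ← Scheme.Hom.comp_apply, hp, hgen]
  have hpbir : IsIso (p.stalkMap (genericPoint h.image)) := by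
    have key : IsIso (p.stalkMap (h.toImage (genericPoint X))) := by
      have h1 : IsIso ((h.toImage ≫ p).stalkMap (genericPoint X)) := by
        rw [Scheme.Hom.stalkMap_congr_hom _ f₁ hp]
        haveI := hbir
        infer_instance
      rw [Scheme.Hom.stalkMap_comp] at h1
      have hb := ConcreteCategory.bijective_of_isIso (p.stalkMap (h.toImage (genericPoint X)) ≫
        h.toImage.stalkMap (genericPoint X))
      rw [ConcreteCategory.isIso_iff_bijective]
      haveI : Nontrivial (X.presheaf.stalk (genericPoint X)) := inferInstance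
      have hi : Function.Injective (h.toImage.stalkMap (genericPoint X)) := by
        letI : Field (h.image.presheaf.stalk (h.toImage (genericPoint X))) :=
          (show IsField (h.image.presheaf.stalk (h.toImage (genericPoint X))) by
            rw [← hgenZ]; exact Field.toIsField h.image.functionField).toField
        exact (h.toImage.stalkMap (genericPoint X)).hom.injective
      refine ⟨fun a b hab => hb.1 ?_, fun c => ?_⟩
      · simp only [CommRingCat.comp_apply, hab]
      · obtain ⟨a, ha⟩ := hb.2 (h.toImage.stalkMap (genericPoint X) c)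
        exact ⟨a, hi (by rw [← ha]; rfl)⟩
    rw [hgenZ]
    exact key
  haveI : IsIso p := S4808.result hnor p hpgen hpbir
  refine ⟨inv p ≫ h.imageι ≫ pullback.snd b₁ b₂, ?_, ?_⟩
  · rw [Category.assoc, Category.assoc, ← pullback.condition, ← Category.assoc h.imageι,
      IsIso.inv_hom_id_assoc]
  · conv_lhs => rw [← hp]
    rw [Category.assoc, IsIso.hom_inv_id_assoc, h.toImage_imageι_assoc, hh, pullback.lift_snd]

/-- A pair of maps from a proper integral scheme over a field, each with one-point image, has one-point image. -/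
theorem subsingleton_range_lift {k : Type u} [Field k] {Γ : Scheme.{u}} [IsIntegral Γ]
    (c : Γ ⟶ Spec (CommRingCat.of k)) [UniversallyClosed c]
    {A : CommRingCat.{u}} {Y₁ Y₂ : Scheme.{u}} (b₁ : Y₁ ⟶ Spec A) (b₂ : Y₂ ⟶ Spec A)
    (q : Γ ⟶ pullback b₁ b₂) {y₁ : Y₁} {y₂ : Y₂}
    (h₁ : Set.range (q ≫ pullback.fst b₁ b₂).base ⊆ {y₁}) (h₂ : Set.range (q ≫ pullback.snd b₁ b₂).base ⊆ {y₂}) :
    (Set.range q.base).Subsingleton := by
  obtain ⟨V₁, hV₁, hy₁⟩ : ∃ V : Y₁.Opens, IsAffineOpen V ∧ y₁ ∈ V := by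
    obtain ⟨_, ⟨V, hV, rfl⟩, hy, -⟩ :=
      Y₁.isBasis_affineOpens.exists_subset_of_mem_open (Set.mem_univ y₁) isOpen_univ
    exact ⟨V, hV, hy⟩
  obtain ⟨V₂, hV₂, hy₂⟩ : ∃ V : Y₂.Opens, IsAffineOpen V ∧ y₂ ∈ V := by
    obtain ⟨_, ⟨V, hV, rfl⟩, hy, -⟩ :=
      Y₂.isBasis_affineOpens.exists_subset_of_mem_open (Set.mem_univ y₂) isOpen_univ
    exact ⟨V, hV, hy⟩
  haveI : IsAffine V₁.toScheme := hV₁
  haveI : IsAffine V₂.toScheme := hV₂
  obtain ⟨g₁, hg₁⟩ := CpctLib.exists_factor V₁ (q ≫ pullback.fst b₁ b₂)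
    fun x => (h₁ (Set.mem_range_self x)).symm ▸ hy₁
  obtain ⟨g₂, hg₂⟩ := CpctLib.exists_factor V₂ (q ≫ pullback.snd b₁ b₂)
    fun x => (h₂ (Set.mem_range_self x)).symm ▸ hy₂
  have hc : g₁ ≫ V₁.ι ≫ b₁ = g₂ ≫ V₂.ι ≫ b₂ := by
    rw [← Category.assoc, hg₁, ← Category.assoc g₂, hg₂, Category.assoc, Category.assoc, pullback.condition]
  let w : Γ ⟶ pullback (V₁.ι ≫ b₁) (V₂.ι ≫ b₂) := pullback.lift g₁ g₂ hc
  let m := pullback.map (V₁.ι ≫ b₁) (V₂.ι ≫ b₂) b₁ b₂ V₁.ι V₂.ι (𝟙 _) (by simp) (by simp)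
  have hq : w ≫ m = q := by
    refine pullback.hom_ext ?_ ?_
    · simp only [w, m, Category.assoc, pullback.lift_fst, pullback.lift_fst_assoc]
      exact hg₁
    · simp only [w, m, Category.assoc, pullback.lift_snd, pullback.lift_snd_assoc]
      exact hg₂
  haveI : IsAffine (pullback (V₁.ι ≫ b₁) (V₂.ι ≫ b₂)) := inferInstance
  letI := (isField_of_universallyClosed k c).toField
  haveI : Subsingleton ↥(Spec Γ(Γ, ⊤)) := inferInstanceAs (Subsingleton (PrimeSpectrum Γ(Γ, ⊤)))
  have hw : w = Γ.toSpecΓ ≫ Spec.map w.appTop ≫ (pullback (V₁.ι ≫ b₁) (V₂.ι ≫ b₂)).isoSpec.inv := by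
    rw [← Scheme.toSpecΓ_naturality_assoc]
    simp [Scheme.isoSpec]
  rintro _ ⟨a, rfl⟩ _ ⟨b, rfl⟩
  rw [← hq, hw]
  simp only [Scheme.Hom.comp_apply]
  rw [Subsingleton.elim (Γ.toSpecΓ.base a) (Γ.toSpecΓ.base b)]

end Groth.Agent.ArSurfX
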