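import Groth.Agent.ArSurfX.InterSum
import Groth.Agent.NumType.Basic
import Mathlib.Data.Rat.Cast.Order

/-!
# The intersection form on the vertical divisors

Negative semi-definiteness, and its kernel when the special fibre is connected.
-/

universe u

set_option linter.style.haveILetI false
set_option backward.isDefEq.respectTransparency false
set_option backward.isDefEq.respectTransparency.types false

open CategoryTheory CategoryTheory.Limits AlgebraicGeometry IsLocalRing

namespace Groth.Agent.ArSurfX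

open Groth.Agent

namespace IsSurf

variable {R : Type u} [CommRing R] [IsDomain R] [IsDiscreteValuationRing R]
  {X : Over (Spec (CommRingCat.of R))} (hX : IsSurf X)
include hX

theorem inter_offDiag_congr (Γ Γ' Δ : ArSurf.VertComp R X) (hΓ : Set.range Γ.ι.base = Set.range Γ'.ι.base)
    (hne : Set.range Γ.ι.base ≠ Set.range Δ.ι.base)
    {L : X.left.Modules} (hL : ClSub.IsInverseOf L (ClSub.idealMod Δ.ι.ker)) :
    ArSurf.inter R X L Γ = ArSurf.inter R X L Γ' := by
  haveI := hX.isProper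
  rw [inter_eq Γ (hX.isEffCartier_ker Δ) (hX.genPtOf_notMem_of_ne Γ Δ hne) hL,
    inter_eq Γ' (hX.isEffCartier_ker Δ) (hX.genPtOf_notMem_of_ne Γ' Δ (hΓ ▸ hne)) hL,
    ker_congr Γ Γ' hΓ]

theorem inter_inverse_congr (Γ Δ Δ' : ArSurf.VertComp R X) (hΔ : Set.range Δ.ι.base = Set.range Δ'.ι.base)
    {L L' : X.left.Modules} (hL : ClSub.IsInverseOf L (ClSub.idealMod Δ.ι.ker))
    (hL' : ClSub.IsInverseOf L' (ClSub.idealMod Δ'.ι.ker)) :
    ArSurf.inter R X L Γ = ArSurf.inter R X L' Γ := by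
  haveI := hX.isProper
  have hI := isInvertible_idealMod (hX.isEffCartier_ker Δ)
  rw [← ker_congr Δ Δ' hΔ] at hL'
  exact inter_congr Γ (isInvertible_of_isInverseOf hI hL) (nonempty_iso_of_isInverseOf hI hL hL').some

/-- Intersection numbers against the components only depend on the supports. -/
theorem inter_component_congr {n : ℕ} {Γ : Fin n → ArSurf.VertComp R X} (hΓ : Models.IsComponentList R X Γ)
    {L : Fin n → X.left.Modules} (hL : ∀ j, ClSub.IsInverseOf (L j) (ClSub.idealMod (Γ j).ι.ker))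
    (Δ : ArSurf.VertComp R X) (i : Fin n) (hi : Set.range (Γ i).ι.base = Set.range Δ.ι.base) (j : Fin n) :
    ArSurf.inter R X (L j) Δ = ArSurf.inter R X (L j) (Γ i) := by
  classical
  have hoff : ∀ j, j ≠ i → ArSurf.inter R X (L j) Δ = ArSurf.inter R X (L j) (Γ i) := fun j hj =>
    hX.inter_offDiag_congr Δ (Γ i) (Γ j) hi.symm (fun h => hj (hΓ.1 (hi.trans h)).symm) (hL j)
  by_cases hji : j = i
  · subst hji
    have h1 := hX.sum_mult_inter hΓ hL Δ
    have h2 := hX.sum_mult_inter hΓ hL (Γ j)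
    rw [← Finset.add_sum_erase _ _ (Finset.mem_univ j)] at h1 h2
    rw [Finset.sum_congr rfl fun k hk => by rw [hoff k (Finset.ne_of_mem_erase hk)]] at h1
    have hm : (Models.mult R X (Γ j) : ℤ) ≠ 0 := by
      exact_mod_cast (hX.mult_pos (Γ j)).ne'
    exact mul_left_cancel₀ hm (by linarith)
  · exact hoff j hji

theorem inter_components_symm {n : ℕ} {Γ : Fin n → ArSurf.VertComp R X} (hΓ : Models.IsComponentList R X Γ)
    {L : Fin n → X.left.Modules} (hL : ∀ j, ClSub.IsInverseOf (L j) (ClSub.idealMod (Γ j).ι.ker)) (i j : Fin n) :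
    ArSurf.inter R X (L j) (Γ i) = ArSurf.inter R X (L i) (Γ j) := by
  rcases hX.inter_symm (Γ i) (Γ j) (hL i) (hL j) with h | h
  · exact h
  · rw [hΓ.1 h]

theorem inter_components_nonneg {n : ℕ} {Γ : Fin n → ArSurf.VertComp R X} (hΓ : Models.IsComponentList R X Γ)
    {L : Fin n → X.left.Modules} (hL : ∀ j, ClSub.IsInverseOf (L j) (ClSub.idealMod (Γ j).ι.ker))
    {i j : Fin n} (h : i ≠ j) : 0 ≤ ArSurf.inter R X (L j) (Γ i) :=
  haveI := hX.isProper
  inter_nonneg (Γ i) (hX.isEffCartier_ker (Γ j)) (hX.genPtOf_notMem_of_ne _ _ fun e => h (hΓ.1 e)) (hL j)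

theorem inter_components_eq_zero_iff {n : ℕ} {Γ : Fin n → ArSurf.VertComp R X}
    (hΓ : Models.IsComponentList R X Γ)
    {L : Fin n → X.left.Modules} (hL : ∀ j, ClSub.IsInverseOf (L j) (ClSub.idealMod (Γ j).ι.ker))
    {i j : Fin n} (h : i ≠ j) :
    ArSurf.inter R X (L j) (Γ i) = 0 ↔ Disjoint (Set.range (Γ i).ι.base) (Set.range (Γ j).ι.base) := by
  haveI := hX.isProper
  rw [inter_eq_zero_iff (Γ i) (hX.isEffCartier_ker (Γ j))
    (hX.genPtOf_notMem_of_ne _ _ fun e => h (hΓ.1 e)) (hL j), support_ker]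

/-- Negative semi-definiteness, with the equality case. -/
theorem form_nonpos {n : ℕ} {Γ : Fin n → ArSurf.VertComp R X} (hΓ : Models.IsComponentList R X Γ)
    {L : Fin n → X.left.Modules} (hL : ∀ j, ClSub.IsInverseOf (L j) (ClSub.idealMod (Γ j).ι.ker))
    (b : Fin n → ℤ) :
    (∑ i, ∑ j, ArSurf.inter R X (L j) (Γ i) * (b i * b j) ≤ 0) ∧
      (∑ i, ∑ j, ArSurf.inter R X (L j) (Γ i) * (b i * b j) = 0 → ∀ i j,
        ArSurf.inter R X (L j) (Γ i) ≠ 0 →
          (b i : ℚ) / Models.mult R X (Γ i) = (b j : ℚ) / Models.mult R X (Γ j)) := by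
  let m : Fin n → ℚ := fun i => Models.mult R X (Γ i)
  have hm : ∀ i, 0 < m i := fun i => Nat.cast_pos.2 (hX.mult_pos (Γ i))
  have key := NumType.quad_nonpos_and_eq (fun i j => ((ArSurf.inter R X (L j) (Γ i) : ℤ) : ℚ))
    (fun i j => by rw [hX.inter_components_symm hΓ hL i j])
    (fun i j h => Int.cast_nonneg (hX.inter_components_nonneg hΓ hL h)) m hm
    (fun i => by
      have h := congrArg (fun z : ℤ => (z : ℚ)) (hX.sum_mult_inter hΓ hL (Γ i))
      push_cast at h
      refine le_of_eq (Eq.trans (Finset.sum_congr rfl fun j _ => ?_) h)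
      exact mul_comm _ _)
    (fun i => (b i : ℚ) / m i)
  have e : ∀ i, m i * ((b i : ℚ) / m i) = b i := fun i => mul_div_cancel₀ _ (hm i).ne'
  simp only [e] at key
  have hc : ∑ i, ∑ j, (ArSurf.inter R X (L j) (Γ i) : ℚ) * ((b i : ℚ) * b j) =
      ((∑ i, ∑ j, ArSurf.inter R X (L j) (Γ i) * (b i * b j) : ℤ) : ℚ) := by push_cast; rfl
  rw [hc] at key
  exact ⟨by exact_mod_cast key.1, fun h i j hij =>
    (key.2 (by exact_mod_cast h)).1 i j (by exact_mod_cast hij)⟩

theorem isComponentList_of_cover {r : ℕ} (Γ : Fin r → ArSurf.VertComp R X)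
    (hdist : Function.Injective fun i => Set.range (Γ i).ι.base)
    (hcov : ∀ x : X.left, X.hom.base x = closedPoint R → ∃ i, x ∈ Set.range (Γ i).ι.base) :
    Models.IsComponentList R X Γ := by
  refine ⟨hdist, Set.Subset.antisymm ?_ ?_⟩
  · rintro _ ⟨i, rfl⟩
    exact hX.range_mem_fibreComponents _
  · intro Z hZ
    obtain ⟨z, rfl, hzs, -⟩ := hX.mem_fibreComponents_elim hZ
    obtain ⟨i, hi⟩ := hcov z hzs
    refine ⟨i, ?_⟩
    have hsub : closure {z} ⊆ Set.range (Γ i).ι.base :=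
      closure_minimal (Set.singleton_subset_iff.2 hi) (isClosed_range _)
    exact Set.Subset.antisymm (hZ.2
      ⟨(hX.range_mem_fibreComponents (Γ i)).1.1, range_subset_specialFibreSet _⟩ hsub) hsub

/-- In a connected special fibre the components are linked by non-zero intersection numbers. -/
theorem connected_components {n : ℕ} {Γ : Fin n → ArSurf.VertComp R X} (hΓ : Models.IsComponentList R X Γ)
    {L : Fin n → X.left.Modules} (hL : ∀ j, ClSub.IsInverseOf (L j) (ClSub.idealMod (Γ j).ι.ker))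
    (hconn : _root_.IsConnected (Models.specialFibreSet R X))
    (I : Finset (Fin n)) (hI : I.Nonempty) (hI' : I ≠ Finset.univ) :
    ∃ i ∈ I, ∃ j ∉ I, ArSurf.inter R X (L j) (Γ i) ≠ 0 := by
  by_contra hall
  push Not at hall
  obtain ⟨i₀, hi₀⟩ := hI
  obtain ⟨j₀, hj₀⟩ : ∃ j, j ∉ I := by
    by_contra h
    push Not at h
    exact hI' (Finset.eq_univ_of_forall h)
  set A := ⋃ i ∈ I, Set.range (Γ i).ι.base
  set B := ⋃ j ∈ {j | j ∉ I}, Set.range (Γ j).ι.base
  have hA : IsClosed A := I.finite_toSet.isClosed_biUnion fun i _ => isClosed_range _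
  have hB : IsClosed B := (Set.toFinite _).isClosed_biUnion fun i _ => isClosed_range _
  have hcov : Models.specialFibreSet R X ⊆ A ∪ B := by
    intro x hx
    obtain ⟨i, hi⟩ := hX.exists_mem_range hΓ hx
    by_cases h : i ∈ I
    · exact Or.inl (Set.mem_biUnion h hi)
    · exact Or.inr (Set.mem_biUnion (s := {j | j ∉ I}) h hi)
  obtain ⟨x, -, hxA, hxB⟩ := isPreconnected_closed_iff.1 hconn.isPreconnected A B hA hB hcov
    ⟨Models.genPtOf R X (Γ i₀), comp_apply_eq_closedPoint _ _,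
      Set.mem_biUnion hi₀ (genPtOf_mem_range _)⟩
    ⟨Models.genPtOf R X (Γ j₀), comp_apply_eq_closedPoint _ _,
      Set.mem_biUnion (s := {j | j ∉ I}) hj₀ (genPtOf_mem_range _)⟩
  obtain ⟨i, hi, hxi⟩ := Set.mem_iUnion₂.1 hxA
  obtain ⟨j, hj, hxj⟩ := Set.mem_iUnion₂.1 hxB
  have hij : i ≠ j := fun e => hj (e ▸ hi)
  exact Set.disjoint_left.1 ((hX.inter_components_eq_zero_iff hΓ hL hij).1 (hall i hi j hj)) hxi hxj

end IsSurf

end Groth.Agent.ArSurfX
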