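import Groth.Agent.GeomField.GlobalFunctions
import Groth.Agent.S1297
import Groth.Prelude.Def_Neron
import Mathlib.AlgebraicGeometry.Geometrically.Irreducible
import Mathlib.AlgebraicGeometry.Geometrically.Connected
import Mathlib.AlgebraicGeometry.Morphisms.Flat

/-!
# Global functions on a proper flat scheme with geometrically integral generic fibre
-/

universe u

set_option linter.style.haveILetI false
set_option backward.isDefEq.respectTransparency false
set_option backward.isDefEq.respectTransparency.types false

open CategoryTheory CategoryTheory.Limits AlgebraicGeometry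

namespace Groth.Agent.ArSurfX

open Groth.Agent

variable {R : Type u} [CommRing R] [IsDomain R] {X : Over (Spec (CommRingCat.of R))}

theorem apply_genericPoint_of_flat [IsIntegral X.left] [Flat X.hom] :
    (X.hom.base (genericPoint X.left)).asIdeal = ⊥ := by
  have hgen : GeneralizingMap X.hom.base := Flat.generalizingMap X.hom
  obtain ⟨z, hz, hz'⟩ := hgen (b := (⟨⊥, Ideal.isPrime_bot⟩ : PrimeSpectrum R)) (a := genericPoint X.left)
    ((PrimeSpectrum.le_iff_specializes (⟨⊥, Ideal.isPrime_bot⟩ : PrimeSpectrum R) _).1 bot_le)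
  have : genericPoint X.left = z := ((genericPoint_specializes z).antisymm hz).eq
  rw [this, hz']

theorem toGlobal_injective [IsIntegral X.left] [Flat X.hom] : Function.Injective (Coh.toGlobal X.hom) := by
  rw [injective_iff_map_eq_zero]
  intro r hr
  by_contra hne
  have hη : genericPoint X.left ∈ X.left.basicOpen (Coh.toGlobal X.hom r) := by
    show genericPoint X.left ∈ X.left.basicOpen (X.hom.app ⊤ ((Scheme.ΓSpecIso (CommRingCat.of R)).inv r))
    rw [← Scheme.preimage_basicOpen, basicOpen_eq_of_affine']
    show _ ∉ (X.hom.base (genericPoint X.left)).asIdeal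
    rw [apply_genericPoint_of_flat, Iso.inv_hom_id_apply]
    exact fun h => hne (Ideal.mem_bot.1 h)
  rw [hr, Scheme.basicOpen_zero] at hη
  exact hη

theorem toGlobal_surjective [IsIntegrallyClosed R] [IsNoetherianRing R] [IsIntegral X.left] [Flat X.hom]
    [IsProper X.hom] [GeometricallyIrreducible ((Neron.genericFibre R).obj X).hom]
    [GeometricallyReduced ((Neron.genericFibre R).obj X).hom] :
    Function.Surjective (Coh.toGlobal X.hom) := by
  set K := FractionRing R
  set g := Neron.genPt R
  set XK := (Neron.genericFibre R).obj X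
  set i : XK.left ⟶ X.left := pullback.fst X.hom g
  letI : XK.left.Over (Spec (CommRingCat.of K)) := ⟨XK.hom⟩
  haveI : IsProper (XK.left ↘ Spec (CommRingCat.of K)) := inferInstanceAs (IsProper (pullback.snd X.hom g))
  haveI : GeometricallyReduced (XK.left ↘ Spec (CommRingCat.of K)) := ‹GeometricallyReduced XK.hom›
  haveI : GeometricallyConnected (XK.left ↘ Spec (CommRingCat.of K)) := by
    rw [geometricallyConnected_iff]
    intro L _ y P fst snd h
    haveI := (‹GeometricallyIrreducible XK.hom›.geometrically_irreducibleSpace y fst snd h : IrreducibleSpace P)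
    infer_instance
  have hone := GeomField.finrank_globalFunctions_eq_one K XK.left
  letI := GeomField.globalAlgebra K XK.left
  haveI : Nontrivial Γ(XK.left, ⊤) := Module.nontrivial_of_finrank_eq_succ hone
  have hbij : Function.Bijective (algebraMap K Γ(XK.left, ⊤)) :=
    ⟨(algebraMap K Γ(XK.left, ⊤)).injective, fun y => by
      obtain ⟨c, hc⟩ := (finrank_eq_one_iff_of_nonzero' (1 : Γ(XK.left, ⊤)) one_ne_zero).1 hone y
      exact ⟨c, by rw [Algebra.algebraMap_eq_smul_one]; exact hc⟩⟩
  have hcompat : ∀ r, i.appTop (Coh.toGlobal X.hom r) = algebraMap K Γ(XK.left, ⊤) (algebraMap R K r) := fun r => by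
    show i.appTop (X.hom.appTop ((Scheme.ΓSpecIso (CommRingCat.of R)).inv r)) =
      XK.hom.appTop ((Scheme.ΓSpecIso (CommRingCat.of K)).inv (algebraMap R K r))
    have e1 := ConcreteCategory.congr_hom (congrArg Scheme.Hom.appTop (pullback.condition (f := X.hom) (g := g)))
      ((Scheme.ΓSpecIso (CommRingCat.of R)).inv r)
    refine e1.trans (congrArg XK.hom.appTop ?_)
    exact (ConcreteCategory.congr_hom
      (Scheme.ΓSpecIso_inv_naturality (CommRingCat.ofHom (algebraMap R K))) r).symm
  have hinj : Function.Injective i.appTop := by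
    rw [injective_iff_map_eq_zero]
    intro b hb
    obtain ⟨q⟩ : Nonempty (Spec (CommRingCat.of K)) := inferInstance
    obtain ⟨w, hw⟩ : genericPoint X.left ∈ Set.range i.base := by
      show genericPoint X.left ∈ Set.range (pullback.fst X.hom g).base
      rw [Scheme.Pullback.range_fst]
      refine ⟨q, PrimeSpectrum.ext ?_⟩
      rw [apply_genericPoint_of_flat]
      show Ideal.comap (algebraMap R K) q.asIdeal = ⊥
      rw [show q.asIdeal = ⊥ from (Ideal.eq_bot_or_top q.asIdeal).resolve_right q.2.ne_top,
        ← RingHom.ker_eq_comap_bot, RingHom.ker_eq_bot_iff_eq_zero]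
      exact fun r hr => IsFractionRing.to_map_eq_zero_iff.1 hr
    by_contra hne
    have hη : genericPoint X.left ∈ X.left.basicOpen b := by
      refine ((genericPoint_spec X.left).mem_open_set_iff (X.left.basicOpen b).2).2 ?_
      rw [Set.univ_inter]
      by_contra hem
      exact hne ((basicOpen_eq_bot_iff b).1 (TopologicalSpace.Opens.ext
        (Set.not_nonempty_iff_eq_empty.1 hem)))
    rw [← hw] at hη
    have : w ∈ i ⁻¹ᵁ X.left.basicOpen b := hη
    rw [Scheme.preimage_basicOpen] at this
    erw [hb, Scheme.basicOpen_zero] at this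
    exact this
  intro b
  obtain ⟨c, hc⟩ := hbij.2 (i.appTop b)
  have hfin : (show R →+* Γ(X.left, ⊤) from Coh.toGlobal X.hom).Finite := (S1297.finite_appTop X.hom).comp
    (RingHom.Finite.of_surjective _
      (ConcreteCategory.bijective_of_isIso (Scheme.ΓSpecIso (CommRingCat.of R)).inv).2)
  obtain ⟨p, hpm, hp⟩ := hfin.to_isIntegral b
  have hcint : _root_.IsIntegral R c := ⟨p, hpm, hbij.1 ?_⟩
  · obtain ⟨r, hr⟩ := (IsIntegrallyClosed.isIntegral_iff (R := R) (K := K)).1 hcint
    exact ⟨r, hinj (by rw [hcompat r, hr, hc])⟩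
  · rw [map_zero, Polynomial.hom_eval₂, hc]
    have h2 := congrArg i.appTop.hom hp
    rw [map_zero, Polynomial.hom_eval₂] at h2
    convert h2 using 2
    exact RingHom.ext fun r => (hcompat r).symm

end Groth.Agent.ArSurfX
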