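import Groth.Agent.SchTop.Closed
import Groth.Prelude.Def_ModelsG
import Mathlib.RingTheory.IntegralClosure.GoingDown
import Mathlib.AlgebraicGeometry.Morphisms.SchemeTheoreticallyDominant
import Mathlib.AlgebraicGeometry.Morphisms.Finite

/-!
# Going down along finite dominant morphisms to normal schemes, and components of special fibres
-/

universe u

set_option linter.style.haveILetI false
set_option backward.isDefEq.respectTransparency false
set_option backward.isDefEq.respectTransparency.types false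

open CategoryTheory CategoryTheory.Limits AlgebraicGeometry TopologicalSpace

namespace Groth.Agent.ArSurfX

open Groth.Agent

theorem isIntegrallyClosed_sections {Y : Scheme.{u}} [IsIntegral Y]
    (hnor : ∀ q : Y, IsIntegrallyClosed (Y.presheaf.stalk q)) {V : Y.Opens} [Nonempty V] (hV : IsAffineOpen V) :
    IsIntegrallyClosed Γ(Y, V) := by
  refine IsIntegrallyClosed.of_localization_maximal fun p _ _ => ?_
  have hx : hV.fromSpec ⟨p, inferInstance⟩ ∈ V := hV.range_fromSpec.subset (Set.mem_range_self _)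
  obtain ⟨e⟩ := SchTop.nonempty_stalk_equiv hV hx
  rw [show hV.primeIdealOf ⟨_, hx⟩ = ⟨p, inferInstance⟩ from
    hV.fromSpec.isOpenEmbedding.injective (hV.fromSpec_primeIdealOf _)] at e
  haveI := hnor (hV.fromSpec ⟨p, inferInstance⟩)
  exact IsIntegrallyClosed.of_equiv e

/-- A finite surjective morphism of integral schemes with normal target is generalizing. -/
theorem generalizingMap_of_finite_normal {X Y : Scheme.{u}} [IsIntegral X] [IsIntegral Y]
    (f : X ⟶ Y) [IsFinite f] [Surjective f] (hnor : ∀ q : Y, IsIntegrallyClosed (Y.presheaf.stalk q)) :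
    GeneralizingMap f.base := by
  intro x z hz
  obtain ⟨_, ⟨V, hV, rfl⟩, hxV, -⟩ :=
    Y.isBasis_affineOpens.exists_subset_of_mem_open (Set.mem_univ (f.base x)) isOpen_univ
  have hzV : z ∈ V := hz.mem_open V.2 hxV
  haveI : Nonempty V := ⟨⟨_, hxV⟩⟩
  have hU : IsAffineOpen (f ⁻¹ᵁ V) := hV.preimage f
  haveI : Nonempty (f ⁻¹ᵁ V) := ⟨⟨x, hxV⟩⟩
  haveI := isIntegrallyClosed_sections hnor hV
  haveI : IsDominant f := ⟨f.surjective.denseRange⟩
  haveI : IsSchemeTheoreticallyDominant f := IsSchemeTheoreticallyDominant.of_isDominant f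
  have hinj : Function.Injective (f.app V) := f.app_injective V
  have hfin : (f.app V).hom.Finite := by
    have h := IsFinite.finite_app (f := f) V hV
    exact h
  letI := (f.app V).hom.toAlgebra
  haveI : Module.Finite Γ(Y, V) Γ(X, f ⁻¹ᵁ V) := hfin
  haveI : FaithfulSMul Γ(Y, V) Γ(X, f ⁻¹ᵁ V) := (faithfulSMul_iff_algebraMap_injective _ _).2 hinj
  haveI : IsDomain Γ(X, f ⁻¹ᵁ V) := inferInstance
  have hgen : GeneralizingMap (PrimeSpectrum.comap (algebraMap Γ(Y, V) Γ(X, f ⁻¹ᵁ V))) :=
    Algebra.HasGoingDown.iff_generalizingMap_primeSpectrumComap.1 inferInstance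
  have hcomp : ∀ q, f.base (hU.fromSpec q) =
      hV.fromSpec (PrimeSpectrum.comap (algebraMap Γ(Y, V) Γ(X, f ⁻¹ᵁ V)) q) := fun q => by
    rw [← Scheme.Hom.comp_apply, ← IsAffineOpen.SpecMap_appLE_fromSpec f hV hU le_rfl,
      Scheme.Hom.appLE_eq_app]
    rfl
  set p := hU.primeIdealOf ⟨x, hxV⟩
  have hp : hU.fromSpec p = x := hU.fromSpec_primeIdealOf _
  set p' := hV.primeIdealOf ⟨z, hzV⟩
  have hp' : hV.fromSpec p' = z := hV.fromSpec_primeIdealOf _
  have hs : p' ⤳ PrimeSpectrum.comap (algebraMap Γ(Y, V) Γ(X, f ⁻¹ᵁ V)) p := by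
    refine hV.fromSpec.isOpenEmbedding.isInducing.specializes_iff.1 ?_
    rw [hp', ← hcomp, hp]
    exact hz
  obtain ⟨q, hq, hq'⟩ := hgen hs
  refine ⟨hU.fromSpec q, ?_, ?_⟩
  · rw [← hp]
    exact hq.map hU.fromSpec.continuous
  · rw [hcomp, hq', hp']

/-- No two distinct points of a fibre of a finite morphism specialize to one another. -/
theorem eq_of_specializes_of_finite {X Y : Scheme.{u}} (f : X ⟶ Y) [IsFinite f] {a b : X} (h : a ⤳ b)
    (e : f.base a = f.base b) : a = b := by
  obtain ⟨_, ⟨V, hV, rfl⟩, hbV, -⟩ :=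
    Y.isBasis_affineOpens.exists_subset_of_mem_open (Set.mem_univ (f.base b)) isOpen_univ
  have hU : IsAffineOpen (f ⁻¹ᵁ V) := hV.preimage f
  have haV : a ∈ f ⁻¹ᵁ V := h.mem_open (f ⁻¹ᵁ V).2 hbV
  letI := (f.app V).hom.toAlgebra
  haveI : Module.Finite Γ(Y, V) Γ(X, f ⁻¹ᵁ V) := IsFinite.finite_app (f := f) V hV
  have hcomp : ∀ q, f.base (hU.fromSpec q) =
      hV.fromSpec (PrimeSpectrum.comap (algebraMap Γ(Y, V) Γ(X, f ⁻¹ᵁ V)) q) := fun q => by
    rw [← Scheme.Hom.comp_apply, ← IsAffineOpen.SpecMap_appLE_fromSpec f hV hU le_rfl,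
      Scheme.Hom.appLE_eq_app]
    rfl
  set pa := hU.primeIdealOf ⟨a, haV⟩
  set pb := hU.primeIdealOf ⟨b, hbV⟩
  have ha : hU.fromSpec pa = a := hU.fromSpec_primeIdealOf _
  have hb : hU.fromSpec pb = b := hU.fromSpec_primeIdealOf _
  have hle : pa.asIdeal ≤ pb.asIdeal := (PrimeSpectrum.le_iff_specializes pa pb).2
    (hU.fromSpec.isOpenEmbedding.isInducing.specializes_iff.1 (by rw [ha, hb]; exact h))
  have hsame := hV.fromSpec.isOpenEmbedding.injective
    ((hcomp pa).symm.trans ((by rw [ha, hb, e] : f.base (hU.fromSpec pa) = f.base (hU.fromSpec pb)).trans (hcomp pb)))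
  rw [← ha, ← hb]
  congr 1
  by_contra hne
  have hlt : pa.asIdeal < pb.asIdeal := lt_of_le_of_ne hle fun e' => hne (PrimeSpectrum.ext e')
  exact (Ideal.IsIntegral.comap_lt_comap (R := Γ(Y, V)) hlt).ne (congrArg PrimeSpectrum.asIdeal hsame)

section Count

variable {R : Type u} [CommRing R] [IsDomain R] [IsDiscreteValuationRing R]

theorem finite_fibreComponents_of_noetherian (X : Over (Spec (CommRingCat.of R))) [IsNoetherian X.left] :
    (Models.fibreComponents R X).Finite := by
  obtain ⟨S, hS, hSc, hSi, hSU⟩ := TopologicalSpace.NoetherianSpace.exists_finite_set_isClosed_irreducible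
    (Models.isClosed_specialFibreSet R X)
  refine hS.subset fun Z hZ => ?_
  lift S to Finset (Set X.left) using hS
  obtain ⟨t, ht, hZt⟩ := isIrreducible_iff_sUnion_isClosed.1 hZ.1.1 S hSc (hSU ▸ hZ.1.2)
  rwa [hZt.antisymm (hZ.2 ⟨hSi _ ht, hSU ▸ Set.subset_sUnion_of_mem ht⟩ hZt)]

theorem exists_genericPoint_component {X : Over (Spec (CommRingCat.of R))} {Z : Set X.left}
    (hZ : Z ∈ Models.fibreComponents R X) :
    ∃ z, Z = closure {z} ∧ z ∈ Models.specialFibreSet R X ∧
      ∀ w ∈ Models.specialFibreSet R X, w ⤳ z → w = z := by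
  obtain ⟨⟨hirr, hsub⟩, hmax⟩ := hZ
  have hsub' : closure Z ⊆ Models.specialFibreSet R X :=
    closure_minimal hsub (Models.isClosed_specialFibreSet R X)
  have hZc : closure Z = Z := Set.Subset.antisymm (hmax ⟨hirr.closure, hsub'⟩ subset_closure) subset_closure
  have hg := hirr.isGenericPoint_genericPoint_closure
  rw [hZc] at hg
  refine ⟨hirr.genericPoint, hg.def.symm, hsub hg.mem, fun w hw hwz => ?_⟩
  have hle : Z ⊆ closure {w} := hg.def ▸
    closure_minimal (Set.singleton_subset_iff.2 hwz.mem_closure) isClosed_closure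
  have heq : closure {w} ⊆ Z := hmax ⟨isIrreducible_singleton.closure,
    closure_minimal (Set.singleton_subset_iff.2 hw) (Models.isClosed_specialFibreSet R X)⟩ hle
  exact ((hg.specializes (heq (subset_closure rfl))).antisymm hwz).symm.eq

theorem closure_mem_fibreComponents {X : Over (Spec (CommRingCat.of R))} {w : X.left}
    (hw : w ∈ Models.specialFibreSet R X)
    (hmax : ∀ w' ∈ Models.specialFibreSet R X, w' ⤳ w → w' = w) :
    closure {w} ∈ Models.fibreComponents R X := by
  refine ⟨⟨isIrreducible_singleton.closure,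
    closure_minimal (Set.singleton_subset_iff.2 hw) (Models.isClosed_specialFibreSet R X)⟩, fun S hS hle => ?_⟩
  obtain ⟨hirr, hsub⟩ := hS
  have hg := hirr.isGenericPoint_genericPoint_closure
  have h1 := hmax hirr.genericPoint
    ((closure_minimal hsub (Models.isClosed_specialFibreSet R X)) hg.mem)
    (hg.specializes (subset_closure (hle (subset_closure rfl))))
  show S ⊆ closure {w}
  rw [← h1, hg.def]
  exact subset_closure

/-- A finite surjection onto a normal scheme does not decrease the number of components through a point. -/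
theorem ncard_components_le {X Y : Over (Spec (CommRingCat.of R))} [IsIntegral X.left] [IsIntegral Y.left]
    [IsNoetherian X.left] (hnor : ∀ q : Y.left, IsIntegrallyClosed (Y.left.presheaf.stalk q))
    (f : X ⟶ Y) [IsFinite f.left] [Surjective f.left] (x : X.left) :
    {Z : Set Y.left | Z ∈ Models.fibreComponents R Y ∧ f.left.base x ∈ Z}.ncard ≤
      {Z : Set X.left | Z ∈ Models.fibreComponents R X ∧ x ∈ Z}.ncard := by
  classical
  have hgen := generalizingMap_of_finite_normal f.left hnor
  have hmem : ∀ w, w ∈ Models.specialFibreSet R X ↔ f.left.base w ∈ Models.specialFibreSet R Y := fun w => by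
    show X.hom.base w = _ ↔ Y.hom.base (f.left.base w) = _
    rw [← Scheme.Hom.comp_apply, Over.w f]
  let g : Set X.left → Set Y.left := fun Z => closure (f.left.base '' Z)
  refine le_trans (Set.ncard_le_ncard ?_ (((finite_fibreComponents_of_noetherian X).subset fun Z h => h.1).image g))
    (Set.ncard_image_le ((finite_fibreComponents_of_noetherian X).subset fun Z h => h.1))
  rintro Z ⟨hZ, hxZ⟩
  obtain ⟨z, rfl, hzs, hzmax⟩ := exists_genericPoint_component hZ
  obtain ⟨w, hwx, hwz⟩ := hgen (specializes_iff_mem_closure.2 hxZ : z ⤳ f.left.base x)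
  have hws : w ∈ Models.specialFibreSet R X := (hmem w).2 (hwz ▸ hzs)
  refine ⟨closure {w}, ⟨closure_mem_fibreComponents hws fun w' hw' h => ?_, hwx.mem_closure⟩, ?_⟩
  · have h1 := hzmax (f.left.base w') ((hmem w').1 hw') (hwz ▸ h.map f.left.continuous)
    exact eq_of_specializes_of_finite f.left h (h1.trans hwz.symm)
  · show closure (f.left.base '' closure {w}) = closure {z}
    refine le_antisymm (closure_minimal ?_ isClosed_closure) (closure_mono ?_)
    · rintro _ ⟨a, ha, rfl⟩
      exact ((specializes_iff_mem_closure.2 ha).map f.left.continuous).mem_closure |> fun h => by rwa [hwz] at h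
    · exact Set.singleton_subset_iff.2 ⟨w, subset_closure rfl, hwz⟩

end Count

end Groth.Agent.ArSurfX
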