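import Groth.Agent.ArSurfX.Surf

/-!
# One-dimensional closed subsets of a surface over a Dedekind domain
-/

universe u

set_option linter.style.haveILetI false
set_option backward.isDefEq.respectTransparency false
set_option backward.isDefEq.respectTransparency.types false

open CategoryTheory CategoryTheory.Limits AlgebraicGeometry Order

namespace Groth.Agent.ArSurfX

open Groth.Agent

theorem not_four_chain {X : Scheme.{u}} (hdim : topologicalKrullDim X = 2) {a b c d : X}
    (h1 : a < b) (h2 : b < c) (h3 : c < d) : False := by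
  have h := Order.coheight_le_krullDim a
  rw [← Order.krullDim_eq_of_orderIso (irreducibleSetEquivPoints (α := X)),
    ← topologicalKrullDim, hdim] at h
  have ha := Order.coheight_add_one_le h1
  have hb := Order.coheight_add_one_le h2
  have hc := Order.coheight_add_one_le h3
  have h4 : (3 : ℕ∞) ≤ coheight a :=
    calc (3 : ℕ∞) = 0 + 1 + 1 + 1 := by norm_num
      _ ≤ coheight d + 1 + 1 + 1 := by gcongr; exact zero_le
      _ ≤ coheight c + 1 + 1 := by gcongr
      _ ≤ coheight b + 1 := by gcongr
      _ ≤ coheight a := ha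
  have h5 : ((3 : ℕ∞) : WithBot ℕ∞) ≤ 2 := (WithBot.coe_le_coe.2 h4).trans h
  rw [show (2 : WithBot ℕ∞) = ((2 : ℕ∞) : WithBot ℕ∞) from rfl, WithBot.coe_le_coe] at h5
  norm_num at h5

theorem lt_of_specializes {X : Scheme.{u}} {a b : X} (h : b ⤳ a) (hne : a ≠ b) : a < b :=
  lt_iff_le_not_ge.2 ⟨h, fun h' => hne ((Specializes.antisymm h' h).eq)⟩

theorem vertical_or_horizontal {R : Type u} [CommRing R] [IsDedekindDomain R] (hR : ¬ IsField R)
    (X : Over (Spec (CommRingCat.of R))) [IsIntegral X.left] [Flat X.hom] [UniversallyClosed X.hom]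
    (hdim : topologicalKrullDim X.left = 2)
    (D : Set X.left) (hD : IsClosed D) (hirr : IsIrreducible D) (hD1 : topologicalKrullDim D = 1) :
    (∃ s : (Spec (CommRingCat.of R) : Scheme.{u}), s.asIdeal.IsMaximal ∧ D ⊆ X.hom.base ⁻¹' {s} ∧
        ∀ D' : Set X.left, IsIrreducible D' → D' ⊆ X.hom.base ⁻¹' {s} → D ⊆ D' → D' = D) ∨
      (∃ x : X.left, (X.hom.base x).asIdeal = ⊥ ∧
        (∀ z : X.left, (X.hom.base z).asIdeal = ⊥ → x ⤳ z → z = x) ∧ D = closure {x}) := by
  set ξ := hirr.genericPoint
  have hg := hirr.isGenericPoint_genericPoint_closure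
  rw [hD.closure_eq] at hg
  set η := genericPoint X.left
  have hη : (X.hom.base η).asIdeal = ⊥ := by
    have hgen : GeneralizingMap X.hom.base := Flat.generalizingMap X.hom
    obtain ⟨z, hz, hz'⟩ := hgen (b := (⟨⊥, Ideal.isPrime_bot⟩ : PrimeSpectrum R)) (a := η)
      ((PrimeSpectrum.le_iff_specializes (⟨⊥, Ideal.isPrime_bot⟩ : PrimeSpectrum R) _).1 bot_le)
    have : η = z := ((genericPoint_specializes z).antisymm hz).eq
    rw [this, hz']
  obtain ⟨p, hp, hpξ⟩ : ∃ p ∈ D, p ≠ ξ := by
    by_contra hall
    push Not at hall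
    haveI : Subsingleton D := ⟨fun a b => Subtype.ext ((hall a a.2).trans (hall b b.2).symm)⟩
    haveI : Subsingleton (TopologicalSpace.IrreducibleCloseds D) := ⟨fun A B =>
      TopologicalSpace.IrreducibleCloseds.ext (Subsingleton.eq_univ_of_nonempty A.isIrreducible'.nonempty |>.trans
        (Subsingleton.eq_univ_of_nonempty B.isIrreducible'.nonempty).symm)⟩
    have := Order.krullDim_nonpos_of_subsingleton (α := TopologicalSpace.IrreducibleCloseds D)
    change topologicalKrullDim D ≤ 0 at this
    rw [hD1] at this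
    norm_num at this
  have hpξ' : p < ξ := lt_of_specializes (hg.specializes hp) hpξ
  by_cases hb : (X.hom.base ξ).asIdeal = ⊥
  · right
    refine ⟨ξ, hb, fun z hzb hz => ?_, hg.def.symm⟩
    by_contra hne
    have hξη : ξ ≠ η := fun e => by
      have hDuniv : D = Set.univ := by
        rw [← hg.def, show hirr.genericPoint = η from e]; exact (genericPoint_spec X.left).def
      rw [hDuniv, IsHomeomorph.topologicalKrullDim_eq _ (Homeomorph.Set.univ X.left).isHomeomorph, hdim] at hD1
      norm_num at hD1
    obtain ⟨q, hq, hqz⟩ : ∃ q : X.left, (X.hom.base q).asIdeal ≠ ⊥ ∧ z ⤳ q := by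
      obtain ⟨m, hm⟩ := Ideal.exists_maximal R
      have hcl : IsClosed (X.hom.base '' closure {z}) := X.hom.isClosedMap _ isClosed_closure
      have hzm : X.hom.base z ⤳ (⟨m, hm.isPrime⟩ : PrimeSpectrum R) :=
        (PrimeSpectrum.le_iff_specializes (X.hom.base z : PrimeSpectrum R) _).1 (hzb.trans_le bot_le)
      obtain ⟨q, hq, hqm⟩ := hzm.mem_closed hcl (Set.mem_image_of_mem _ (subset_closure rfl))
      refine ⟨q, ?_, specializes_iff_mem_closure.2 hq⟩
      rw [hqm]
      exact Ring.ne_bot_of_isMaximal_of_not_isField hm hR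
    exact not_four_chain hdim (lt_of_specializes hqz fun e => hq (e ▸ hzb)) (lt_of_specializes hz hne)
      (lt_of_specializes (genericPoint_specializes ξ) hξη)
  · left
    refine ⟨X.hom.base ξ, (X.hom.base ξ).2.isMaximal hb, fun y hy => ?_, fun D' hD' hsub hle => ?_⟩
    · have hs : IsClosed ({X.hom.base ξ} : Set (Spec (CommRingCat.of R))) :=
        (PrimeSpectrum.isClosed_singleton_iff_isMaximal _).2 ((X.hom.base ξ).2.isMaximal hb)
      exact ((hg.specializes hy).map X.hom.continuous).mem_closed hs rfl
    · have hg' := hD'.isGenericPoint_genericPoint_closure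
      set ξ' := hD'.genericPoint
      have hs : IsClosed ({X.hom.base ξ} : Set (Spec (CommRingCat.of R))) :=
        (PrimeSpectrum.isClosed_singleton_iff_isMaximal _).2 ((X.hom.base ξ).2.isMaximal hb)
      have hξ' : X.hom.base ξ' = X.hom.base ξ :=
        (closure_minimal hsub (hs.preimage X.hom.continuous)) hg'.mem
      have hsp : ξ' ⤳ ξ := hg'.specializes (subset_closure (hle hg.mem))
      rcases eq_or_ne ξ ξ' with e | hne
      · refine Set.Subset.antisymm ?_ hle
        rw [← hg.def, show hirr.genericPoint = ξ' from e, hg'.def]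
        exact subset_closure
      · exfalso
        refine not_four_chain hdim hpξ' (lt_of_specializes hsp hne)
          (lt_of_specializes (genericPoint_specializes ξ') fun e => hb ?_)
        rw [← hξ', e]
        exact hη

end Groth.Agent.ArSurfX
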