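import Groth.Agent.ArSurfX.Inter
import Groth.Agent.GeomField.GlobalFunctions
import Groth.Agent.S0002

/-!
# Positivity and linearity of intersection numbers
-/

universe u

set_option linter.style.haveILetI false
set_option backward.isDefEq.respectTransparency false
set_option backward.isDefEq.respectTransparency.types false

open CategoryTheory CategoryTheory.Limits AlgebraicGeometry IsLocalRing

namespace Groth.Agent.ArSurfX

open Groth.Agent

theorem finrank_HH_quotMod_eq_zero_iff (k : Type u) [Field k] (Y : Scheme.{u})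
    [Y.Over (Spec (CommRingCat.of k))] [IsProper (Y ↘ Spec (CommRingCat.of k))] (E : Y.IdealSheafData) :
    Module.finrank k (Coh.HH Y (ClSub.quotMod E) 0) = 0 ↔ (E.support : Set Y) = ∅ := by
  letI : E.subscheme.Over (Spec (CommRingCat.of k)) := ⟨E.subschemeι ≫ (Y ↘ Spec (CommRingCat.of k))⟩
  haveI : IsProper (E.subscheme ↘ Spec (CommRingCat.of k)) :=
    inferInstanceAs (IsProper (E.subschemeι ≫ _))
  haveI : IsLocallyNoetherian E.subscheme :=
    LocallyOfFiniteType.isLocallyNoetherian (E.subscheme ↘ Spec (CommRingCat.of k))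
  obtain ⟨e⟩ := QCoh.HH_push_linear E.subschemeι (Coh.toGlobal (Y ↘ Spec (CommRingCat.of k)))
    (Coh.toGlobal (E.subscheme ↘ Spec (CommRingCat.of k))) (fun _ => rfl)
    (QCoh.isQCoh_structureModule (X := E.subscheme)) 0
  haveI := Groth.Agent.S0002.result k E.subscheme (Coh.structureModule E.subscheme)
    QCoh.isCoh_structureModule' 0
  have h1 : Module.finrank k (Coh.HH Y (ClSub.quotMod E) 0) =
      Module.finrank k (Coh.HH E.subscheme (Coh.structureModule E.subscheme) 0) := e.finrank_eq.symm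
  rw [h1, Module.finrank_zero_iff, (Sheaf.H.equiv₀ (Coh.toAb (Coh.structureModule E.subscheme))
      isTerminalTop).toEquiv.subsingleton_congr]
  change Subsingleton Γ(E.subscheme, ⊤) ↔ _
  rw [← E.range_subschemeι, Set.range_eq_empty_iff]
  constructor
  · intro h
    refine ⟨fun z => ?_⟩
    haveI : Nonempty (⊤ : E.subscheme.Opens) := ⟨⟨z, trivial⟩⟩
    exact false_of_nontrivial_of_subsingleton Γ(E.subscheme, ⊤)
  · intro h
    haveI := h
    rw [show (⊤ : E.subscheme.Opens) = ⊥ from TopologicalSpace.Opens.ext (Set.ext fun z => isEmptyElim z)]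
    infer_instance

section

variable {R : Type u} [CommRing R] [IsDomain R] [IsDiscreteValuationRing R]
  {X : Over (Spec (CommRingCat.of R))} (Γ : ArSurf.VertComp R X)

theorem inter_nonneg [IsProper X.hom] {D : X.left.IdealSheafData} (hD : BlowUp.IsEffCartierIdeal D)
    (hΓD : Models.genPtOf R X Γ ∉ (D.support : Set X.left)) {L : X.left.Modules}
    (hL : ClSub.IsInverseOf L (ClSub.idealMod D)) : 0 ≤ ArSurf.inter R X L Γ := by
  rw [inter_eq_finrank Γ hD hΓD hL]
  exact Int.natCast_nonneg _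

theorem inter_eq_zero_iff [IsProper X.hom] {D : X.left.IdealSheafData} (hD : BlowUp.IsEffCartierIdeal D)
    (hΓD : Models.genPtOf R X Γ ∉ (D.support : Set X.left)) {L : X.left.Modules}
    (hL : ClSub.IsInverseOf L (ClSub.idealMod D)) :
    ArSurf.inter R X L Γ = 0 ↔ Disjoint (Set.range Γ.ι.base) (D.support : Set X.left) := by
  haveI : IsProper (Γ.curve.left ↘ Spec (CommRingCat.of (ResidueField R))) := isProper_curve Γ
  rw [inter_eq_finrank Γ hD hΓD hL, Nat.cast_eq_zero, finrank_HH_quotMod_eq_zero_iff,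
    Scheme.IdealSheafData.support_comap, TopologicalSpace.Closeds.coe_preimage,
    Set.preimage_eq_empty_iff, disjoint_comm]

theorem exists_inverse_pow [IsProper X.hom] {D : X.left.IdealSheafData} (hD : BlowUp.IsEffCartierIdeal D)
    {L : X.left.Modules} (hL : ClSub.IsInverseOf L (ClSub.idealMod D)) :
    ∀ m : ℕ, ∃ M : X.left.Modules, PicF.IsInvertible M ∧ ClSub.IsInverseOf M (ClSub.idealMod (D ^ m)) ∧
      ArSurf.inter R X M Γ = m * ArSurf.inter R X L Γ
  | 0 => by
    obtain ⟨e⟩ := nonempty_idealMod_one (X := X.left)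
    refine ⟨Coh.structureModule X.left, InvX.isInvertible_structureModule, ?_, by
      rw [inter_structureModule]; simp⟩
    rw [pow_zero]
    exact isInverseOf_of_iso e (H23.PicMul.unit (Coh.structureModule X.left))
  | m + 1 => by
    obtain ⟨M, hM, hMi, hMv⟩ := exists_inverse_pow hD hL m
    have hLv := isInvertible_of_isInverseOf (isInvertible_idealMod hD) hL
    obtain ⟨e⟩ := nonempty_idealMod_mul (isEffCartier_pow hD m) hD
    refine ⟨CohB1.tensorMod M L, H23.PicMul.isInvertible_tensor hM hLv, ?_, ?_⟩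
    · rw [pow_succ]
      exact isInverseOf_of_iso e (isInverseOf_tensor hMi hL)
    · rw [inter_tensor Γ hM hLv, hMv]
      push_cast
      ring

theorem exists_inverse_prod [IsProper X.hom] {ι : Type*} (s : Finset ι) (D : ι → X.left.IdealSheafData)
    (hD : ∀ i, BlowUp.IsEffCartierIdeal (D i)) (L : ι → X.left.Modules)
    (hL : ∀ i, ClSub.IsInverseOf (L i) (ClSub.idealMod (D i))) (m : ι → ℕ) :
    ∃ M : X.left.Modules, PicF.IsInvertible M ∧
      ClSub.IsInverseOf M (ClSub.idealMod (∏ i ∈ s, D i ^ m i)) ∧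
      ArSurf.inter R X M Γ = ∑ i ∈ s, (m i : ℤ) * ArSurf.inter R X (L i) Γ := by
  classical
  induction s using Finset.induction_on with
  | empty =>
    obtain ⟨e⟩ := nonempty_idealMod_one (X := X.left)
    refine ⟨Coh.structureModule X.left, InvX.isInvertible_structureModule, ?_, by
      rw [inter_structureModule]; simp⟩
    rw [Finset.prod_empty]
    exact isInverseOf_of_iso e (H23.PicMul.unit (Coh.structureModule X.left))
  | @insert a s ha ih =>
    obtain ⟨M, hM, hMi, hMv⟩ := ih
    obtain ⟨N, hN, hNi, hNv⟩ := exists_inverse_pow Γ (hD a) (hL a) (m a)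
    obtain ⟨e⟩ := nonempty_idealMod_mul (isEffCartier_pow (hD a) (m a))
      (isEffCartier_prod s (fun i => D i ^ m i) fun i _ => isEffCartier_pow (hD i) _)
    refine ⟨CohB1.tensorMod N M, H23.PicMul.isInvertible_tensor hN hM, ?_, ?_⟩
    · rw [Finset.prod_insert ha]
      exact isInverseOf_of_iso e (isInverseOf_tensor hNi hMi)
    · rw [inter_tensor Γ hN hM, hMv, hNv, Finset.sum_insert ha]

end

namespace IsSurf

variable {R : Type u} [CommRing R] [IsDomain R] [IsDiscreteValuationRing R]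
  {X : Over (Spec (CommRingCat.of R))} (hX : IsSurf X)
include hX

theorem genPtOf_notMem_of_ne (Γ Δ : ArSurf.VertComp R X) (hne : Set.range Γ.ι.base ≠ Set.range Δ.ι.base) :
    Models.genPtOf R X Γ ∉ (Δ.ι.ker.support : Set X.left) := by
  rw [support_ker]
  intro hmem
  have h1 : Models.genPtOf R X Δ ⤳ Models.genPtOf R X Γ := by
    rw [specializes_iff_mem_closure, closure_genPtOf]; exact hmem
  have h := hX.eq_of_specializes_genPtOf Γ (comp_apply_eq_closedPoint Δ _) h1
  refine hne ?_
  rw [← closure_genPtOf Γ, ← closure_genPtOf Δ, ← show Models.genPtOf R X Δ = Models.genPtOf R X Γ from h]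

theorem inter_symm (Γ₁ Γ₂ : ArSurf.VertComp R X) {L₁ L₂ : X.left.Modules}
    (h₁ : ClSub.IsInverseOf L₁ (ClSub.idealMod Γ₁.ι.ker)) (h₂ : ClSub.IsInverseOf L₂ (ClSub.idealMod Γ₂.ι.ker)) :
    ArSurf.inter R X L₂ Γ₁ = ArSurf.inter R X L₁ Γ₂ ∨ Set.range Γ₁.ι.base = Set.range Γ₂.ι.base := by
  haveI := hX.isProper
  by_cases hne : Set.range Γ₁.ι.base = Set.range Γ₂.ι.base
  · exact Or.inr hne
  refine Or.inl ?_
  rw [inter_eq Γ₁ (hX.isEffCartier_ker Γ₂) (hX.genPtOf_notMem_of_ne Γ₁ Γ₂ hne) h₂,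
    inter_eq Γ₂ (hX.isEffCartier_ker Γ₁) (hX.genPtOf_notMem_of_ne Γ₂ Γ₁ (Ne.symm hne)) h₁, sup_comm]

theorem sum_mult_inter {n : ℕ} {Γ : Fin n → ArSurf.VertComp R X} (hΓ : Models.IsComponentList R X Γ)
    {L : Fin n → X.left.Modules} (hL : ∀ j, ClSub.IsInverseOf (L j) (ClSub.idealMod (Γ j).ι.ker))
    (Δ : ArSurf.VertComp R X) :
    ∑ j, (Models.mult R X (Γ j) : ℤ) * ArSurf.inter R X (L j) Δ = 0 := by
  haveI := hX.isProper
  obtain ⟨M, hM, hMi, hMv⟩ := exists_inverse_prod Δ Finset.univ (fun j => (Γ j).ι.ker)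
    (fun j => hX.isEffCartier_ker (Γ j)) L hL fun j => Models.mult R X (Γ j)
  rw [← hX.specialFibreIdeal_eq_prod hΓ] at hMi
  obtain ⟨e⟩ := hX.nonempty_idealMod_specialFibre
  obtain ⟨f⟩ := nonempty_iso_of_isInverseOf (isInvertible_idealMod hX.isEffCartier_specialFibreIdeal) hMi
    (isInverseOf_of_iso e (H23.PicMul.unit (Coh.structureModule X.left)))
  rw [← hMv, inter_congr Δ hM f, inter_structureModule]

end IsSurf

end Groth.Agent.ArSurfX
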