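import Groth.Agent.ArSurfX.InterSum
import Groth.Agent.Lib.CurveDeg

/-!
# Enlarging a vertical divisor along a component of negative degree

If `O(-A)` has negative degree on `Γ`, a function on `A + Γ` vanishing on `A` vanishes.
-/

universe u

set_option linter.style.haveILetI false
set_option backward.isDefEq.respectTransparency false
set_option backward.isDefEq.respectTransparency.types false

open CategoryTheory CategoryTheory.Limits AlgebraicGeometry IsLocalRing TopologicalSpace Opposite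

namespace Groth.Agent.ArSurfX

open Groth.Agent Groth.Agent.AModX Groth.Agent.InvX

/-- An invertible module of negative degree on an integral proper curve has no sections. -/
theorem subsingleton_sections_of_neg {k : Type u} [Field k] {Y : Scheme.{u}} [Y.Over (Spec (CommRingCat.of k))]
    [IsProper (Y ↘ Spec (CommRingCat.of k))] [IsIntegral Y] (hdim : topologicalKrullDim Y ≤ 1) {M : Y.Modules}
    (hM : PicF.IsInvertible M) (h : ArSurf.curveDeg k Y M < 0) : Subsingleton Γ(M, ⊤) := by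
  refine subsingleton_of_forall_eq 0 fun t => ?_
  by_contra ht
  have hne : ofSect t ≠ 0 := fun e => ht (by rw [← one_ofSect t, e]; rfl)
  have h1 := (CurveDeg.deg_le_and_isIso k hdim CurveDeg.isInvertible_structureModule hM (ofSect t) hne).1
  rw [CurveDeg.deg_structureModule, ← curveDeg_eq k hdim (ZeroSchX.isQCoh_inv hM)] at h1
  omega

section

variable {X : Scheme.{u}}

theorem subschemeι_appLE_inclusion {A B : X.IdealSheafData} (h : B ≤ A) (V : X.Opens) (b : Γ(X, V)) :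
    A.subschemeι.app V b =
      (Scheme.IdealSheafData.inclusion h).appLE (B.subschemeι ⁻¹ᵁ V) (A.subschemeι ⁻¹ᵁ V)
        (by rw [← Scheme.Hom.comp_preimage, Scheme.IdealSheafData.inclusion_subschemeι])
        (B.subschemeι.app V b) := by
  have e := Scheme.IdealSheafData.inclusion_subschemeι h
  have key : A.subschemeι.appLE V (A.subschemeι ⁻¹ᵁ V) le_rfl =
      (Scheme.IdealSheafData.inclusion h ≫ B.subschemeι).appLE V (A.subschemeι ⁻¹ᵁ V) (by rw [e]) := by
    simp only [e]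
  rw [Scheme.Hom.app_eq_appLE, key, Scheme.Hom.comp_appLE]
  rfl

theorem appLE_resR_eq {Y Z : Scheme.{u}} (f : Z ⟶ Y) {V : Y.Opens} {W : Z.Opens} (hW : W ≤ f ⁻¹ᵁ V)
    (s : Γ(Y, ⊤)) :
    (f.appLE V W hW).hom (resR le_top s) = resR le_top (f.appTop s) := by
  show (Y.presheaf.map (homOfLE (le_top : V ≤ ⊤)).op ≫ f.appLE V W hW) s =
    (f.app ⊤ ≫ Z.presheaf.map (homOfLE (le_top : W ≤ f ⁻¹ᵁ ⊤)).op) s
  rw [Scheme.Hom.map_appLE, Scheme.Hom.app_eq_appLE, Scheme.Hom.appLE_map]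

theorem app_resR {Y Z : Scheme.{u}} (f : Z ⟶ Y) {V W : Y.Opens} (hW : W ≤ V) (s : Γ(Y, V)) :
    (f.app W).hom (resR hW s) = resR (f.preimage_mono hW) (f.app V s) :=
  ConcreteCategory.congr_hom (f.naturality (homOfLE hW).op) s

end

variable {R : Type u} [CommRing R] [IsDomain R] [IsDiscreteValuationRing R]
  {X : Over (Spec (CommRingCat.of R))}

theorem eq_zero_of_inclusion [IsProper X.hom] (Γ : ArSurf.VertComp R X) {A : X.left.IdealSheafData}
    (hA : BlowUp.IsEffCartierIdeal A) (hdeg : ArSurf.inter R X (ClSub.idealMod A) Γ < 0)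
    (h : A * Γ.ι.ker ≤ A) (s : Γ((A * Γ.ι.ker).subscheme, ⊤))
    (hs : (Scheme.IdealSheafData.inclusion h).appTop s = 0) : s = 0 := by
  classical
  haveI : IsProper (Γ.curve.left ↘ Spec (CommRingCat.of (ResidueField R))) := isProper_curve Γ
  haveI := subsingleton_sections_of_neg (topologicalKrullDim_curve_le Γ)
    (PicClLib.isInvertible_pullback Γ.ι (isInvertible_idealMod hA)) hdeg
  choose U hU a ha using exists_isGen hA
  choose k hk hk' using fun x => exists_frame_of_isGen (ha x)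
  have hb : ∀ x, ∃ b u : Γ(X.left, (U x).1), (A * Γ.ι.ker).subschemeι.app (U x).1 b = resR le_top s ∧ b = a x * u := by
    intro x
    obtain ⟨b, hb⟩ := (A * Γ.ι.ker).subschemeι_app_surjective (U x) (resR le_top s)
    have h0 : A.subschemeι.app (U x).1 b = 0 := by
      rw [subschemeι_appLE_inclusion h (U x).1 b]
      rw [show (A * Γ.ι.ker).subschemeι.app (U x).1 b = resR le_top s from hb, appLE_resR_eq, hs, map_zero]
    have hbA : b ∈ A.ideal (U x) := by rw [← A.ker_subschemeι_app (U x)]; exact h0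
    rw [(ha x).2, Ideal.mem_span_singleton'] at hbA
    obtain ⟨u, hu⟩ := hbA
    exact ⟨b, u, hb, by rw [← hu, mul_comm]⟩
  choose b u hb hbu using hb
  let M := (Scheme.Modules.pullback Γ.ι).obj (ClSub.idealMod A)
  let sf : ∀ x, Γ(M, Γ.ι ⁻¹ᵁ (U x).1) := fun x => Γ.ι.app (U x).1 (u x) • pullElt Γ.ι (k x)
  have hc : ∀ x y, res M (inf_le_left : Γ.ι ⁻¹ᵁ (U x).1 ⊓ Γ.ι ⁻¹ᵁ (U y).1 ≤ Γ.ι ⁻¹ᵁ (U x).1) (sf x) =
      res M (inf_le_right : Γ.ι ⁻¹ᵁ (U x).1 ⊓ Γ.ι ⁻¹ᵁ (U y).1 ≤ Γ.ι ⁻¹ᵁ (U y).1) (sf y) := by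
    intro x y
    refine eq_of_locally _ _ fun p hp => ?_
    obtain ⟨_, ⟨V, hV, rfl⟩, hpV, hVle⟩ :=
      X.left.isBasis_affineOpens.exists_subset_of_mem_open
        (show Γ.ι.base p ∈ ((U x).1 ⊓ (U y).1 : X.left.Opens) from hp) ((U x).1 ⊓ (U y).1).isOpen
    have hx : V ≤ (U x).1 := fun z hz => (hVle hz).1
    have hy : V ≤ (U y).1 := fun z hz => (hVle hz).2
    refine ⟨Γ.ι ⁻¹ᵁ V, fun z hz => hVle hz, hpV, ?_⟩
    obtain ⟨c, hc⟩ := (hk' x).exists_coord hx (res _ hy (k y))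
    have hc' := congrArg (OmegaSh.idealSect A V) hc
    rw [OmegaLib.idealSect_smul, show OmegaSh.idealSect A V (res _ hy (k y)) = _ from
      OmegaLib.idealSect_map A hy (k y), show OmegaSh.idealSect A V (res _ hx (k x)) = _ from
      OmegaLib.idealSect_map A hx (k x), hk, hk] at hc'
    change resR hy (a y) = c * resR hx (a x) at hc'
    have hd : resR hx (b x) - resR hy (b y) ∈ (A * Γ.ι.ker).ideal ⟨V, hV⟩ := by
      rw [← (A * Γ.ι.ker).ker_subschemeι_app ⟨V, hV⟩]
      show (A * Γ.ι.ker).subschemeι.app V (resR hx (b x) - resR hy (b y)) = 0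
      rw [map_sub, app_resR, app_resR, hb, hb, resR_resR, resR_resR, sub_self]
    rw [Scheme.IdealSheafData.ideal_mul, Pi.mul_apply, ((ha x).res (V := ⟨V, hV⟩) hx).2,
      Ideal.mem_span_singleton_mul] at hd
    obtain ⟨w, hw, he⟩ := hd
    have hw' : resR hx (u x) - c * resR hy (u y) = w := by
      refine IsGen.mul_left_inj ((ha x).res (V := ⟨V, hV⟩) hx) (le_refl V) ?_
      rw [resR_self, mul_comm w, he, hbu, hbu, map_mul, map_mul, hc']
      ring
    have hker : Γ.ι.app V (resR hx (u x)) = Γ.ι.app V c * Γ.ι.app V (resR hy (u y)) := by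
      rw [← map_mul, ← sub_eq_zero, ← map_sub, hw']
      rw [Scheme.Hom.ker_apply Γ.ι ⟨V, hV⟩] at hw
      exact hw
    have h2 := congrArg (pullElt Γ.ι) hc
    rw [pullElt_smul, ← res_pullElt, ← res_pullElt] at h2
    simp only [sf, res_smul, res_res, resR_resR]
    rw [← app_resR Γ.ι hx, ← app_resR Γ.ι hy, hker, mul_comm (Γ.ι.app V c) _, mul_smul, ← h2]
  obtain ⟨t, ht, -⟩ := existsUnique_glue (M := M) (V := ⊤) (fun x => Γ.ι ⁻¹ᵁ (U x).1) (fun _ => le_top)
    (fun p _ => ⟨Γ.ι.base p, hU _⟩) sf hc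
  have hz : ∀ x, u x ∈ Γ.ι.ker.ideal (U x) := fun x => by
    rw [Scheme.Hom.ker_apply Γ.ι (U x)]
    show Γ.ι.app (U x).1 (u x) = 0
    refine (isFrame_pullElt Γ.ι (hk' x)).coord_unique le_rfl ?_
    rw [zero_smul, res_self]
    have := ht x
    rw [Subsingleton.elim t 0, map_zero] at this
    exact this.symm
  refine TopCat.Sheaf.eq_of_locally_eq' ((A * Γ.ι.ker).subscheme.sheaf) (fun x => (A * Γ.ι.ker).subschemeι ⁻¹ᵁ (U x).1) ⊤
    (fun x => homOfLE le_top) (fun p _ => Opens.mem_iSup.2 ⟨(A * Γ.ι.ker).subschemeι.base p, hU _⟩) s 0 fun x => ?_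
  show resR le_top s = resR le_top 0
  rw [map_zero, ← hb x]
  rw [← RingHom.mem_ker, (A * Γ.ι.ker).ker_subschemeι_app, Scheme.IdealSheafData.ideal_mul, Pi.mul_apply, hbu x]
  exact Ideal.mul_mem_mul ((ha x).2 ▸ Ideal.mem_span_singleton_self _) (hz x)

end Groth.Agent.ArSurfX
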