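import Groth.Agent.Div86.Ref.CartTwist
import Groth.Agent.Div86.Ref.ModifDet
import Groth.Agent.Div86.Ref.RegTwo
import Groth.Agent.Div86.Ref.Push
import Groth.Agent.Pn90.Charts
import Groth.Agent.H23.PicMul
import Groth.Agent.Lib.CurveDeg
import Groth.Agent.S16491

/-!
# Invertible modules trivial away from a prime divisor
-/

universe u

set_option linter.style.haveILetI false
set_option backward.isDefEq.respectTransparency false
set_option backward.isDefEq.respectTransparency.types false

open CategoryTheory CategoryTheory.Limits AlgebraicGeometry TopologicalSpace Groth.Agent.H23 IsLocalRing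

namespace Groth.Agent.ArSurfX.PicExact

open Groth.Agent Groth.Agent.Div86

variable {X : Scheme.{u}} [IsIntegral X] [IsLocallyNoetherian X]

theorem isRef1 {M : X.Modules} (hM : PicF.IsInvertible M) : RefHull.IsRef1 M :=
  CT.isRef1_of_isInvertible hM (CurveDeg.isCoh_of_isInvertible hM)

theorem exists_frame_of_pullback_iso {M : X.Modules} (V : X.Opens)
    (e : (Scheme.Modules.pullback V.ι).obj M ≅ Coh.structureModule (V : Scheme.{u})) :
    ∃ s : Γ(M, V), InvX.IsFrame s :=
  Pn90.exists_frame_of_iso V ((Scheme.Modules.restrictFunctorIsoPullback V.ι).app M ≪≫ e)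

/-- A section which is a frame on an open set has order zero there. -/
theorem exists_sord_of_frame {M : X.Modules} (hM : PicF.IsInvertible M) {V : X.Opens}
    (hV : genericPoint X ∈ V) (e : (Scheme.Modules.pullback V.ι).obj M ≅ Coh.structureModule (V : Scheme.{u})) :
    ∃ m : M.presheaf.stalk (genericPoint X), m ≠ 0 ∧
      ∀ x : X, Order.coheight x = 1 → x ∈ V → Ref.sord M x m = 0 := by
  obtain ⟨s, hs⟩ := exists_frame_of_pullback_iso V e
  refine ⟨M.presheaf.germ V _ hV s, fun h => one_ne_zero ((RatSec.isGen_germ hs _ hV).2 1 (by rw [h, smul_zero])),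
    fun x hx hxV => ?_⟩
  have h1 := Ref.sord_frame hx hs hxV (one_ne_zero (α := X.functionField))
  rw [one_smul] at h1
  rw [h1]
  have h2 := ord_unit (X := X) (x := x) isUnit_one
  rwa [map_one] at h2

variable (hreg : ∀ x : X, IsRegularLocalRing (X.presheaf.stalk x))
include hreg

/-- An invertible module trivial on an open set containing all points of codimension one is trivial. -/
theorem nonempty_iso_unit_of_big {M : X.Modules} (hM : PicF.IsInvertible M) {V : X.Opens}
    (hV : genericPoint X ∈ V) (hbig : ∀ x : X, Order.coheight x = 1 → x ∈ V)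
    (e : (Scheme.Modules.pullback V.ι).obj M ≅ Coh.structureModule (V : Scheme.{u})) :
    Nonempty (M ≅ Coh.structureModule X) := by
  obtain ⟨m, hm, hord⟩ := exists_sord_of_frame hM hV e
  refine Ref.nonempty_iso_of_sord (Ref.isNormal_of_regular hreg) (isRef1 hM) Ref.isRef1_unit hm
    (n := RefX.unitStalk (genericPoint X) (1 : X.functionField)) ?_ fun x hx => ?_
  · exact fun h => one_ne_zero (α := X.functionField)
      ((RefX.unitStalk (genericPoint X)).injective (h.trans (map_zero _).symm))
  · rw [Ref.sord_unit hx, hord x hx (hbig x hx)]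

variable (φ : X.Modules → ℤ)
  (φiso : ∀ A B : X.Modules, PicF.IsInvertible A → (A ≅ B) → φ A = φ B)
  (φtensor : ∀ A B : X.Modules, PicF.IsInvertible A → PicF.IsInvertible B → φ (CohB1.tensorMod A B) = φ A + φ B)
include φiso φtensor

/-- If some invertible module with orders zero away from `ξ` has nonzero degree, then one of degree zero
with orders zero away from `ξ` is trivial. -/
theorem nonempty_iso_unit_of_degree (φone : φ (Coh.structureModule X) = 0) {ξ : X}
    (hξ : Order.coheight ξ = 1) {M P : X.Modules} (hM : PicF.IsInvertible M) (hP : PicF.IsInvertible P)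
    {m : M.presheaf.stalk (genericPoint X)} (hm : m ≠ 0) {p : P.presheaf.stalk (genericPoint X)} (hp : p ≠ 0)
    (hmo : ∀ x : X, Order.coheight x = 1 → x ≠ ξ → Ref.sord M x m = 0)
    (hpo : ∀ x : X, Order.coheight x = 1 → x ≠ ξ → Ref.sord P x p = 0)
    (hφM : φ M = 0) (hφP : φ P ≠ 0) : Nonempty (M ≅ Coh.structureModule X) := by
  have hX := Ref.isNormal_of_regular hreg
  have one_ne : RefX.unitStalk (genericPoint X) (1 : X.functionField) ≠ 0 := fun h =>
    one_ne_zero (α := X.functionField) ((RefX.unitStalk (genericPoint X)).injective (h.trans (map_zero _).symm))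
  have htriv : ∀ (Q : X.Modules), PicF.IsInvertible Q → ∀ q : Q.presheaf.stalk (genericPoint X), q ≠ 0 →
      (∀ x : X, Order.coheight x = 1 → Ref.sord Q x q = 0) → Nonempty (Q ≅ Coh.structureModule X) :=
    fun Q hQ q hq h => Ref.nonempty_iso_of_sord hX (isRef1 hQ) Ref.isRef1_unit hq one_ne
      fun x hx => by rw [Ref.sord_unit hx, h x hx]
  let S : Set (ℤ × ℤ) := {ab | ∃ (Q : X.Modules) (_ : PicF.IsInvertible Q)
    (q : Q.presheaf.stalk (genericPoint X)), q ≠ 0 ∧
      (∀ x : X, Order.coheight x = 1 → x ≠ ξ → Ref.sord Q x q = 0) ∧ Ref.sord Q ξ q = ab.1 ∧ φ Q = ab.2}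
  let H : AddSubgroup (ℤ × ℤ) :=
    { carrier := S
      zero_mem' := ⟨Coh.structureModule X, InvX.isInvertible_structureModule, _, one_ne,
        fun x hx _ => Ref.sord_unit hx, Ref.sord_unit hξ, φone⟩
      add_mem' := by
        rintro a b ⟨A, hA, qa, hqa, hao, ha1, ha2⟩ ⟨B, hB, qb, hqb, hbo, hb1, hb2⟩
        obtain ⟨w, hw, hwo⟩ := CT.exists_sord_tensor hX hA hB (CurveDeg.isCoh_of_isInvertible hA)
          (CurveDeg.isCoh_of_isInvertible hB) hqa hqb
        refine ⟨_, InvX.isInvertible_tensorMod hA hB, w, hw, fun x hx hne => ?_, ?_, ?_⟩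
        · rw [hwo x hx, hao x hx hne, hbo x hx hne, add_zero]
        · rw [hwo ξ hξ, ha1, hb1]; rfl
        · rw [φtensor A B hA hB, ha2, hb2]; rfl
      neg_mem' := by
        rintro a ⟨A, hA, qa, hqa, hao, ha1, ha2⟩
        obtain ⟨t, ht, hto⟩ := Ref.exists_sord_dual hX (isRef1 hA) hqa
        have hR := Ref.isRef1_dual (isRef1 hA)
        have hD := S16491.result X hreg _ hR.1 hR.2.1 hR.2.2
        refine ⟨_, hD, t, ht, fun x hx hne => ?_, ?_, ?_⟩
        · rw [hto x hx, hao x hx hne, neg_zero]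
        · rw [hto ξ hξ, ha1]; rfl
        · obtain ⟨w, hw, hwo⟩ := CT.exists_sord_tensor hX hA hD (CurveDeg.isCoh_of_isInvertible hA)
            (CurveDeg.isCoh_of_isInvertible hD) hqa ht
          obtain ⟨e⟩ := htriv _ (InvX.isInvertible_tensorMod hA hD) w hw
            fun x hx => by rw [hwo x hx, hto x hx, add_neg_cancel]
          have h := φiso _ _ (InvX.isInvertible_tensorMod hA hD) e
          rw [φone, φtensor A _ hA hD, ha2] at h
          show φ _ = -a.2
          linarith }
  have key : ∀ b : ℤ, ((0, b) : ℤ × ℤ) ∈ H → b = 0 := by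
    rintro b ⟨Q, hQ, q, hq, hqo, hq1, hq2⟩
    obtain ⟨e⟩ := htriv Q hQ q hq fun x hx => by
      rcases eq_or_ne x ξ with rfl | hne
      exacts [hq1, hqo x hx hne]
    rw [φiso _ _ hQ e, φone] at hq2
    exact hq2.symm
  have hMmem : ((Ref.sord M ξ m, 0) : ℤ × ℤ) ∈ H := ⟨M, hM, m, hm, hmo, rfl, hφM⟩
  have hPmem : ((Ref.sord P ξ p, φ P) : ℤ × ℤ) ∈ H := ⟨P, hP, p, hp, hpo, rfl, rfl⟩
  have hcomb := H.sub_mem (H.zsmul_mem hMmem (Ref.sord P ξ p)) (H.zsmul_mem hPmem (Ref.sord M ξ m))
  have h0 : Ref.sord P ξ p • ((Ref.sord M ξ m, 0) : ℤ × ℤ) - Ref.sord M ξ m • ((Ref.sord P ξ p, φ P) : ℤ × ℤ) =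
      ((0, -(Ref.sord M ξ m * φ P)) : ℤ × ℤ) := by
    ext <;> simp [mul_comm]
  rw [h0] at hcomb
  have hn : Ref.sord M ξ m = 0 := by
    have h := key _ hcomb
    rw [neg_eq_zero, mul_eq_zero] at h
    exact h.resolve_right hφP
  exact htriv M hM m hm fun x hx => by
    rcases eq_or_ne x ξ with rfl | hne
    exacts [hn, hmo x hx hne]

omit φiso φtensor in
/-- An invertible module on the complement of finitely many points of codimension two extends. -/
theorem exists_extension {U : X.Opens} (hU : genericPoint X ∈ U)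
    (hdepth : ∀ x : X, x ∉ U → (2 : ℕ∞) ≤ LocCoh.depth (X.presheaf.stalk x) (X.presheaf.stalk x))
    (G : (U : Scheme.{u}).Modules) (hG : PicF.IsInvertible G) :
    ∃ L : X.Modules, PicF.IsInvertible L ∧ Nonempty ((Scheme.Modules.pullback U.ι).obj L ≅ G) := by
  haveI : IsLocallyNoetherian (U : Scheme.{u}) := inferInstance
  have hGc := CurveDeg.isCoh_of_isInvertible hG
  have hr : ∀ z : (U : Scheme.{u}), Module.IsReflexive ((U : Scheme.{u}).presheaf.stalk z) (G.presheaf.stalk z) := by
    intro z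
    haveI := Groth.Agent.QCoh.finite_stalk_of_isFT hGc.1 hGc.2 z
    haveI : Module.Free ((U : Scheme.{u}).presheaf.stalk z) (G.presheaf.stalk z) :=
      QCoh.free_stalk_of_isFinLocFree (H23.PullPush.isFinLocFree_of_isInvertible hG) z
    infer_instance
  obtain ⟨hc, hrefl⟩ := Ref.push_reflexive hdepth G hGc hr
  let c : ((Scheme.Modules.pushforward U.ι).obj G).restrict U.ι ≅ G :=
    asIso ((Scheme.Modules.restrictAdjunction U.ι).counit.app G)
  have hgen : RefHull.GenInvertible ((Scheme.Modules.pushforward U.ι).obj G) :=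
    ⟨U, U.2.dense ⟨_, hU⟩, H23.PicMul.isInvertible_of_iso c.symm hG⟩
  exact ⟨_, S16491.result X hreg _ hc hrefl hgen,
    ⟨((Scheme.Modules.restrictFunctorIsoPullback U.ι).app _).symm ≪≫ c⟩⟩

end Groth.Agent.ArSurfX.PicExact
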