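import Groth.Agent.ArSurfX.Inter
import Groth.Agent.S7810

/-!
# Intersection numbers of a curve which is a projective line over an extension of the residue field
-/

universe u

set_option linter.style.haveILetI false
set_option backward.isDefEq.respectTransparency false
set_option backward.isDefEq.respectTransparency.types false

open CategoryTheory CategoryTheory.Limits AlgebraicGeometry IsLocalRing

namespace Groth.Agent.ArSurfX

open Groth.Agent

/-- Cohomological dimensions after restricting the field of constants. -/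
theorem finrank_HH_restrict {k κ : Type u} [Field k] [Field κ] [Algebra k κ] {E : Scheme.{u}}
    (g : E ⟶ Spec (CommRingCat.of κ)) (h : E ⟶ Spec (CommRingCat.of k))
    (hgh : g ≫ Spec.map (CommRingCat.ofHom (algebraMap k κ)) = h) (M : E.Modules) (i : ℕ) :
    (letI : E.Over (Spec (CommRingCat.of k)) := ⟨h⟩; Module.finrank k (Coh.HH E M i)) =
      Module.finrank k κ * (letI : E.Over (Spec (CommRingCat.of κ)) := ⟨g⟩; Module.finrank κ (Coh.HH E M i)) := by
  letI : E.Over (Spec (CommRingCat.of κ)) := ⟨g⟩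
  letI ok : E.Over (Spec (CommRingCat.of k)) := ⟨h⟩
  have hring : ∀ c : k, Coh.toGlobal h c = Coh.toGlobal g (algebraMap k κ c) := fun c => by
    subst hgh
    simp only [Coh.toGlobal, Scheme.Hom.comp_appTop, CommRingCat.hom_comp]
    exact congrArg g.appTop.hom (ConcreteCategory.congr_hom
      (Scheme.ΓSpecIso_inv_naturality (CommRingCat.ofHom (algebraMap k κ))) c).symm
  haveI : IsScalarTower k κ (Coh.HH E M i) := IsScalarTower.of_algebraMap_smul fun c x => by
    show Coh.toGlobal g (algebraMap k κ c) • x = Coh.toGlobal h c • x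
    rw [hring]
  exact (Module.finrank_mul_finrank k κ (Coh.HH E M i)).symm

section

variable {κ : Type u} [Field κ]

theorem projLine_HH_twist :
    letI : (CohB1.ProjSpace 1 κ).Over (Spec (CommRingCat.of κ)) := ⟨CohB1.ProjSpace.toSpec 1 κ⟩
    Module.finrank κ (Coh.HH (CohB1.ProjSpace 1 κ) (Twist.twistProjSpace 1 κ 1) 0) = 2 ∧
      Module.finrank κ (Coh.HH (CohB1.ProjSpace 1 κ) (Twist.twistProjSpace 1 κ 1) 1) = 0 := by
  letI : (CohB1.ProjSpace 1 κ).Over (Spec (CommRingCat.of κ)) := ⟨CohB1.ProjSpace.toSpec 1 κ⟩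
  refine ⟨?_, ?_⟩
  · obtain ⟨φ⟩ := S0843.result κ 1 1
    exact φ.finrank_eq.trans (CurveEmbed.finrank_binary κ 1)
  · haveI := S0844.result κ 1 1 1 (fun h => absurd h.1 one_ne_zero) (fun h => absurd h.2 (by norm_num))
    exact Module.finrank_zero_of_subsingleton

variable {E : Scheme.{u}} (e : CohB1.ProjSpace 1 κ ≅ E)

theorem finrank_HH_iso (M : E.Modules) (hM : Coh.IsQCoh M) (i : ℕ) :
    (letI : E.Over (Spec (CommRingCat.of κ)) := ⟨e.inv ≫ CohB1.ProjSpace.toSpec 1 κ⟩; Module.finrank κ (Coh.HH E M i)) =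
      (letI : (CohB1.ProjSpace 1 κ).Over (Spec (CommRingCat.of κ)) := ⟨CohB1.ProjSpace.toSpec 1 κ⟩
       Module.finrank κ (Coh.HH (CohB1.ProjSpace 1 κ) ((Scheme.Modules.pullback e.hom).obj M) i)) := by
  letI : E.Over (Spec (CommRingCat.of κ)) := ⟨e.inv ≫ CohB1.ProjSpace.toSpec 1 κ⟩
  letI : (CohB1.ProjSpace 1 κ).Over (Spec (CommRingCat.of κ)) := ⟨CohB1.ProjSpace.toSpec 1 κ⟩
  have hid : Spec.map (CommRingCat.ofHom (algebraMap κ κ)) = 𝟙 _ := by
    rw [show CommRingCat.ofHom (algebraMap κ κ) = 𝟙 (CommRingCat.of κ) from rfl, Spec.map_id]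
  have hpb : IsPullback e.hom ((CohB1.ProjSpace 1 κ) ↘ Spec (CommRingCat.of κ)) (E ↘ Spec (CommRingCat.of κ))
      (Spec.map (CommRingCat.ofHom (algebraMap κ κ))) := by
    haveI : IsIso (Spec.map (CommRingCat.ofHom (algebraMap κ κ))) := by rw [hid]; infer_instance
    refine IsPullback.of_horiz_isIso ⟨?_⟩
    rw [hid, Category.comp_id]
    show e.hom ≫ e.inv ≫ CohB1.ProjSpace.toSpec 1 κ = CohB1.ProjSpace.toSpec 1 κ
    rw [Iso.hom_inv_id_assoc]
  haveI : IsProper (CohB1.ProjSpace.toSpec 1 κ) := PnCoh.Chow.isProper_toSpec 1 κ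
  haveI hp : IsProper (E ↘ Spec (CommRingCat.of κ)) := inferInstanceAs (IsProper (e.inv ≫ CohB1.ProjSpace.toSpec 1 κ))
  haveI : CompactSpace E := QuasiCompact.compactSpace_of_compactSpace (E ↘ Spec (CommRingCat.of κ))
  haveI : E.IsSeparated := ⟨by
    rw [← Limits.terminal.comp_from (E ↘ Spec (CommRingCat.of κ))]; infer_instance⟩
  exact (CurveBC.finrank_hh κ κ e.hom hpb M hM i).symm

theorem finrank_HH_structure_iso :
    letI : E.Over (Spec (CommRingCat.of κ)) := ⟨e.inv ≫ CohB1.ProjSpace.toSpec 1 κ⟩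
    Module.finrank κ (Coh.HH E (Coh.structureModule E) 0) = 1 ∧
      Module.finrank κ (Coh.HH E (Coh.structureModule E) 1) = 0 := by
  letI : (CohB1.ProjSpace 1 κ).Over (Spec (CommRingCat.of κ)) := ⟨CohB1.ProjSpace.toSpec 1 κ⟩
  obtain ⟨h0, hg⟩ := S7810.projLine_facts κ
  rw [finrank_HH_iso e _ (QCoh.isQCoh_structureModule) 0, finrank_HH_iso e _ (QCoh.isQCoh_structureModule) 1]
  exact ⟨((CurveCohLib.hhEquiv (k := κ) (CurveBC.unitIso e.hom) 0).finrank_eq).trans h0,
    ((CurveCohLib.hhEquiv (k := κ) (CurveBC.unitIso e.hom) 1).finrank_eq).trans hg⟩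

end

variable {R : Type u} [CommRing R] [IsDomain R] [IsDiscreteValuationRing R]
  {X : Over (Spec (CommRingCat.of R))} [IsProper X.hom] (E : ArSurf.VertComp R X)
  {κ : Type u} [Field κ] [Algebra (ResidueField R) κ] (e : CohB1.ProjSpace 1 κ ≅ E.curve.left)
  (he : e.hom ≫ E.curve.hom =
    CohB1.ProjSpace.toSpec 1 κ ≫ Spec.map (CommRingCat.ofHom (algebraMap (ResidueField R) κ)))
include he

omit [IsProper X.hom] in
/-- Constants and genus of a vertical projective line. -/
theorem wdeg_h1_of_projLine :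
    Models.wdeg R X E = Module.finrank (ResidueField R) κ ∧ Models.h1 R X E = 0 := by
  obtain ⟨h0, h1⟩ := finrank_HH_structure_iso e
  have hgh : (e.inv ≫ CohB1.ProjSpace.toSpec 1 κ) ≫ Spec.map (CommRingCat.ofHom (algebraMap (ResidueField R) κ)) =
      E.curve.hom := by rw [Category.assoc, ← he, Iso.inv_hom_id_assoc]
  refine ⟨(finrank_HH_restrict _ _ hgh _ 0).trans ?_, (finrank_HH_restrict _ _ hgh _ 1).trans ?_⟩
  · rw [h0, mul_one]
  · rw [h1, mul_zero]

/-- The self-intersection of a vertical projective line with conormal sheaf of degree one. -/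
theorem inter_eq_neg_wdeg
    (hI : PicF.IsInvertible (ClSub.idealMod E.ι.ker))
    (hconormal : Nonempty ((Scheme.Modules.pullback (e.hom ≫ E.ι)).obj (ClSub.idealMod E.ι.ker) ≅
      Twist.twistProjSpace 1 κ 1))
    (L : X.left.Modules) (hL : ClSub.IsInverseOf L (ClSub.idealMod E.ι.ker)) :
    ArSurf.inter R X L E = -(Models.wdeg R X E : ℤ) := by
  haveI := isProper_curve E
  haveI : IsProper (E.curve.left ↘ Spec (CommRingCat.of (ResidueField R))) := isProper_curve E
  set N := (Scheme.Modules.pullback E.ι).obj (ClSub.idealMod E.ι.ker)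
  have hN : PicF.IsInvertible N := PicClLib.isInvertible_pullback E.ι hI
  have hgh : (e.inv ≫ CohB1.ProjSpace.toSpec 1 κ) ≫ Spec.map (CommRingCat.ofHom (algebraMap (ResidueField R) κ)) =
      E.curve.hom := by rw [Category.assoc, ← he, Iso.inv_hom_id_assoc]
  letI : (CohB1.ProjSpace 1 κ).Over (Spec (CommRingCat.of κ)) := ⟨CohB1.ProjSpace.toSpec 1 κ⟩
  obtain ⟨hO0, hO1⟩ := finrank_HH_structure_iso e
  obtain ⟨hT0, hT1⟩ := projLine_HH_twist (κ := κ)
  obtain ⟨φ⟩ := hconormal
  have hN' : ∀ i, Module.finrank κ (Coh.HH (CohB1.ProjSpace 1 κ) ((Scheme.Modules.pullback e.hom).obj N) i) =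
      Module.finrank κ (Coh.HH (CohB1.ProjSpace 1 κ) (Twist.twistProjSpace 1 κ 1) i) := fun i =>
    (CurveCohLib.hhEquiv (k := κ) ((Scheme.Modules.pullbackComp e.hom E.ι).app _ ≪≫ φ) i).finrank_eq
  have hdeg : ArSurf.curveDeg (ResidueField R) E.curve.left N = (Module.finrank (ResidueField R) κ : ℤ) := by
    have hr := finrank_HH_restrict (k := ResidueField R) _ _ hgh
    unfold ArSurf.curveDeg FGA.eulerCharLE
    simp only [Finset.sum_range_succ, Finset.sum_range_zero, pow_zero, pow_one, zero_add, one_mul]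
    erw [hr N 0, hr N 1, hr (Coh.structureModule _) 0, hr (Coh.structureModule _) 1, hO0, hO1,
      finrank_HH_iso e N (ZeroSchX.isQCoh_inv hN) 0, finrank_HH_iso e N (ZeroSchX.isQCoh_inv hN) 1,
      hN' 0, hN' 1, hT0, hT1]
    push_cast
    ring
  show ArSurf.curveDeg _ _ ((Scheme.Modules.pullback E.ι).obj L) = _
  rw [curveDeg_inverse (ResidueField R) E.dim_eq.le hN (isInverseOf_pullback E.ι hL), hdeg,
    (wdeg_h1_of_projLine E e he).1]

end Groth.Agent.ArSurfX
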