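import Groth.Agent.ArSurfX.Fibre
import Groth.Agent.RegLoc6.Basic

/-!
# A section meets the special fibre in a smooth rational point
-/

universe u

set_option linter.style.haveILetI false
set_option backward.isDefEq.respectTransparency false
set_option backward.isDefEq.respectTransparency.types false

open CategoryTheory CategoryTheory.Limits AlgebraicGeometry IsLocalRing

namespace Groth.Agent.ArSurfX

open Groth.Agent

variable {R : Type u} [CommRing R] [IsDomain R] [IsDiscreteValuationRing R]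
  {X : Over (Spec (CommRingCat.of R))}

/-- A section retracts the map from `R` to the local ring at its closed point. -/
theorem stalkClosedPointTo_stalkHom (σ : Spec (CommRingCat.of R) ⟶ X.left) (hσ : σ ≫ X.hom = 𝟙 _) (r : R) :
    Scheme.stalkClosedPointTo σ (Models.stalkHom R X (σ.base (closedPoint R)) r) = r := by
  have h1 : Scheme.stalkClosedPointTo (σ ≫ X.hom) = X.hom.stalkMap _ ≫ Scheme.stalkClosedPointTo σ :=
    Scheme.stalkClosedPointTo_comp σ X.hom
  set z := (Scheme.ΓSpecIso (CommRingCat.of R)).inv r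
  have h2 : Models.stalkHom R X (σ.base (closedPoint R)) r =
      X.hom.stalkMap (σ.base (closedPoint R))
        ((Spec (CommRingCat.of R)).presheaf.germ ⊤ _ trivial z) :=
    (Scheme.Hom.germ_stalkMap_apply X.hom ⊤ _ trivial z).symm
  rw [h2, ← CommRingCat.comp_apply]
  have h3 : ∀ (g : Spec (CommRingCat.of R) ⟶ Spec (CommRingCat.of R)), g = 𝟙 _ →
      Scheme.stalkClosedPointTo g ((Spec (CommRingCat.of R)).presheaf.germ ⊤ (g.base (closedPoint R)) trivial z) = r := by
    rintro g rfl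
    rw [← Spec.map_id]
    have h := ConcreteCategory.congr_hom
      (Scheme.germ_stalkClosedPointTo_Spec (𝟙 (CommRingCat.of R))) z
    exact h.trans ((Scheme.ΓSpecIso (CommRingCat.of R)).commRingCatIsoToRingEquiv.apply_symm_apply r)
  have h4 := h3 _ hσ
  rw [h1] at h4
  exact h4

theorem residue_comp_stalkHom_surjective (σ : Spec (CommRingCat.of R) ⟶ X.left) (hσ : σ ≫ X.hom = 𝟙 _) :
    Function.Surjective ((X.left.residue (σ.base (closedPoint R))).hom.comp
      (Models.stalkHom R X (σ.base (closedPoint R)))) := by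
  intro y
  obtain ⟨a, rfl⟩ := Ideal.Quotient.mk_surjective y
  refine ⟨Scheme.stalkClosedPointTo σ a, Eq.symm (Ideal.Quotient.eq.2 ?_)⟩
  rw [IsLocalRing.mem_maximalIdeal]
  intro hu
  have h0 := hu.map (Scheme.stalkClosedPointTo σ).hom
  rw [map_sub, stalkClosedPointTo_stalkHom σ hσ, sub_self] at h0
  exact not_isUnit_zero h0

theorem sum_le_one_of_notMem_sq {A : Type*} [CommRing A] {ι : Type*} [Fintype ι] (s : Finset ι)
    (D : ι → Ideal A) {P : Ideal A} (m : ι → ℕ) (h : ∀ i ∈ s, D i ≤ P) {t : A}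
    (ht : t ∈ ∏ i, D i ^ m i) (h2 : t ∉ P ^ 2) : ∑ i ∈ s, m i ≤ 1 := by
  classical
  by_contra hlt
  have hsub : ∀ (u : Finset ι), s ⊆ u → ∏ i ∈ u, D i ^ m i ≤ ∏ i ∈ s, D i ^ m i := fun u hu => by
    rw [← Finset.prod_sdiff hu]
    exact (Ideal.mul_le_inf (R := A)).trans inf_le_right
  have h1 : t ∈ ∏ i ∈ s, D i ^ m i := hsub Finset.univ (Finset.subset_univ s) ht
  have h3 : ∀ (u : Finset ι), (∀ i ∈ u, D i ≤ P) → ∏ i ∈ u, D i ^ m i ≤ P ^ ∑ i ∈ u, m i := by
    intro u
    induction u using Finset.induction_on with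
    | empty => intro _; simp
    | @insert a v ha ih =>
      intro hu
      rw [Finset.prod_insert ha, Finset.sum_insert ha, pow_add]
      exact Ideal.mul_mono (Ideal.pow_right_mono (hu a (Finset.mem_insert_self a v)) _)
        (ih fun i hi => hu i (Finset.mem_insert_of_mem hi))
  have h4 : P ^ (∑ i ∈ s, m i) ≤ P ^ 2 := Ideal.pow_le_pow_right (by omega)
  exact h2 (h4 (h3 s h h1))

namespace IsSurf

variable (hX : IsSurf X)
include hX

theorem stalkHom_mem_and_notMem_sq (σ : Spec (CommRingCat.of R) ⟶ X.left) (hσ : σ ≫ X.hom = 𝟙 _)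
    {ϖ : R} (hϖ : Irreducible ϖ) :
    Models.stalkHom R X (σ.base (closedPoint R)) ϖ ∈ maximalIdeal _ ∧
      Models.stalkHom R X (σ.base (closedPoint R)) ϖ ∉ maximalIdeal _ ^ 2 := by
  set p := σ.base (closedPoint R)
  constructor
  · rw [IsLocalRing.mem_maximalIdeal]
    intro hu
    have h := hu.map (Scheme.stalkClosedPointTo σ).hom
    rw [stalkClosedPointTo_stalkHom σ hσ] at h
    exact hϖ.not_isUnit h
  · intro hmem
    have h := Ideal.mem_map_of_mem (Scheme.stalkClosedPointTo σ).hom hmem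
    rw [stalkClosedPointTo_stalkHom σ hσ, Ideal.map_pow] at h
    have h' := Ideal.pow_right_mono (IsLocalRing.map_maximalIdeal_le
      (Scheme.stalkClosedPointTo σ).hom) 2 h
    rw [hϖ.maximalIdeal_eq, Ideal.span_singleton_pow, Ideal.mem_span_singleton] at h'
    obtain ⟨c, hc⟩ := h'
    exact hϖ.not_isUnit (.of_mul_eq_one c (mul_left_cancel₀ hϖ.ne_zero (by linear_combination -hc)))

theorem isRegular_fibre_at_section (σ : Spec (CommRingCat.of R) ⟶ X.left) (hσ : σ ≫ X.hom = 𝟙 _) :
    IsRegularLocalRing (X.left.presheaf.stalk (σ.base (closedPoint R)) ⧸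
      Ideal.map (Models.stalkHom R X (σ.base (closedPoint R))) (maximalIdeal R)) := by
  obtain ⟨ϖ, hϖ⟩ := IsDiscreteValuationRing.exists_irreducible R
  obtain ⟨h1, h2⟩ := hX.stalkHom_mem_and_notMem_sq σ hσ hϖ
  haveI := hX.regular (σ.base (closedPoint R))
  haveI := (RegLoc6.isRegularLocalRing_quot_and h1 h2).1
  refine IsRegularLocalRing.of_ringEquiv (R := X.left.presheaf.stalk (σ.base (closedPoint R)) ⧸
    Ideal.span {Models.stalkHom R X (σ.base (closedPoint R)) ϖ}) (Ideal.quotEquivOfEq ?_)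
  rw [hϖ.maximalIdeal_eq, Ideal.map_span, Set.image_singleton]

theorem section_components {n : ℕ} {Γ : Fin n → ArSurf.VertComp R X} (hΓ : Models.IsComponentList R X Γ)
    (σ : Spec (CommRingCat.of R) ⟶ X.left) (hσ : σ ≫ X.hom = 𝟙 _) :
    (∃! i : Fin n, σ.base (closedPoint R) ∈ Set.range (Γ i).ι.base) ∧
      ∀ i : Fin n, σ.base (closedPoint R) ∈ Set.range (Γ i).ι.base → Models.mult R X (Γ i) = 1 := by
  classical
  obtain ⟨ϖ, hϖ⟩ := IsDiscreteValuationRing.exists_irreducible R
  obtain ⟨-, h2⟩ := hX.stalkHom_mem_and_notMem_sq σ hσ hϖ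
  set p := σ.base (closedPoint R)
  have hp : X.hom.base p = closedPoint R := by
    show X.hom.base (σ.base (closedPoint R)) = _
    rw [← Scheme.Hom.comp_apply, hσ]
    rfl
  obtain ⟨_, ⟨U, hU, rfl⟩, hpU, -⟩ :=
    X.left.isBasis_affineOpens.exists_subset_of_mem_open (Set.mem_univ p) isOpen_univ
  set D : Fin n → Ideal (X.left.presheaf.stalk p) := fun i => CDivEq.stk (Γ i).ι.ker ⟨U, hU⟩ hpU
  have hD : ∀ i, p ∈ Set.range (Γ i).ι.base → D i ≤ maximalIdeal _ := fun i hi =>
    IsLocalRing.le_maximalIdeal ((CDivEq.mem_support_iff _ ⟨U, hU⟩ hpU).1 (show p ∈ ((Γ i).ι.ker.support : Set X.left) by rw [support_ker]; exact hi))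
  have hprod : Models.stalkHom R X p ϖ ∈ ∏ i, D i ^ Models.mult R X (Γ i) := by
    rw [← stk_prod_pow, ← hX.specialFibreIdeal_eq_prod hΓ]
    rw [CDivEq.stk, specialFibreIdeal_ideal hϖ, ← germ_res_toGlobal U hpU ϖ]
    exact Ideal.mem_map_of_mem _ (Ideal.mem_span_singleton_self _)
  have hle : ∀ s : Finset (Fin n), (∀ i ∈ s, p ∈ Set.range (Γ i).ι.base) →
      ∑ i ∈ s, Models.mult R X (Γ i) ≤ 1 := by
    intro s hs
    exact sum_le_one_of_notMem_sq (A := X.left.presheaf.stalk p) s D (fun i => Models.mult R X (Γ i))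
      (fun i hi => hD i (hs i hi)) hprod h2
  obtain ⟨i, hi⟩ := hX.exists_mem_range hΓ hp
  refine ⟨⟨i, hi, fun j hj => ?_⟩, fun j hj => ?_⟩
  · by_contra hne
    have h := hle {j, i} (by
      intro k hk
      rcases Finset.mem_insert.1 hk with rfl | hk
      · exact hj
      · exact (Finset.mem_singleton.1 hk) ▸ hi)
    rw [Finset.sum_pair hne] at h
    have := hX.mult_pos (Γ i); have := hX.mult_pos (Γ j)
    omega
  · have h := hle {j} (by simpa using hj)
    rw [Finset.sum_singleton] at h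
    have := hX.mult_pos (Γ j)
    omega

end IsSurf

end Groth.Agent.ArSurfX
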