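import Groth.Agent.ArSurfX.Surf
import Groth.Agent.FlatDvr.FibreStalk
import Groth.Agent.IntMultLib.Deg
import Groth.Agent.H23.RedSub
import Groth.Agent.QCoh.Devissage
import Groth.Agent.QCoh.Support
import Groth.Agent.AModX.Res

/-!
# Vertical curves on a surface with smooth fibres

Over a Dedekind base a uniformizer stays prime in the local rings of a smooth scheme, so a function
on a neighbourhood of a proper vertical curve is a constant power of it times a function constant on
the curve. In particular no function can vanish on such a curve and on a curve crossing it.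
-/

universe u

set_option linter.style.haveILetI false
set_option backward.isDefEq.respectTransparency false
set_option backward.isDefEq.respectTransparency.types false

open CategoryTheory CategoryTheory.Limits AlgebraicGeometry IsLocalRing Order TopologicalSpace Opposite

namespace Groth.Agent.ArSurfX

open Groth.Agent

variable {R : Type u} [CommRing R] [IsDedekindDomain R] {X : Scheme.{u}}
  (f : X ⟶ Spec (CommRingCat.of R))

/-- The global function on `X` given by a constant. -/
noncomputable abbrev const (r : R) : Γ(X, ⊤) :=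
  f.appTop ((Scheme.ΓSpecIso (CommRingCat.of R)).inv r)

omit [IsDedekindDomain R] in
theorem isUnit_germ_const_iff (x : X) (r : R) :
    IsUnit (X.presheaf.germ ⊤ x trivial (const f r)) ↔ r ∉ (f.base x).asIdeal := by
  rw [← Scheme.mem_basicOpen]
  show x ∈ X.basicOpen (f.app ⊤ ((Scheme.ΓSpecIso (CommRingCat.of R)).inv r)) ↔ _
  rw [← Scheme.preimage_basicOpen, basicOpen_eq_of_affine']
  simp only [Iso.inv_hom_id_apply]
  rfl

/-- A nonzero prime of a Dedekind domain is generated at the point by one element. -/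
theorem exists_generator (s : Spec (CommRingCat.of R)) (hs : s.asIdeal ≠ ⊥) :
    ∃ t : R, t ∈ s.asIdeal ∧ t ≠ 0 ∧
      maximalIdeal ((Spec (CommRingCat.of R)).presheaf.stalk s) =
        Ideal.span {(Spec (CommRingCat.of R)).presheaf.germ ⊤ s trivial
          ((Scheme.ΓSpecIso (CommRingCat.of R)).inv t)} := by
  letI : Algebra R ((Spec (CommRingCat.of R)).presheaf.stalk s) :=
    (((Spec (CommRingCat.of R)).presheaf.germ ⊤ s trivial).hom.comp
      (Scheme.ΓSpecIso (CommRingCat.of R)).inv.hom).toAlgebra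
  haveI hloc : IsLocalization.AtPrime ((Spec (CommRingCat.of R)).presheaf.stalk s) s.asIdeal :=
    inferInstanceAs (IsLocalization.AtPrime ((Spec.structureSheaf R).presheaf.stalk s) s.asIdeal)
  haveI : IsDomain ((Spec (CommRingCat.of R)).presheaf.stalk s) :=
    IsLocalization.isDomain_of_le_nonZeroDivisors _ (Ideal.primeCompl_le_nonZeroDivisors s.asIdeal)
  haveI : IsDiscreteValuationRing ((Spec (CommRingCat.of R)).presheaf.stalk s) :=
    IsLocalization.AtPrime.isDiscreteValuationRing_of_dedekind_domain R hs _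
  obtain ⟨π, hπ⟩ := IsDiscreteValuationRing.exists_irreducible ((Spec (CommRingCat.of R)).presheaf.stalk s)
  obtain ⟨⟨a, d⟩, hd⟩ := IsLocalization.surj s.asIdeal.primeCompl π
  have hu : IsUnit (algebraMap R ((Spec (CommRingCat.of R)).presheaf.stalk s) (d : R)) :=
    IsLocalization.map_units _ d
  have hm : maximalIdeal ((Spec (CommRingCat.of R)).presheaf.stalk s) =
      Ideal.span {algebraMap R ((Spec (CommRingCat.of R)).presheaf.stalk s) a} := by
    rw [hπ.maximalIdeal_eq, ← hd, Ideal.span_singleton_mul_right_unit hu]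
  refine ⟨a, ?_, fun e => hπ.ne_zero ?_, hm⟩
  · rw [← IsLocalization.AtPrime.to_map_mem_maximal_iff ((Spec (CommRingCat.of R)).presheaf.stalk s) s.asIdeal a,
      hm]
    exact Ideal.mem_span_singleton_self _
  · rw [e, map_zero] at hd
    exact hu.mul_left_eq_zero.1 hd

/-- A uniformizer of the base is prime in the local rings of a smooth scheme. -/
theorem isPrime_span_const [Smooth f] {t : R} (x : X)
    (ht : maximalIdeal ((Spec (CommRingCat.of R)).presheaf.stalk (f.base x)) =
      Ideal.span {(Spec (CommRingCat.of R)).presheaf.germ ⊤ (f.base x) trivial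
        ((Scheme.ΓSpecIso (CommRingCat.of R)).inv t)}) :
    (Ideal.span {X.presheaf.germ ⊤ x trivial (const f t)}).IsPrime := by
  obtain ⟨w, hw⟩ : x ∈ Set.range (f.fiberι (f.base x)) := by
    rw [Scheme.Hom.range_fiberι]; exact rfl
  have key : ∀ y : X, y = x → (maximalIdeal ((Spec (CommRingCat.of R)).presheaf.stalk (f y))).map
      (f.stalkMap y).hom = Ideal.span {X.presheaf.germ ⊤ y trivial (const f t)} := by
    rintro y rfl
    rw [ht, Ideal.map_span, Set.image_singleton]
    congr 2
    exact Scheme.Hom.germ_stalkMap_apply f ⊤ y trivial _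
  haveI : Smooth (f.fiberToSpecResidueField (f.base x)) :=
    MorphismProperty.pullback_snd _ _ inferInstance
  haveI := IntMultLib.isRegularLocalRing_stalk (f.fiberToSpecResidueField (f.base x)) w
  haveI : IsDomain ((f.fiber (f.base x)).presheaf.stalk w) := (RegUFD.ufd _).1
  have h1 := FlatDvr.ker_stalkMap_fiberι f w
  rw [key _ hw] at h1
  have h2 : (Ideal.span {X.presheaf.germ ⊤ (f.fiberι (f.base x) w) trivial (const f t)}).IsPrime :=
    h1 ▸ RingHom.ker_isPrime _
  exact hw ▸ h2

theorem height_add_coheight_le_of_dim (hdim : topologicalKrullDim X = 2) (x : X) :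
    height x + coheight x ≤ 2 := by
  have h := height_add_coheight_le_krullDim x
  have h2 : krullDim X = 2 := by
    rw [← Order.krullDim_eq_of_orderIso (irreducibleSetEquivPoints (α := X))]
    exact hdim
  rw [h2] at h
  exact WithBot.coe_le_coe.1 h

theorem lt_genericPoint [IsIntegral X] {z : X} (h : z ≠ genericPoint X) : z < genericPoint X :=
  lt_iff_le_not_ge.2 ⟨genericPoint_specializes z, fun h' => h ((genericPoint_specializes z).antisymm h').eq.symm⟩

theorem coheight_eq_one_of_not_isClosed [IsIntegral X] (hdim : topologicalKrullDim X = 2) {ξ : X}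
    (hξ : ξ ≠ genericPoint X) (hc : ¬ IsClosed ({ξ} : Set X)) : coheight ξ = 1 := by
  have h1 : 1 ≤ coheight ξ := le_add_self.trans (coheight_add_one_le (lt_genericPoint hξ))
  have h2 : 1 ≤ height ξ := by
    rw [Order.one_le_iff_pos, Order.height_pos, not_isMin_iff]
    by_contra hc'
    push Not at hc'
    refine hc (isClosed_singleton_of_forall fun y hy => ?_)
    by_contra hne
    exact hc' y (lt_iff_le_not_ge.2 ⟨hy, fun h => hne (h.antisymm hy).symm⟩)
  refine le_antisymm ?_ h1
  have := (add_le_add h2 le_rfl).trans (height_add_coheight_le_of_dim hdim ξ)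
  rw [add_comm, show (2 : ℕ∞) = 1 + 1 by norm_num] at this
  exact (ENat.add_le_add_iff_right ENat.one_ne_top).1 this

omit [IsDedekindDomain R] in
/-- Global functions on an integral scheme, proper over `R` and living over a closed point, form a field. -/
theorem isField_of_closed_image {Z : Scheme.{u}} [IsIntegral Z] (g : Z ⟶ Spec (CommRingCat.of R)) [IsProper g]
    {s : Spec (CommRingCat.of R)} (hs : s.asIdeal.IsMaximal) (himg : ∀ z, g.base z = s) :
    IsField Γ(Z, ⊤) := by
  let ρ : R →+* Γ(Z, ⊤) := g.appTop.hom.comp (Scheme.ΓSpecIso (CommRingCat.of R)).inv.hom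
  have hint : ρ.IsIntegral := RingHom.IsIntegral.trans _ _
    (RingHom.isIntegral_of_surjective _ (Scheme.ΓSpecIso (CommRingCat.of R)).symm.commRingCatIsoToRingEquiv.surjective)
    (isIntegral_appTop_of_universallyClosed g)
  have hker : ∀ a ∈ s.asIdeal, ρ a = 0 := fun a ha => by
    have hb : Z.basicOpen (ρ a) = ⊥ := TopologicalSpace.Opens.ext (Set.ext fun z => iff_of_false
      (fun hz => by
        have := (isUnit_germ_const_iff g z a).1 ((Scheme.mem_basicOpen Z (ρ a) z trivial).1 hz)
        exact this (by rw [himg z]; exact ha)) id)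
    exact (basicOpen_eq_bot_iff (ρ a)).1 hb
  haveI := hs
  letI := Ideal.Quotient.field s.asIdeal
  let ρk : R ⧸ s.asIdeal →+* Γ(Z, ⊤) := Ideal.Quotient.lift _ ρ hker
  letI := ρk.toAlgebra
  haveI : Algebra.IsIntegral (R ⧸ s.asIdeal) Γ(Z, ⊤) := by
    rw [← algebraMap_isIntegral_iff]
    exact RingHom.IsIntegral.tower_top (Ideal.Quotient.mk s.asIdeal) ρk hint
  exact isField_of_isIntegral_of_isField' (Field.toIsField (R ⧸ s.asIdeal))

/-- A vanishing ideal point of the scheme lies in a prime of the stalk. -/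
theorem isUnit_germ_of_specializes {V : X.Opens} (c : Γ(X, V)) {z x : X} (h : z ⤳ x) (hx : x ∈ V)
    (hu : IsUnit (X.presheaf.germ V x hx c)) : IsUnit (X.presheaf.germ V z (h.mem_open V.isOpen hx) c) := by
  rw [← Scheme.mem_basicOpen] at hu ⊢
  exact h.mem_open (X.basicOpen c).isOpen hu

/-- On a surface with smooth fibres, the zeros of a function near a proper vertical curve lie on the curve:
a generization outside the fibre cannot be a zero. -/
theorem isUnit_germ_of_smooth_fibre [IsIntegral X] [IsProper f] [Smooth f]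
    (hreg : ∀ x : X, IsRegularLocalRing (X.presheaf.stalk x))
    {ξ x z : X} (hξ : coheight ξ = 1) (hs : (f.base ξ).asIdeal.IsMaximal) (hxξ : ξ ⤳ x) (hzx : z ⤳ x)
    (hz : f.base z ≠ f.base ξ)
    {W : X.Opens} (hW : closure {ξ} ⊆ (W : Set X)) (g : Γ(X, W)) (hg : g ≠ 0) :
    IsUnit (X.presheaf.germ W z (hzx.mem_open W.isOpen (hW (specializes_iff_mem_closure.1 hxξ))) g) := by
  classical
  haveI : IsLocallyNoetherian X := LocallyOfFiniteType.isLocallyNoetherian f
  haveI := fun y : X => (RegUFD.ufd (A := X.presheaf.stalk y)).1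
  have hs0 : (f.base ξ).asIdeal ≠ ⊥ := fun e => by
    have hdom : ∀ q : Spec (CommRingCat.of R), f.base ξ ⤳ q → q = f.base ξ := fun q hq =>
      PrimeSpectrum.ext (hs.eq_of_le q.2.ne_top ((PrimeSpectrum.le_iff_specializes _ _).2 hq)).symm
    refine hz ?_
    have h1 : f.base x = f.base ξ := hdom _ (hxξ.map f.continuous)
    have h2 : (f.base z).asIdeal ≤ (f.base ξ).asIdeal :=
      h1 ▸ (PrimeSpectrum.le_iff_specializes _ _).2 (hzx.map f.continuous)
    exact PrimeSpectrum.ext ((le_bot_iff.1 (e ▸ h2)).trans e.symm)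
  have hbase : ∀ y : X, ξ ⤳ y → f.base y = f.base ξ := fun y hy =>
    PrimeSpectrum.ext (hs.eq_of_le (f.base y).2.ne_top
      ((PrimeSpectrum.le_iff_specializes _ _).2 (hy.map f.continuous))).symm
  obtain ⟨t, hts, ht0, htmax⟩ := exists_generator (f.base ξ) hs0
  have hgW : ∀ y (hy : y ∈ W), X.presheaf.germ W y hy g ≠ 0 := fun y hy e => hg
    (germ_injective_of_isIntegral X y hy (by rw [map_zero]; exact e))
  let τ : ∀ y : X, X.presheaf.stalk y := fun y => X.presheaf.germ ⊤ y trivial (const f t)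
  have hτu : ∀ y : X, ξ ⤳ y → ¬ IsUnit (τ y) := fun y hy hu =>
    (isUnit_germ_const_iff f y t).1 hu (by rw [hbase y hy]; exact hts)
  have hτprime : ∀ y : X, ξ ⤳ y → (Ideal.span {τ y}).IsPrime := fun y hy =>
    isPrime_span_const f y (by
      have : ∀ q, q = f.base ξ → maximalIdeal ((Spec (CommRingCat.of R)).presheaf.stalk q) =
          Ideal.span {(Spec (CommRingCat.of R)).presheaf.germ ⊤ q trivial
            ((Scheme.ΓSpecIso (CommRingCat.of R)).inv t)} := by
        rintro q rfl; exact htmax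
      exact this _ (hbase y hy))
  have hzu : IsUnit (τ z) := by
    refine (isUnit_germ_const_iff f z t).2 fun hmem => hz ?_
    have h1 : (f.base z).asIdeal ≤ (f.base ξ).asIdeal :=
      hbase x hxξ ▸ (PrimeSpectrum.le_iff_specializes _ _).2 (hzx.map f.continuous)
    refine PrimeSpectrum.ext (le_antisymm h1 ?_)
    have hne : (f.base z).asIdeal ≠ ⊥ := fun e => ht0 (Ideal.mem_bot.1 (e ▸ hmem))
    exact (((f.base z).2.isMaximal hne).eq_of_le hs.ne_top h1).ge
  have hτ0 : ∀ y : X, τ y ≠ 0 := fun y e => by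
    have h0 : const f t = 0 := germ_injective_of_isIntegral X y (U := ⊤) trivial (by rw [map_zero]; exact e)
    have : τ z = 0 := by show X.presheaf.germ ⊤ z trivial (const f t) = 0; rw [h0, map_zero]
    rw [this] at hzu
    exact not_isUnit_zero hzu
  -- factor at every point of the curve
  have hfac : ∀ y (hy : ξ ⤳ y) (hyW : y ∈ W), ∃ (a : ℕ) (c : X.presheaf.stalk y),
      X.presheaf.germ W y hyW g = τ y ^ a * c ∧ IsUnit ((X.presheaf.stalkSpecializes hy).hom c) := by
    intro y hy hyW
    haveI := hreg y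
    haveI := (RegUFD.ufd (A := X.presheaf.stalk y)).2
    obtain ⟨a, c, hc, hgc⟩ := WfDvdMonoid.max_power_factor (a₀ := X.presheaf.germ W y hyW g)
      (x := τ y) (hgW y hyW)
      ((Ideal.span_singleton_prime (hτ0 y)).1 (hτprime y hy)).irreducible
    refine ⟨a, c, hgc, ?_⟩
    by_contra hu
    have hcQ : c ∈ (CDiv6.primeOf hy).asIdeal := (CDiv6.mem_primeOf hy c).2 hu
    have hτQ : τ y ∈ (CDiv6.primeOf hy).asIdeal := (CDiv6.mem_primeOf hy _).2 (by
      show ¬ IsUnit (X.presheaf.stalkSpecializes hy (X.presheaf.germ ⊤ y trivial (const f t)))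
      erw [TopCat.Presheaf.germ_stalkSpecializes_apply]
      exact hτu ξ specializes_rfl)
    haveI := hτprime y hy
    rcases eq_or_lt_of_le (show Ideal.span {τ y} ≤ (CDiv6.primeOf hy).asIdeal from
      (Ideal.span_singleton_le_iff_mem _).2 hτQ) with he | hlt
    · rw [← he, Ideal.mem_span_singleton] at hcQ
      exact hc hcQ
    · have h1 := Ideal.height_strict_mono_of_isPrime hlt
      have h0 : (⊥ : Ideal (X.presheaf.stalk y)) < Ideal.span {τ y} :=
        bot_lt_iff_ne_bot.2 fun e => hτ0 y (Ideal.span_singleton_eq_bot.1 e)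
      haveI : (⊥ : Ideal (X.presheaf.stalk y)).IsPrime := Ideal.isPrime_bot
      have h2 := Ideal.height_strict_mono_of_isPrime h0
      rw [CDiv6.height_primeOf hy, hξ] at h1
      have h3 : (Ideal.span {τ y}).height = 0 := Order.lt_one_iff.1 h1
      rw [h3] at h2
      exact not_lt_bot h2
  have hsp : ∀ (V : X.Opens) (b : Γ(X, V)) (y : X) (hy : ξ ⤳ y) (hyV : y ∈ V),
      (X.presheaf.stalkSpecializes hy).hom (X.presheaf.germ V y hyV b) =
        X.presheaf.germ V ξ (hy.mem_open V.isOpen hyV) b := fun V b y hy hyV =>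
    TopCat.Presheaf.germ_stalkSpecializes_apply X.presheaf _ _ _
  let Pt := {y : X // ξ ⤳ y}
  have hPW : ∀ y : Pt, y.1 ∈ W := fun y => hW (specializes_iff_mem_closure.1 y.2)
  choose a c hgc hcu using fun y : Pt => hfac y.1 y.2 (hPW y)
  have hξW : ξ ∈ W := hW (subset_closure rfl)
  have hτirr : Irreducible (τ ξ) :=
    ((Ideal.span_singleton_prime (hτ0 ξ)).1 (hτprime ξ specializes_rfl)).irreducible
  have hgξ : ∀ y : Pt, X.presheaf.germ W ξ hξW g =
      τ ξ ^ a y * (X.presheaf.stalkSpecializes y.2).hom (c y) := fun y => by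
    rw [← hsp W g y.1 y.2 (hPW y), hgc y, map_mul, map_pow, hsp ⊤ (const f t) y.1 y.2 trivial]
  have ha : ∀ y y' : Pt, a y = a y' := fun y y' => by
    have key : ∀ (m n : ℕ) (v w : X.presheaf.stalk ξ), IsUnit w → τ ξ ^ m * v = τ ξ ^ n * w → m ≤ n := by
      intro m n v w hw e
      by_contra hmn
      obtain ⟨d, rfl⟩ : ∃ d, m = n + (d + 1) := ⟨m - n - 1, by omega⟩
      rw [pow_add, mul_assoc] at e
      exact hτirr.not_isUnit (isUnit_of_dvd_unit ((dvd_pow_self _ d.succ_ne_zero).mul_right v)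
        ((mul_left_cancel₀ (pow_ne_zero n (hτ0 ξ)) e) ▸ hw))
    exact le_antisymm (key _ _ _ _ (hcu y') ((hgξ y).symm.trans (hgξ y')))
      (key _ _ _ _ (hcu y) ((hgξ y').symm.trans (hgξ y)))
  obtain ⟨n, hn⟩ : ∃ n, ∀ y : Pt, a y = n := ⟨a ⟨ξ, specializes_rfl⟩, fun y => ha y _⟩
  have hloc : ∀ y : Pt, ∃ (V : X.Opens) (hV : V ≤ W) (b : Γ(X, V)), y.1 ∈ V ∧
      X.presheaf.map (homOfLE hV).op g = X.presheaf.map (homOfLE (le_top : V ≤ ⊤)).op (const f t) ^ n * b := by
    intro y
    obtain ⟨V₁, hyV₁, b₁, hb₁⟩ := X.presheaf.germ_exist (c y)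
    let V₂ : X.Opens := V₁ ⊓ W
    have hy2 : y.1 ∈ V₂ := ⟨hyV₁, hPW y⟩
    obtain ⟨V, hyV, i₁, i₂, he⟩ := X.presheaf.germ_eq y.1 hy2 hy2
      (X.presheaf.map (homOfLE (inf_le_right : V₂ ≤ W)).op g)
      (X.presheaf.map (homOfLE (le_top : V₂ ≤ ⊤)).op (const f t) ^ n *
        X.presheaf.map (homOfLE (inf_le_left : V₂ ≤ V₁)).op b₁)
      (by
        rw [TopCat.Presheaf.germ_res_apply, map_mul, map_pow, TopCat.Presheaf.germ_res_apply,
          TopCat.Presheaf.germ_res_apply, hb₁, hgc y, hn y])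
    refine ⟨V, i₁.le.trans inf_le_right, X.presheaf.map (homOfLE (i₁.le.trans inf_le_left)).op b₁, hyV, ?_⟩
    rw [map_mul, map_pow] at he
    have he' : AModX.resR i₁.le (AModX.resR (inf_le_right : V₂ ≤ W) g) =
        AModX.resR i₂.le (AModX.resR (le_top : V₂ ≤ ⊤) (const f t)) ^ n *
          AModX.resR i₂.le (AModX.resR (inf_le_left : V₂ ≤ V₁) b₁) := he
    rw [AModX.resR_resR, AModX.resR_resR, AModX.resR_resR] at he'
    exact he'
  choose V hVW b hyV hb using hloc
  have hcomp : ∀ y y' : Pt, X.presheaf.map (homOfLE (inf_le_left : V y ⊓ V y' ≤ V y)).op (b y) =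
      X.presheaf.map (homOfLE (inf_le_right : V y ⊓ V y' ≤ V y')).op (b y') := by
    intro y y'
    have hξO : ξ ∈ V y ⊓ V y' := ⟨y.2.mem_open (V y).isOpen (hyV y), y'.2.mem_open (V y').isOpen (hyV y')⟩
    refine germ_injective_of_isIntegral X ξ hξO ?_
    rw [TopCat.Presheaf.germ_res_apply, TopCat.Presheaf.germ_res_apply]
    have h1 := congrArg (X.presheaf.germ (V y) ξ hξO.1) (hb y)
    have h2 := congrArg (X.presheaf.germ (V y') ξ hξO.2) (hb y')
    rw [map_mul, map_pow, TopCat.Presheaf.germ_res_apply, TopCat.Presheaf.germ_res_apply] at h1 h2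
    exact mul_left_cancel₀ (pow_ne_zero n (hτ0 ξ)) (h1.symm.trans h2)
  obtain ⟨b', hb', -⟩ := TopCat.Sheaf.existsUnique_gluing' X.sheaf V (⨆ y, V y)
    (fun y => homOfLE (le_iSup V y)) le_rfl b hcomp
  let O := ⨆ y, V y
  -- the restriction to the curve
  let J := Scheme.IdealSheafData.vanishingIdeal (Closeds.closure {ξ})
  haveI : IsIntegral J.subscheme := QCoh.isIntegral_closure_point ξ
  have hJr : Set.range J.subschemeι = closure {ξ} := H23.RedSub.range_vanishingIdeal _
  have hJO : ∀ p, J.subschemeι.base p ∈ O := fun p => by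
    have hp : ξ ⤳ J.subschemeι.base p := specializes_iff_mem_closure.2 (hJr ▸ Set.mem_range_self p)
    exact Opens.mem_iSup.2 ⟨⟨_, hp⟩, hyV ⟨_, hp⟩⟩
  haveI : IsProper (J.subschemeι ≫ f) := inferInstance
  have hF := isField_of_closed_image (J.subschemeι ≫ f) hs fun p =>
    hbase _ (specializes_iff_mem_closure.2 (hJr ▸ Set.mem_range_self p))
  let cb : Γ(J.subscheme, ⊤) := J.subschemeι.appLE O ⊤ (fun p _ => hJO p) b'
  have hgerm : ∀ (p : J.subscheme), IsUnit (J.subscheme.presheaf.germ ⊤ p trivial cb) ↔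
      IsUnit (X.presheaf.germ O (J.subschemeι.base p) (hJO p) b') := fun p => by
    rw [← Scheme.mem_basicOpen, ← Scheme.mem_basicOpen]
    show p ∈ J.subscheme.basicOpen _ ↔ _
    rw [Scheme.basicOpen_appLE]
    exact ⟨fun h => h.2, fun h => ⟨trivial, h⟩⟩
  obtain ⟨p₀, hp₀⟩ : ξ ∈ Set.range J.subschemeι := hJr ▸ subset_closure rfl
  obtain ⟨p₁, hp₁⟩ : x ∈ Set.range J.subschemeι := hJr ▸ specializes_iff_mem_closure.1 hxξ
  have hgerm' : ∀ (q : X) (y : Pt) (hq : q ∈ V y), X.presheaf.germ W q (hVW y hq) g =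
      τ q ^ n * X.presheaf.germ O q (le_iSup V y hq) b' := fun q y hq => by
    have h1 := congrArg (X.presheaf.germ (V y) q hq) (hb y)
    rw [map_mul, map_pow, TopCat.Presheaf.germ_res_apply, TopCat.Presheaf.germ_res_apply, ← hb' y] at h1
    erw [TopCat.Presheaf.germ_res_apply] at h1
    exact h1
  have huξ : ∀ (q : X) (hq : q ∈ O), q = ξ → IsUnit (X.presheaf.germ O q hq b') := by
    rintro q hq rfl
    have hyξ : q ∈ V ⟨q, specializes_rfl⟩ := hyV ⟨q, specializes_rfl⟩
    have h1 := hgerm' q ⟨q, specializes_rfl⟩ hyξ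
    have h2 := hgξ ⟨q, specializes_rfl⟩
    rw [hn] at h2
    have h3 : X.presheaf.germ O q hq b' = (X.presheaf.stalkSpecializes (specializes_rfl : q ⤳ q)).hom
        (c ⟨q, specializes_rfl⟩) := mul_left_cancel₀ (pow_ne_zero n (hτ0 q)) (h1.symm.trans h2)
    rw [h3]
    exact hcu ⟨q, specializes_rfl⟩
  have hu0 : IsUnit (J.subscheme.presheaf.germ ⊤ p₀ trivial cb) := (hgerm p₀).2 (huξ _ _ hp₀)
  have hcb : IsUnit cb := by
    letI := hF.toField
    refine isUnit_iff_ne_zero.2 fun e => ?_
    rw [e, map_zero] at hu0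
    exact not_isUnit_zero hu0
  have hu1 := (hgerm p₁).1 (hcb.map _)
  have hxO : x ∈ O := hp₁ ▸ hJO p₁
  have hux : IsUnit (X.presheaf.germ O x hxO b') := by
    rw [← Scheme.mem_basicOpen] at hu1 ⊢
    exact hp₁ ▸ hu1
  have huz := isUnit_germ_of_specializes b' hzx hxO hux
  have hzV : z ∈ V ⟨x, hxξ⟩ := hzx.mem_open (V _).isOpen (hyV ⟨x, hxξ⟩)
  rw [hgerm' z ⟨x, hxξ⟩ hzV]
  exact (hzu.pow n).mul huz

end Groth.Agent.ArSurfX
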