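import Groth.Agent.FlatMisc.SteinUC
import Groth.Agent.IsoNatLib.ProperInertia
import Groth.Agent.MeroX.BlowSpec
import Groth.Prelude.Def_Neron
import Mathlib.RingTheory.IntegralClosure.IsIntegral.Basic

/-!
# Sections of a proper modification with reduced special fibre

A proper morphism of flat schemes over a discrete valuation ring which is an isomorphism on generic fibres
and whose target has reduced special fibre induces isomorphisms on all sections.
-/

universe u

set_option linter.style.haveILetI false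
set_option backward.isDefEq.respectTransparency false
set_option backward.isDefEq.respectTransparency.types false

open CategoryTheory CategoryTheory.Limits AlgebraicGeometry IsLocalRing TopologicalSpace

namespace Groth.Agent.ArSurfX

open Groth.Agent

/-- If `b` is integral, `p ^ n * b` comes from `A` and `A / p A` is reduced, then `b` comes from `A`. -/
theorem exists_eq_of_isIntegral {A B : Type u} [CommRing A] [CommRing B] (φ : A →+* B)
    (hinj : Function.Injective φ) (p : A) (hp : ∀ b, φ p * b = 0 → b = 0)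
    (hred : ∀ (a : A) (m : ℕ), p ∣ a ^ m → p ∣ a) :
    ∀ (n : ℕ) (b : B), φ.IsIntegralElem b → (∃ a, φ a = φ p ^ n * b) → ∃ a, φ a = b := by
  intro n
  induction n with
  | zero => rintro b - ⟨a, ha⟩; exact ⟨a, by simpa using ha⟩
  | succ n ih =>
    rintro b hb ⟨a, ha⟩
    letI := φ.toAlgebra
    obtain ⟨q, hqm, hq⟩ := hb
    have hs : (Polynomial.scaleRoots q (p ^ (n + 1))).eval a = 0 := by
      refine hinj ?_
      rw [map_zero, ← Polynomial.eval₂_at_apply, ha, ← map_pow, Polynomial.scaleRoots_eval₂_mul, hq, mul_zero]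
    have hdiv : p ∣ a ^ q.natDegree := by
      rw [Polynomial.eval_eq_sum_range, Polynomial.natDegree_scaleRoots, Finset.sum_range_succ,
        Polynomial.coeff_scaleRoots_natDegree, hqm.leadingCoeff, one_mul, add_eq_zero_iff_eq_neg] at hs
      rw [← dvd_neg, ← hs]
      refine Finset.dvd_sum fun i hi => ?_
      rw [Polynomial.coeff_scaleRoots, ← pow_mul, mul_assoc]
      refine dvd_mul_of_dvd_right (dvd_mul_of_dvd_left (dvd_pow_self p ?_) _) _
      rw [Finset.mem_range] at hi
      exact Nat.mul_ne_zero (Nat.succ_ne_zero n) (Nat.sub_ne_zero_of_lt hi)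
    obtain ⟨a', rfl⟩ := hred a _ hdiv
    refine ih b ⟨q, hqm, hq⟩ ⟨a', ?_⟩
    have : φ p * (φ a' - φ p ^ n * b) = 0 := by
      rw [mul_sub, ← map_mul, ha, pow_succ', mul_assoc, sub_self]
    exact sub_eq_zero.1 (hp _ this)

variable {R : Type u} [CommRing R] [IsDomain R] [IsDiscreteValuationRing R]

/-- The function induced by `r ∈ R` on an open. -/
noncomputable def baseSec (X : Over (Spec (CommRingCat.of R))) (V : X.left.Opens) : R →+* Γ(X.left, V) :=
  ((X.left.presheaf.map (homOfLE (le_top : V ≤ ⊤)).op).hom).comp (MeroX.σ X.hom)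

theorem app_baseSec {X Y : Over (Spec (CommRingCat.of R))} (π : Y ⟶ X) (V : X.left.Opens) (r : R) :
    π.left.app V (baseSec X V r) = baseSec Y (π.left ⁻¹ᵁ V) r := by
  obtain ⟨z, rfl⟩ : ∃ z, (Scheme.ΓSpecIso (CommRingCat.of R)).hom z = r :=
    ⟨_, (Scheme.ΓSpecIso (CommRingCat.of R)).commRingCatIsoToRingEquiv.apply_symm_apply r⟩
  simp only [baseSec, MeroX.σ, CommRingCat.hom_comp, RingHom.comp_apply, Iso.hom_inv_id_apply]
  rw [← CommRingCat.comp_apply, ← CommRingCat.comp_apply, π.left.naturality]
  simp only [CommRingCat.comp_apply]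
  rw [show Y.hom.appTop = X.hom.appTop ≫ π.left.app ⊤ by rw [← Over.w π]; rfl]
  rfl

theorem baseSec_mul_eq_zero {X : Over (Spec (CommRingCat.of R))} [Flat X.hom] (U : X.left.Opens) {r : R}
    (hr : r ≠ 0) (b : Γ(X.left, U)) (h : baseSec X U r * b = 0) : b = 0 := by
  have hW : ∀ x : U, ∃ W : X.left.Opens, IsAffineOpen W ∧ x.1 ∈ W ∧ W ≤ U := fun x =>
    Opens.isBasis_iff_nbhd.1 X.left.isBasis_affineOpens x.2 |>.imp fun W hW => ⟨hW.1, hW.2⟩
  choose W hWaff hxW hWU using hW
  refine X.left.sheaf.eq_of_locally_eq' W U (fun x => homOfLE (hWU x))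
    (fun x hx => Opens.mem_iSup.2 ⟨⟨x, hx⟩, hxW ⟨x, hx⟩⟩) b 0 fun x => ?_
  change X.left.presheaf.map (homOfLE (hWU x)).op b = X.left.presheaf.map (homOfLE (hWU x)).op 0
  have hf : (baseSec X (W x)).Flat := by
    have h1 := X.hom.flat_appLE (isAffineOpen_top _) (hWaff x) (e := le_top)
    have h2 := RingHom.Flat.comp (RingHom.Flat.of_bijective
      ((Scheme.ΓSpecIso (CommRingCat.of R)).symm.commRingCatIsoToRingEquiv.bijective)) h1
    exact h2
  algebraize [baseSec X (W x)]
  have hreg : IsSMulRegular Γ(X.left, W x) r :=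
    IsSMulRegular.of_flat (fun a b hab => mul_left_cancel₀ hr hab)
  rw [map_zero]
  refine hreg ?_
  show r • _ = r • 0
  rw [smul_zero, Algebra.smul_def]
  have h3 := congrArg (X.left.presheaf.map (homOfLE (hWU x)).op) h
  rw [map_mul, map_zero] at h3
  refine Eq.trans (congrArg (· * _) ?_) h3
  show _ = X.left.presheaf.map _ (X.left.presheaf.map _ _)
  rw [← CommRingCat.comp_apply, ← X.left.presheaf.map_comp]
  rfl

/-- A function some power of which vanishes on the special fibre vanishes there. -/
theorem baseSec_dvd_of_dvd_pow (X : Over (Spec (CommRingCat.of R)))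
    [IsReduced (X.hom.fiber (closedPoint R))] {V : X.left.Opens} (hV : IsAffineOpen V) {ϖ : R}
    (hϖ : Irreducible ϖ) (a : Γ(X.left, V)) (m : ℕ) (h : baseSec X V ϖ ∣ a ^ m) : baseSec X V ϖ ∣ a := by
  let j := (Spec (CommRingCat.of R)).fromSpecResidueField (closedPoint R)
  haveI : IsClosedImmersion j := .of_isPreimmersion _ (by
    rw [Scheme.range_fromSpecResidueField]; exact IsLocalRing.isClosed_singleton_closedPoint R)
  have hker : (X.hom.fiberι (closedPoint R)).ker = j.ker.comap X.hom :=
    Scheme.IdealSheafData.ker_fst_of_isClosedImmersion j X.hom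
  haveI : IsClosedImmersion (X.hom.fiberι (closedPoint R)) :=
    inferInstanceAs (IsClosedImmersion (pullback.fst X.hom j))
  have hle : j.ker ≤ Curv2.idealSheaf R (maximalIdeal R) := by
    refine Scheme.IdealSheafData.le_of_isAffine ?_
    rw [Curv2.idealSheaf, Scheme.IdealSheafData.ofIdealTop_ideal]
    simp only [homOfLE_leOfHom, homOfLE_refl, op_id, CategoryTheory.Functor.map_id, CommRingCat.hom_id, Ideal.map_id]
    intro z hz
    set e := (Scheme.ΓSpecIso (CommRingCat.of R)).commRingCatIsoToRingEquiv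
    have : e z ∈ maximalIdeal R := by
      rw [IsLocalRing.mem_maximalIdeal]
      intro hu
      have hz' : j.appTop z = 0 := by
        rw [Scheme.Hom.ker_apply] at hz; exact hz
      have hu' : IsUnit z := by simpa using hu.map e.symm
      have h0 := hu'.map j.appTop.hom
      rw [hz'] at h0
      haveI : Nontrivial Γ(Spec ((Spec (CommRingCat.of R)).residueField (closedPoint R)), ⊤) :=
        (Scheme.ΓSpecIso _).commRingCatIsoToRingEquiv.nontrivial
      exact not_isUnit_zero h0
    have h2 := Ideal.mem_map_of_mem (Scheme.ΓSpecIso (CommRingCat.of R)).inv.hom this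
    rwa [show (Scheme.ΓSpecIso (CommRingCat.of R)).inv.hom (e z) = z from e.symm_apply_apply z] at h2
  have hI : ((Curv2.idealSheaf R (maximalIdeal R)).comap X.hom).ideal ⟨V, hV⟩ =
      Ideal.span {baseSec X V ϖ} := by
    rw [MeroX.ideal_comap_idealSheaf, hϖ.maximalIdeal_eq, Ideal.map_span, Set.image_singleton]
    rfl
  rw [← Ideal.mem_span_singleton]
  have hzero : (X.hom.fiberι (closedPoint R)).app V (baseSec X V ϖ) = 0 := by
    have h1 : baseSec X V ϖ ∈ ((Curv2.idealSheaf R (maximalIdeal R)).comap X.hom).ideal ⟨V, hV⟩ := by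
      rw [hI]; exact Ideal.mem_span_singleton_self _
    have hge : (Curv2.idealSheaf R (maximalIdeal R)).comap X.hom ≤ (X.hom.fiberι (closedPoint R)).ker := by
      rw [hker]
      refine Scheme.IdealSheafData.comap_mono _ (Scheme.IdealSheafData.le_of_isAffine ?_)
      intro z hz
      rw [Scheme.Hom.ker_apply]
      show j.appTop z = 0
      rw [Curv2.idealSheaf, Scheme.IdealSheafData.ofIdealTop_ideal] at hz
      simp only [homOfLE_leOfHom, homOfLE_refl, op_id, CategoryTheory.Functor.map_id, CommRingCat.hom_id, Ideal.map_id] at hz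
      obtain ⟨r, hr, rfl⟩ := (Ideal.mem_map_iff_of_surjective _
        (Scheme.ΓSpecIso (CommRingCat.of R)).symm.commRingCatIsoToRingEquiv.surjective).1 hz
      by_contra hne
      haveI : IsLocalRing Γ(Spec ((Spec (CommRingCat.of R)).residueField (closedPoint R)), ⊤) :=
        (Scheme.ΓSpecIso _).commRingCatIsoToRingEquiv.symm.isLocalRing
      have hu : IsUnit (j.appTop ((Scheme.ΓSpecIso (CommRingCat.of R)).inv r)) := by
        have := ((Ne.isUnit (a := (Scheme.ΓSpecIso _).commRingCatIsoToRingEquiv (j.appTop ((Scheme.ΓSpecIso (CommRingCat.of R)).inv r))))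
          fun e => hne ((Scheme.ΓSpecIso _).commRingCatIsoToRingEquiv.map_eq_zero_iff.1 e)).map
          (Scheme.ΓSpecIso _).commRingCatIsoToRingEquiv.symm
        simpa using this
      have hu' := Scheme.basicOpen_of_isUnit _ hu
      obtain ⟨q⟩ : Nonempty (Spec ((Spec (CommRingCat.of R)).residueField (closedPoint R))) := inferInstance
      have hq : q ∈ j ⁻¹ᵁ (Spec (CommRingCat.of R)).basicOpen ((Scheme.ΓSpecIso (CommRingCat.of R)).inv r) := by
        rw [Scheme.preimage_basicOpen]
        erw [hu']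
        trivial
      change j q ∈ (Spec (CommRingCat.of R)).basicOpen _ at hq
      rw [basicOpen_eq_of_affine', Iso.inv_hom_id_apply, show j q = closedPoint R from
        Scheme.fromSpecResidueField_apply _ _] at hq
      exact hq hr
    have h2 := hge ⟨V, hV⟩ h1
    rwa [Scheme.Hom.ker_apply] at h2
  have ha : (X.hom.fiberι (closedPoint R)).app V a = 0 := by
    refine IsReduced.eq_zero _ ⟨m, ?_⟩
    obtain ⟨c, hc⟩ := h
    rw [← map_pow, hc, map_mul, hzero, zero_mul]
  have h3 : a ∈ (X.hom.fiberι (closedPoint R)).ker.ideal ⟨V, hV⟩ := by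
    rw [Scheme.Hom.ker_apply]; exact ha
  rw [← hI]
  exact (Scheme.IdealSheafData.comap_mono _ hle : j.ker.comap X.hom ≤ _) ⟨V, hV⟩ (by show a ∈ (j.ker.comap X.hom).ideal ⟨V, hV⟩; rw [← hker]; exact h3)

theorem isIso_app_of_le_generic {X Y : Over (Spec (CommRingCat.of R))} (π : Y ⟶ X)
    (hgen : IsIso ((Neron.genericFibre R).map π)) (W : X.left.Opens)
    (hW : ∀ x ∈ W, (X.hom.base x).asIdeal = ⊥) : IsIso (π.left.app W) := by
  haveI := IsoNatLib.isOpenImmersion_generic R (FractionRing R)
  let g := Neron.genPt R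
  let iX := pullback.fst X.hom g
  let iY := pullback.fst Y.hom g
  let m := ((Neron.genericFibre R).map π).left
  haveI : IsIso m := by
    show IsIso ((Over.forget _).map ((Neron.genericFibre R).map π))
    infer_instance
  have hsq : m ≫ iX = iY ≫ π.left := pullback.lift_fst _ _ _
  have hWX : W ≤ iX.opensRange := fun x hx => by
    show x ∈ Set.range (pullback.fst X.hom g).base
    rw [Scheme.Pullback.range_fst]
    obtain ⟨q⟩ : Nonempty (Spec (CommRingCat.of (FractionRing R))) := inferInstance
    refine ⟨q, PrimeSpectrum.ext ?_⟩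
    rw [hW x hx]
    show Ideal.comap (algebraMap R (FractionRing R)) q.asIdeal = ⊥
    rw [show q.asIdeal = ⊥ from (Ideal.eq_bot_or_top q.asIdeal).resolve_right q.2.ne_top,
      ← RingHom.ker_eq_comap_bot, RingHom.ker_eq_bot_iff_eq_zero]
    exact fun r hr => IsFractionRing.to_map_eq_zero_iff.1 hr
  have hWY : π.left ⁻¹ᵁ W ≤ iY.opensRange := fun y hy => by
    show y ∈ Set.range (pullback.fst Y.hom g).base
    rw [Scheme.Pullback.range_fst]
    obtain ⟨q, hq⟩ : (X.hom.base (π.left.base y)) ∈ Set.range g.base := by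
      have := hWX hy
      change π.left.base y ∈ Set.range (pullback.fst X.hom g).base at this
      rwa [Scheme.Pullback.range_fst] at this
    exact ⟨q, by rw [hq, ← Scheme.Hom.comp_apply, Over.w π]⟩
  haveI : IsIso (iY.app (π.left ⁻¹ᵁ W)) := iY.isIso_app _ hWY
  haveI : IsIso ((iY ≫ π.left).app W) := by
    haveI : IsOpenImmersion (iY ≫ π.left) := by rw [← hsq]; infer_instance
    refine Scheme.Hom.isIso_app _ _ fun x hx => ?_
    obtain ⟨w, hw⟩ := hWX hx
    refine ⟨(inv m).base w, ?_⟩
    have e : inv m ≫ iY ≫ π.left = iX := by rw [← hsq, IsIso.inv_hom_id_assoc]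
    rw [← hw, ← e]
    rfl
  rw [Scheme.Hom.comp_app] at this
  exact IsIso.of_isIso_comp_right (π.left.app W) (iY.app (π.left ⁻¹ᵁ W))

/-- `O_X → π_* O_Y` is an isomorphism. -/
theorem isIso_app_of_reduced_specialFibre {X Y : Over (Spec (CommRingCat.of R))} [Flat X.hom] [Flat Y.hom]
    (π : Y ⟶ X) [IsProper π.left] (hgen : IsIso ((Neron.genericFibre R).map π))
    [IsReduced (X.hom.fiber (closedPoint R))] (W : X.left.Opens) : IsIso (π.left.app W) := by
  rw [ConcreteCategory.isIso_iff_bijective]
  refine FlatMisc.bijective_app_of_isBasis π.left X.left.isBasis_affineOpens (fun V hV => ?_) W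
  change IsAffineOpen V at hV
  obtain ⟨ϖ, hϖ⟩ := IsDiscreteValuationRing.exists_irreducible R
  set p := baseSec X V ϖ
  set φ := (π.left.app V).hom
  haveI : IsAffine V.toScheme := hV
  have hD : ∀ x ∈ X.left.basicOpen p, (X.hom.base x).asIdeal = ⊥ := by
    intro x hx
    have hx' : x ∈ X.left.basicOpen (MeroX.σ X.hom ϖ) := by
      have e : X.left.basicOpen p = V ⊓ X.left.basicOpen (MeroX.σ X.hom ϖ) := X.left.basicOpen_res _ _
      rw [e] at hx; exact hx.2
    change x ∈ X.left.basicOpen (X.hom.app ⊤ ((Scheme.ΓSpecIso (CommRingCat.of R)).inv ϖ)) at hx'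
    rw [← Scheme.preimage_basicOpen, basicOpen_eq_of_affine'] at hx'
    change _ ∉ (X.hom.base x).asIdeal at hx'
    rw [Iso.inv_hom_id_apply] at hx'
    by_contra hne
    have hmax := IsLocalRing.eq_maximalIdeal ((X.hom.base x).2.isMaximal hne)
    rw [hmax] at hx'
    exact hx' ((IsLocalRing.mem_maximalIdeal _).2 hϖ.not_isUnit)
  haveI := isIso_app_of_le_generic π hgen _ hD
  have hbij := ConcreteCategory.bijective_of_isIso (π.left.app (X.left.basicOpen p))
  have hres : ∀ a, π.left.app (X.left.basicOpen p) (X.left.presheaf.map (homOfLE (X.left.basicOpen_le p)).op a) =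
      Y.left.presheaf.map (homOfLE (π.left.preimage_mono (X.left.basicOpen_le p))).op (φ a) :=
    fun a => congr($(π.left.naturality (homOfLE (X.left.basicOpen_le p)).op) a)
  have hpY : ∀ b, φ p * b = 0 → b = 0 := fun b hb => by
    rw [show φ p = baseSec Y _ ϖ from app_baseSec π V ϖ] at hb
    exact baseSec_mul_eq_zero _ hϖ.ne_zero b hb
  have hinj : Function.Injective φ := by
    rw [injective_iff_map_eq_zero]
    intro a ha
    have h1 := hres a
    rw [ha, map_zero] at h1
    have h2 := hbij.1 (h1.trans (map_zero _).symm)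
    obtain ⟨n, hn⟩ := exists_of_res_eq_of_qcqs hV.isCompact hV.isQuasiSeparated (s := p) (f := a) (g := 0)
      (h2.trans (map_zero _).symm)
    rw [mul_zero] at hn
    have key : ∀ (k : ℕ) (x : Γ(X.left, V)), p ^ k * x = 0 → x = 0 := by
      intro k
      induction k with
      | zero => intro x hx; simpa using hx
      | succ k ih => intro x hx; exact baseSec_mul_eq_zero V hϖ.ne_zero x (ih _ (by rw [← mul_assoc, ← pow_succ]; exact hx))
    exact key n a hn
  refine ⟨hinj, fun b => ?_⟩
  have hint : φ.IsIntegral := by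
    haveI : UniversallyClosed (π.left ∣_ V) :=
      MorphismProperty.of_isPullback (isPullback_morphismRestrict π.left V).flip inferInstance
    have h1 := isIntegral_appTop_of_universallyClosed (π.left ∣_ V)
    rw [← Scheme.Hom.resLE_eq_morphismRestrict,
      RingHom.isIntegral_respectsIso.arrow_mk_iso_iff (arrowResLEAppIso π.left _ _ le_rfl), Scheme.Hom.appLE_eq_app] at h1
    exact h1
  obtain ⟨c, hc⟩ := hbij.2 (Y.left.presheaf.map (homOfLE (π.left.preimage_mono (X.left.basicOpen_le p))).op b)
  obtain ⟨n, a, ha⟩ := exists_eq_pow_mul_of_isAffineOpen X.left V hV p c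
  have hcomp := congrArg (π.left.app (X.left.basicOpen p)) ha
  rw [map_mul, map_pow, hc] at hcomp
  have e1 : Y.left.presheaf.map (homOfLE (π.left.preimage_mono (X.left.basicOpen_le p))).op (φ a) =
      Y.left.presheaf.map (homOfLE (π.left.preimage_mono (X.left.basicOpen_le p))).op (φ p ^ n * b) := by
    rw [← hres a, map_mul, map_pow, ← hres p]
    exact hcomp
  have hpre : π.left ⁻¹ᵁ X.left.basicOpen p = Y.left.basicOpen (φ p) := Scheme.preimage_basicOpen π.left p
  have e2 : Y.left.presheaf.map (homOfLE (Y.left.basicOpen_le (φ p))).op (φ a) =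
      Y.left.presheaf.map (homOfLE (Y.left.basicOpen_le (φ p))).op (φ p ^ n * b) := by
    have hc2 : ∀ x : Γ(Y.left, π.left ⁻¹ᵁ V), Y.left.presheaf.map (homOfLE hpre.ge).op
        (Y.left.presheaf.map (homOfLE (π.left.preimage_mono (X.left.basicOpen_le p))).op x) =
        Y.left.presheaf.map (homOfLE (Y.left.basicOpen_le (φ p))).op x := fun x => by
      rw [← CommRingCat.comp_apply, ← Y.left.presheaf.map_comp]
      rfl
    have h4 := congrArg (Y.left.presheaf.map (homOfLE hpre.ge).op) e1
    rwa [hc2, hc2] at h4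
  haveI : QuasiCompact π.left := inferInstance
  obtain ⟨k, hk⟩ := exists_of_res_eq_of_qcqs (π.left.isCompact_preimage hV.isCompact)
    (π.left.isQuasiSeparated_preimage hV.isQuasiSeparated) (s := φ p) e2
  refine exists_eq_of_isIntegral φ hinj p hpY (baseSec_dvd_of_dvd_pow X hV hϖ) (k + n) b (hint b)
    ⟨p ^ k * a, ?_⟩
  rw [map_mul, map_pow, hk, pow_add, mul_assoc]

end Groth.Agent.ArSurfX
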