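import Groth.Agent.S7890
import Groth.Agent.CDiv6.Factorial
import Groth.Agent.RegUFD.Basic
import Groth.Agent.DimFormula.DedekindFlat
import Groth.Prelude.Def_ArSurf
import Groth.Prelude.Def_ModelsG

/-!
# Points of a regular integral flat proper surface over a discrete valuation ring

Closed points have two-dimensional local rings; every other point of the special fibre has a one-dimensional one.
-/

universe u

set_option linter.style.haveILetI false
set_option backward.isDefEq.respectTransparency false
set_option backward.isDefEq.respectTransparency.types false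

open CategoryTheory CategoryTheory.Limits AlgebraicGeometry IsLocalRing Order

namespace Groth.Agent.ArSurfX

open Groth.Agent

variable {R : Type u} [CommRing R] [IsDomain R] [IsDiscreteValuationRing R]
  {X : Over (Spec (CommRingCat.of R))}

/-- A regular integral two-dimensional proper flat scheme over a discrete valuation ring. -/
structure IsSurf (X : Over (Spec (CommRingCat.of R))) : Prop where
  isIntegral : IsIntegral X.left
  isProper : IsProper X.hom
  flat : Flat X.hom
  regular : ∀ x : X.left, IsRegularLocalRing (X.left.presheaf.stalk x)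
  dim : topologicalKrullDim X.left = 2

theorem height_add_coheight_le_krullDim {α : Type*} [Preorder α] (a : α) :
    ((height a + coheight a : ℕ∞) : WithBot ℕ∞) ≤ krullDim α := by
  have : Nonempty α := ⟨a⟩
  rw [krullDim_eq_iSup_height_add_coheight_of_nonempty]
  exact WithBot.coe_le_coe.2 (le_iSup (fun b : α => height b + coheight b) a)

theorem isClosed_singleton_of_forall {α : Type*} [TopologicalSpace α] {x : α}
    (h : ∀ y, x ⤳ y → y = x) : IsClosed ({x} : Set α) := by
  rw [← closure_subset_iff_isClosed]
  exact fun y hy => h y (specializes_iff_mem_closure.2 hy)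

namespace IsSurf

variable (hX : IsSurf X)
include hX

theorem isLocallyNoetherian : IsLocallyNoetherian X.left :=
  haveI := hX.isProper
  LocallyOfFiniteType.isLocallyNoetherian X.hom

theorem isNoetherian : IsNoetherian X.left :=
  haveI := hX.isProper
  haveI := hX.isLocallyNoetherian
  haveI : CompactSpace X.left := QuasiCompact.compactSpace_of_compactSpace X.hom
  { }

theorem isDomain_stalk (x : X.left) : IsDomain (X.left.presheaf.stalk x) :=
  haveI := hX.regular x
  (RegUFD.ufd _).1

theorem ufd_stalk (x : X.left) :
    IsDomain (X.left.presheaf.stalk x) ∧ UniqueFactorizationMonoid (X.left.presheaf.stalk x) :=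
  haveI := hX.regular x
  RegUFD.ufd _

theorem krullDim_eq : krullDim X.left = 2 := by
  rw [← Order.krullDim_eq_of_orderIso (irreducibleSetEquivPoints (α := X.left))]
  exact hX.dim

theorem height_add_coheight_le (x : X.left) : height x + coheight x ≤ 2 := by
  have h := height_add_coheight_le_krullDim x
  rw [hX.krullDim_eq] at h
  exact WithBot.coe_le_coe.1 h

theorem apply_genericPoint :
    letI := hX.isIntegral
    (X.hom.base (genericPoint X.left)).asIdeal = ⊥ := by
  letI := hX.isIntegral
  haveI := hX.flat
  have hgen : GeneralizingMap X.hom.base := Flat.generalizingMap X.hom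
  obtain ⟨z, hz, hz'⟩ := hgen (b := (⟨⊥, Ideal.isPrime_bot⟩ : PrimeSpectrum R)) (a := genericPoint X.left)
    ((PrimeSpectrum.le_iff_specializes (⟨⊥, Ideal.isPrime_bot⟩ : PrimeSpectrum R) _).1 bot_le)
  have : genericPoint X.left = z := ((genericPoint_specializes z).antisymm hz).eq
  rw [this, hz']

theorem genericPoint_notMem :
    letI := hX.isIntegral
    X.hom.base (genericPoint X.left) ≠ closedPoint R := by
  intro h
  have h1 := hX.apply_genericPoint
  rw [h] at h1
  exact IsDiscreteValuationRing.not_a_field R h1

theorem denseRange : DenseRange X.hom.base := by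
  letI := hX.isIntegral
  intro p
  have hp : X.hom.base (genericPoint X.left) ⤳ p := by
    refine (PrimeSpectrum.le_iff_specializes (X.hom.base (genericPoint X.left)) p).1 ?_
    show (X.hom.base (genericPoint X.left)).asIdeal ≤ p.asIdeal
    rw [hX.apply_genericPoint]
    exact bot_le
  exact closure_mono (Set.singleton_subset_iff.2 (Set.mem_range_self _)) hp.mem_closure

theorem eq_closedPoint_of_isClosed {x : X.left} (hx : IsClosed ({x} : Set X.left)) :
    X.hom.base x = closedPoint R := by
  haveI := hX.isProper
  have h := X.hom.isClosedMap _ hx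
  rw [Set.image_singleton] at h
  exact PrimeSpectrum.ext (IsLocalRing.eq_maximalIdeal ((PrimeSpectrum.isClosed_singleton_iff_isMaximal _).1 h))

theorem coheight_pos {x : X.left} (hx : X.hom.base x = closedPoint R) : 1 ≤ coheight x := by
  letI := hX.isIntegral
  rw [Order.one_le_iff_pos, Order.coheight_pos, not_isMax_iff]
  refine ⟨genericPoint X.left, lt_iff_le_not_ge.2 ⟨genericPoint_specializes x, fun h => ?_⟩⟩
  exact hX.genericPoint_notMem ((((genericPoint_specializes x).antisymm h).eq).symm ▸ hx)

/-- There is a point of the generic fibre other than the generic point. -/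
theorem exists_generic_ne :
    letI := hX.isIntegral
    ∃ z : X.left, (X.hom.base z).asIdeal = ⊥ ∧ z ≠ genericPoint X.left := by
  letI := hX.isIntegral
  haveI := hX.isLocallyNoetherian
  obtain ⟨x, hx⟩ : ∃ x : X.left, 2 ≤ coheight x := by
    have h := hX.krullDim_eq
    by_contra hne
    push Not at hne
    have hle : ⨆ x : X.left, coheight x ≤ 1 := iSup_le fun x => ENat.lt_coe_add_one_iff.1 (hne x)
    rw [Order.krullDim_eq_iSup_coheight_of_nonempty, ← WithBot.coe_ofNat, WithBot.coe_inj] at h
    rw [h] at hle
    norm_num at hle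
  have hxc : IsClosed ({x} : Set X.left) := by
    refine isClosed_singleton_of_forall fun y hy => ?_
    by_contra hne
    have hlt : y < x := lt_iff_le_not_ge.2 ⟨hy, fun h => hne (h.antisymm hy).symm⟩
    have h1 : 1 ≤ height x := Order.one_le_iff_pos.2 (Order.height_pos.2 (not_isMin_iff.2 ⟨y, hlt⟩))
    have := (add_le_add h1 hx).trans (hX.height_add_coheight_le x)
    norm_num at this
  haveI := hX.isDomain_stalk x
  have hdim : (maximalIdeal (X.left.presheaf.stalk x)).height ≠ 1 ∧ 1 ≤ (maximalIdeal (X.left.presheaf.stalk x)).height := by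
    have h : (maximalIdeal (X.left.presheaf.stalk x)).height = coheight x := by
      have h1 := IsLocalRing.maximalIdeal_height_eq_ringKrullDim (R := X.left.presheaf.stalk x)
      rw [ringKrullDim_stalk_eq_coheight] at h1
      exact_mod_cast h1
    rw [h]
    exact ⟨fun e => by rw [e] at hx; norm_num at hx, le_trans (by norm_num) hx⟩
  obtain ⟨ϖ, hϖ⟩ := IsDiscreteValuationRing.exists_irreducible R
  let t : X.left.presheaf.stalk x := Models.stalkHom R X x ϖ
  have hbase := hX.eq_closedPoint_of_isClosed hxc
  have htx : ∀ (z : X.left) (hz : z ⤳ x),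
      (Models.stalkHom R X x ϖ ∈ (CDiv6.primeOf hz).asIdeal ↔ ϖ ∈ (X.hom.base z).asIdeal) := fun z hz => by
    rw [CDiv6.mem_primeOf]
    show ¬ IsUnit (X.left.presheaf.stalkSpecializes hz (X.left.presheaf.germ ⊤ x trivial (Coh.toGlobal X.hom ϖ))) ↔ _
    erw [TopCat.Presheaf.germ_stalkSpecializes_apply, ← Scheme.mem_basicOpen]
    show z ∉ X.left.basicOpen (X.hom.app ⊤ ((Scheme.ΓSpecIso (CommRingCat.of R)).inv ϖ)) ↔ _
    rw [← Scheme.preimage_basicOpen, basicOpen_eq_of_affine']
    simp only [Iso.inv_hom_id_apply]
    exact not_not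
  by_contra hall
  push Not at hall
  have ht0 : Models.stalkHom R X x ϖ ≠ 0 := fun e => by
    have := (htx _ (genericPoint_specializes x)).1 (e ▸ zero_mem _)
    rw [hX.apply_genericPoint] at this
    exact hϖ.ne_zero (Ideal.mem_bot.1 this)
  have hmax : ∀ z : X.left, X.hom.base z ≠ closedPoint R → (X.hom.base z).asIdeal = ⊥ := fun z hz => by
    by_contra hne
    exact hz (PrimeSpectrum.ext (IsLocalRing.eq_maximalIdeal ((X.hom.base z).2.isMaximal hne)))
  have hle := S7890.height_le_one (maximalIdeal _) _ ht0 (fun hu => ?_) fun Q hQ _ hQ0 => ?_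
  · exact hdim.1 (le_antisymm hle hdim.2)
  · have : x ∈ X.left.basicOpen (Coh.toGlobal X.hom ϖ) := by
      rw [Scheme.mem_basicOpen _ _ x (TopologicalSpace.Opens.mem_top x)]; exact hu
    have h2 := (htx x specializes_rfl).2 (by rw [hbase]; exact (IsLocalRing.mem_maximalIdeal _).2 hϖ.not_isUnit)
    rw [CDiv6.mem_primeOf, TopCat.Presheaf.stalkSpecializes_refl] at h2
    exact h2 hu
  · haveI := hQ
    obtain ⟨y, hyx, hyQ⟩ : ∃ (y : X.left) (h : y ⤳ x), (CDiv6.primeOf h).asIdeal = Q :=
      ⟨_, CDiv6.fromSpecStalk_specializes ⟨Q, hQ⟩, congrArg PrimeSpectrum.asIdeal (CDiv6.primeOf_fromSpecStalk _)⟩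
    rw [← hyQ, htx y hyx]
    by_contra hy
    have hyb : (X.hom.base y).asIdeal = ⊥ := hmax y fun e => hy (by
      rw [e]; exact (IsLocalRing.mem_maximalIdeal _).2 hϖ.not_isUnit)
    have := hall y hyb
    apply hQ0
    subst this
    rw [← hyQ, eq_bot_iff]
    intro a ha
    have e : CDiv6.primeOf hyx = ⟨⊥, Ideal.isPrime_bot⟩ :=
      (X.left.fromSpecStalk x).isEmbedding.injective (by
        rw [CDiv6.fromSpecStalk_primeOf, DimFormula.fromSpecStalk_bot])
    rwa [e] at ha

theorem coheight_of_isClosed {x : X.left} (hx : IsClosed ({x} : Set X.left)) : coheight x = 2 := by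
  letI := hX.isIntegral
  haveI := hX.isProper
  refine le_antisymm (le_add_self.trans (hX.height_add_coheight_le x)) ?_
  have hb := hX.eq_closedPoint_of_isClosed hx
  obtain ⟨z, hzb, hzc, hzx⟩ := S7890.result X.hom hX.denseRange x hx
    (by rw [hb]; exact IsLocalRing.maximalIdeal.isMaximal R)
  have hne : z ≠ genericPoint X.left := fun e => by
    obtain ⟨w, hw, hw'⟩ := hX.exists_generic_ne
    exact hw' ((hzc w hw (e ▸ genericPoint_specializes w)).trans e)
  have hzx' : x ≠ z := fun e => IsDiscreteValuationRing.not_a_field R (by rw [← hzb, ← e, hb]; rfl)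
  have h1 : z < genericPoint X.left :=
    lt_iff_le_not_ge.2 ⟨genericPoint_specializes z, fun h => hne ((genericPoint_specializes z).antisymm h).eq.symm⟩
  have h2 : x < z := lt_iff_le_not_ge.2 ⟨hzx, fun h => hzx' (hzx.antisymm h).eq.symm⟩
  have h3 := Order.coheight_add_one_le h1
  have h4 := Order.coheight_add_one_le h2
  calc (2 : ℕ∞) = 0 + 1 + 1 := by norm_num
    _ ≤ coheight (genericPoint X.left) + 1 + 1 := by gcongr; exact zero_le
    _ ≤ coheight z + 1 := by gcongr
    _ ≤ coheight x := h4

/-- A non-closed point of the special fibre has a one-dimensional local ring. -/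
theorem coheight_eq_one {x : X.left} (hb : X.hom.base x = closedPoint R)
    (hx : ¬ IsClosed ({x} : Set X.left)) : coheight x = 1 ∧ height x = 1 := by
  have h1 := hX.coheight_pos hb
  have h2 : 1 ≤ height x := by
    rw [Order.one_le_iff_pos, Order.height_pos, not_isMin_iff]
    by_contra hc
    push Not at hc
    refine hx (isClosed_singleton_of_forall fun y hy => ?_)
    by_contra hne
    exact hc y (lt_iff_le_not_ge.2 ⟨hy, fun h => hne (h.antisymm hy).symm⟩)
  have h := hX.height_add_coheight_le x
  constructor
  · refine le_antisymm ?_ h1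
    have := (add_le_add h2 le_rfl).trans h
    rw [add_comm, show (2 : ℕ∞) = 1 + 1 by norm_num] at this
    exact (ENat.add_le_add_iff_right ENat.one_ne_top).1 this
  · refine le_antisymm ?_ h2
    have := (add_le_add le_rfl h1).trans h
    rw [show (2 : ℕ∞) = 1 + 1 by norm_num] at this
    exact (ENat.add_le_add_iff_right ENat.one_ne_top).1 this

theorem coheight_le_two (x : X.left) : coheight x ≤ 2 := le_add_self.trans (hX.height_add_coheight_le x)

end IsSurf

end Groth.Agent.ArSurfX
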